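/-
Standard subgroups `A` with centre of order two whose centralizer has cyclic Sylow 2-subgroups and `N(A) = A C(A)`:
reduction to a fusion problem inside `A`.
-/
import Cfsg.Agent.Even.Amb
import Cfsg.Agent.Grp.SylowIn
import Cfsg.Agent.Inv.ZStar
import Cfsg.Agent.Inv.BF3
import Cfsg.Agent.Loc.Bal2
import Cfsg.Prelude.Def_Local
import Cfsg.Prelude.Def_KGroupFacts

set_option autoImplicit false

open Cfsg Subgroup CL.Even CL.Grp
open scoped commutatorElement Pointwise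

namespace CL.TE

variable {G : Type*} [Group G] [Finite G]

/-- `C(z) = A C(A)`, `A ∩ C(A) = ⟨z⟩`, and `C(A)` has cyclic Sylow 2-subgroups. -/
structure Cfg (A : Subgroup G) (z : G) : Prop where
  ord : orderOf z = 2
  mem : z ∈ A
  cen : z ∈ 𝒞(A)
  inf : ∀ x ∈ A, x ∈ 𝒞(A) → x = 1 ∨ x = z
  cyc : ∀ P : Subgroup G, IsSylowIn 2 P 𝒞(A) → IsCyclic P
  dec : ∀ h : G, h * z = z * h → ∃ a ∈ A, ∃ k ∈ 𝒞(A), h = a * k

namespace Cfg

variable {A : Subgroup G} {z : G}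

omit [Finite G] in
theorem sq (h : Cfg A z) : z * z = 1 := by rw [← pow_two, ← h.ord, pow_orderOf_eq_one]

omit [Finite G] in
theorem two_elt (h : Cfg A z) {y : G} (hy : y ∈ 𝒞(A)) {j : ℕ} (hj : y ^ 2 ^ j ∈ A) : y ^ 2 ^ (j + 1) = 1 := by
  rw [pow_succ, pow_mul, pow_two]
  rcases h.inf _ hj (pow_mem hy _) with e | e <;> rw [e]
  exacts [mul_one 1, h.sq]

theorem exists_exp (h : Cfg A z) : ∃ m : ℕ, (∀ y ∈ 𝒞(A), ∀ j : ℕ, y ^ 2 ^ j = 1 → y ^ 2 ^ m = 1 ∨ y ^ 2 ^ m = z) ∧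
    ∀ F : Subgroup G, IsPGroup 2 F → F ≤ centralizer {z} → ∃ r ∈ 𝒞(A), r ∈ 𝒞(F) ∧ r ^ 2 ^ m = z := by
  obtain ⟨R, hR⟩ := exists_isSylowIn 2 𝒞(A)
  have hzp : IsPGroup 2 (zpowers z) := IsPGroup.of_card (n := 1) (by rw [Nat.card_zpowers, h.ord]; rfl)
  have hz : ∀ P, IsSylowIn 2 P 𝒞(A) → z ∈ P := fun P hP =>
    hP.le_of_normalized hzp (zpowers_le.2 h.cen)
      ((cent_mono (zpowers_le.2 h.mem)).trans (cent_le_norm _)) (mem_zpowers z)
  have huniq : ∀ P, IsSylowIn 2 P 𝒞(A) → ∀ y ∈ P, y * y = 1 → y = 1 ∨ y = z := fun P hP y hy h2 => by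
    by_cases h1 : y = 1
    · exact .inl h1
    · exact .inr (CL.Inv.eq_of_invol_of_mem_isCyclic (h.cyc P hP) hy (hz P hP)
        (orderOf_eq_prime (by rw [pow_two, h2]) h1) h.ord)
  obtain ⟨n, hn⟩ := hR.isPGroup.exists_card_eq
  obtain ⟨m, rfl⟩ : ∃ m, n = m + 1 := by
    refine Nat.exists_eq_add_one.2 (Nat.pos_of_ne_zero fun h0 => ?_)
    rw [h0, pow_zero, card_eq_one] at hn
    have := hz R hR
    rw [hn, mem_bot] at this
    exact absurd h.ord (by rw [this, orderOf_one]; norm_num)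
  have hpow : ∀ P, IsSylowIn 2 P 𝒞(A) → ∀ y ∈ P, y ^ 2 ^ m * y ^ 2 ^ m = 1 := fun P hP y hy => by
    rw [← pow_two, ← pow_mul, ← pow_succ, ← hn, hR.card_eq hP]
    exact congrArg Subtype.val (pow_card_eq_one' (x := (⟨y, hy⟩ : P)))
  refine ⟨m, fun y hy j hj => ?_, fun F hF hFz => ?_⟩
  · obtain ⟨P, hP, hyP⟩ := exists_isSylowIn_ge (p := 2) (U := zpowers y) (isPGroup_iff_forall.2 fun x hx => ⟨j, by
      obtain ⟨i, rfl⟩ := hx
      rw [← zpow_natCast, ← zpow_mul, mul_comm, zpow_mul, zpow_natCast, hj, one_zpow]⟩) (zpowers_le.2 hy)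
    exact huniq P hP _ (pow_mem (hyP (mem_zpowers y)) _) (hpow P hP y (hyP (mem_zpowers y)))
  · have hFA : F ≤ 𝒩(A) := fun f hf => by
      obtain ⟨a, ha, k, hk, rfl⟩ := h.dec f (mem_centralizer_singleton_iff.1 (hFz hf))
      exact mul_mem (le_normalizer ha) (cent_le_norm _ hk)
    have hY : IsPGroup 2 ((F ⊔ A) ⊓ 𝒞(A) : Subgroup G) := isPGroup_iff_forall.2 fun y hy => by
      obtain ⟨f, hf, a, ha, e⟩ := (mem_sup_nr hFA).1 hy.1
      obtain ⟨j, hj⟩ := isPGroup_iff_forall.1 hF f hf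
      obtain ⟨a', ha', e'⟩ := exists_mul_pow_eq (hFA hf) ha (2 ^ j)
      exact ⟨j + 1, h.two_elt hy.2 (by rw [← e, e', hj, one_mul]; exact ha')⟩
    obtain ⟨P, hP, hYP⟩ := exists_isSylowIn_ge hY inf_le_right
    obtain ⟨r, hr⟩ := (h.cyc P hP).exists_generator
    have hc : ∀ y ∈ P, y * r = r * y := fun y hy => by
      obtain ⟨i, hi⟩ := hr ⟨y, hy⟩
      have : y = (r : G) ^ i := (congrArg Subtype.val hi).symm
      rw [this]
      exact (Commute.zpow_left rfl i)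
    refine ⟨r, hP.le r.2, mem_centralizer_iff.2 fun f hf => ?_, ?_⟩
    · obtain ⟨a, ha, k, hk, e⟩ := h.dec f (mem_centralizer_singleton_iff.1 (hFz hf))
      have hk' : k ∈ P := hYP ⟨by
        rw [show k = a⁻¹ * f by rw [e]; group]
        exact mul_mem (mem_sup_right (inv_mem ha)) (mem_sup_left hf), hk⟩
      rw [e, mul_assoc, hc k hk', ← mul_assoc, comm_of_mem (hP.le r.2) ha, mul_assoc]
    · refine (huniq P hP _ (pow_mem r.2 _) (hpow P hP r r.2)).resolve_left fun h1 => ?_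
      have h2 : orderOf r = 2 ^ (m + 1) := by
        rw [orderOf_eq_card_of_forall_mem_zpowers hr, ← hn, hR.card_eq hP]
      have h3 := orderOf_dvd_of_pow_eq_one h1
      rw [orderOf_coe, h2, Nat.pow_dvd_pow_iff_le_right one_lt_two] at h3
      omega

omit [Finite G] in
theorem pow_mul_cent {x y : G} (hx : x ∈ A) (hy : y ∈ 𝒞(A)) (n : ℕ) : (x * y) ^ n = x ^ n * y ^ n :=
  Commute.mul_pow (comm_of_mem hy hx) n

/-- The conjugates of `z` commuting with `z` lie in `A`. -/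
theorem conj_mem (h : Cfg A z) {g : G} (hg : g * z * g⁻¹ * z = z * (g * z * g⁻¹)) : g * z * g⁻¹ ∈ A := by
  obtain ⟨m, hW, hQ⟩ := h.exists_exp
  have hs : g⁻¹ * z * g * z = z * (g⁻¹ * z * g) := by
    rw [← (MulAut.conj g).injective.eq_iff]
    simp only [map_mul, map_inv, MulAut.conj_apply]
    calc _ = z * (g * z * g⁻¹) := by group
      _ = g * z * g⁻¹ * z := hg.symm
      _ = _ := by group
  have h2 : IsPGroup 2 (zpowers (g⁻¹ * z * g)) := IsPGroup.of_card (n := 1) (by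
    rw [Nat.card_zpowers, show g⁻¹ * z * g = MulAut.conj g⁻¹ z by simp, MulEquiv.orderOf_eq, h.ord]; rfl)
  obtain ⟨r, hr, hrs, e⟩ := hQ _ h2 (zpowers_le.2 (mem_centralizer_singleton_iff.2 hs))
  have hc := comm_of_mem hrs (mem_zpowers _)
  obtain ⟨x, hx, y, hy, e'⟩ := h.dec (g * r * g⁻¹) (by
    calc _ = g * (r * (g⁻¹ * z * g)) * g⁻¹ := by group
      _ = _ := by rw [← hc]; group)
  have e1 : g * z * g⁻¹ = x ^ 2 ^ m * y ^ 2 ^ m := by rw [← pow_mul_cent hx hy, ← e', conj_pow, e]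
  have e2 : y ^ 2 ^ (m + 1) ∈ A := by
    have : x ^ 2 ^ (m + 1) * y ^ 2 ^ (m + 1) = 1 := by
      rw [← pow_mul_cent hx hy, ← e', conj_pow, pow_succ, pow_mul, e, pow_two, h.sq, mul_one, mul_inv_cancel]
    rw [eq_inv_of_mul_eq_one_right this]
    exact inv_mem (pow_mem hx _)
  rw [e1]
  rcases hW y hy _ (h.two_elt hy e2) with e3 | e3 <;> rw [e3]
  exacts [mul_mem (pow_mem hx _) (one_mem _), mul_mem (pow_mem hx _) h.mem]

/-- If `z` is not isolated then the 2-elements of `C(z)` lie in `A`. -/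
theorem two_mem (h : Cfg A z)
    (hE : ∀ t ∈ A, t * t = 1 → ∃ E ≤ A ⊓ centralizer {t}, IsPGroup 2 E ∧ ∀ x ∈ A, x ∈ 𝒞(E) → x * x = 1)
    {g : G} (hg : g * z * g⁻¹ * z = z * (g * z * g⁻¹)) (hne : g * z * g⁻¹ ≠ z) {w : G} {j : ℕ}
    (hw : w ^ 2 ^ j = 1) (hwz : w * z = z * w) : w ∈ A := by
  obtain ⟨m, hW, hQ⟩ := h.exists_exp
  rcases m with _ | m
  · obtain ⟨x, hx, y, hy, rfl⟩ := h.dec w hwz
    rw [pow_mul_cent hx hy] at hw
    have := hW y hy _ (h.two_elt hy (eq_inv_of_mul_eq_one_right hw ▸ inv_mem (pow_mem hx _)))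
    rw [pow_zero, pow_one] at this
    rcases this with e | e <;> rw [e]
    exacts [mul_mem hx (one_mem _), mul_mem hx h.mem]
  exfalso
  have ht := h.conj_mem hg
  have hs : g⁻¹ * z * g⁻¹⁻¹ ∈ A := h.conj_mem (by
    rw [← (MulAut.conj g).injective.eq_iff]
    simp only [map_mul, map_inv, MulAut.conj_apply]
    calc _ = z * (g * z * g⁻¹) := by group
      _ = g * z * g⁻¹ * z := hg.symm
      _ = _ := by group)
  obtain ⟨E, hEA, hE2, hE⟩ := hE _ ht (by rw [conj_mul, h.sq, mul_one, mul_inv_cancel])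
  obtain ⟨r, hr, hrE, e⟩ := hQ (cj g⁻¹ E) (isPGroup_cj hE2 _) fun f hf => by
    have := mem_centralizer_singleton_iff.1 (hEA (mem_cj.1 hf)).2
    refine mem_centralizer_singleton_iff.2 ((MulAut.conj g).injective ?_)
    simp only [map_mul, MulAut.conj_apply]
    simpa using this
  have hc := comm_of_mem hr hs
  obtain ⟨x, hx, y, hy, e'⟩ := h.dec (g * r * g⁻¹) (by
    calc _ = g * (r * (g⁻¹ * z * g⁻¹⁻¹)) * g⁻¹ := by group
      _ = _ := by rw [← hc]; group)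
  have hx2 : x * x = 1 := hE x hx (mem_centralizer_iff.2 fun f hf => by
    have h1 := comm_of_mem hrE (conj_mem_cj g⁻¹ hf)
    have h2 : f * (g * r * g⁻¹) = g * r * g⁻¹ * f := by
      calc _ = g * (g⁻¹ * f * g⁻¹⁻¹ * r) * g⁻¹ := by group
        _ = _ := by rw [h1]; group
    rw [e', mul_assoc x, ← comm_of_mem hy (hEA hf).1, ← mul_assoc, ← mul_assoc] at h2
    exact mul_right_cancel h2)
  have e1 : g * z * g⁻¹ = y ^ 2 ^ (m + 1) := by
    rw [← e, ← conj_pow, e', pow_mul_cent hx hy, pow_succ', pow_mul, pow_two, hx2, one_pow, one_mul]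
  rcases h.inf _ ht (e1 ▸ pow_mem hy _) with e2 | e2
  · rw [conj_eq_one_iff] at e2
    exact absurd h.ord (by rw [e2, orderOf_one]; norm_num)
  · exact hne e2

end Cfg

omit [Finite G] in
theorem cfg_of_standard {A : Subgroup G} (hA : IsStandardSubgroup A)
    (hR : ∀ R : Sylow 2 𝒞(A), IsCyclic (R : Subgroup 𝒞(A))) (hZ : Nat.card (center A) = 2)
    (hO : Nat.card (Out (A ⧸ center A)) = 1) : ∃ z, Cfg A z ∧ centralizer {z} ≤ 𝒩(A) := by
  obtain ⟨z, hz1, hz⟩ := (Nat.card_eq_two_iff' (1 : center A)).1 hZ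
  have hcen : ∀ {x : A}, x ∈ center A ↔ (x : G) ∈ 𝒞(A) := fun {x} => by
    rw [mem_center_iff, mem_centralizer_iff]
    exact ⟨fun h y hy => congrArg Subtype.val (h ⟨y, hy⟩), fun h y => Subtype.ext (h y y.2)⟩
  have ho : orderOf ((z : A) : G) = 2 := by
    rw [orderOf_coe, orderOf_coe]
    exact orderOf_eq_prime (hZ ▸ pow_card_eq_one') hz1
  have hzc := hcen.1 z.2
  have hN : centralizer {((z : A) : G)} ≤ 𝒩(A) := fun g hg => by
    rw [hA.2.2.2]
    by_contra hn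
    refine (hA.2.1.2 g hn).not_two_dvd_nat (ho ▸ orderOf_dvd_natCard _ ⟨hzc, ?_⟩)
    exact ⟨_, hzc, mul_inv_eq_of_eq_mul (mem_centralizer_singleton_iff.1 hg)⟩
  refine ⟨(z : A), ⟨ho, z.1.2, hzc, fun x hx hc => ?_, fun P hP => ?_, fun h hh => ?_⟩, hN⟩
  · by_cases h1 : x = 1
    · exact .inl h1
    · exact .inr (congrArg (fun y : center A => ((y : A) : G)) (hz ⟨⟨x, hx⟩, hcen.2 hc⟩ fun e =>
        h1 (congrArg (fun y : center A => ((y : A) : G)) e)))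
  · have : IsCyclic (P.subgroupOf 𝒞(A)) := hR hP.toSylow
    exact isCyclic_of_surjective _ (subgroupOfEquivOfLe hP.le).surjective
  · have hper : ⁅A, A⁆ = A := by
      have := hA.1.1.commutator_eq_top
      rw [← map_subtype_commutator, this, ← MonoidHom.range_eq_map, range_subtype]
    have hrep := CL.Loc.isAutRep_center hper
    have hh' := hN (mem_centralizer_singleton_iff.2 hh)
    have : Subsingleton (Out (A ⧸ center A)) := (Nat.card_eq_one_iff_unique.1 hO).1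
    obtain ⟨k, hk⟩ := (QuotientGroup.eq_one_iff _).1 (Subsingleton.elim
      (((CL.Loc.autQuot (center A)).comp A.normalizerMonoidHom ⟨h, hh'⟩ : MulAut _) : Out (A ⧸ center A)) 1)
    obtain ⟨l, hl, e⟩ := hrep.inn k
    refine ⟨l, hl, l⁻¹ * h, hrep.ker ((⟨l, le_normalizer hl⟩ : 𝒩(A))⁻¹ * ⟨h, hh'⟩) ?_, by group⟩
    rw [map_mul, map_inv, e, hk, inv_mul_cancel]

/-- `ι` embeds `X` so that the 2-elements commuting with the image of `z` lie in the image. -/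
structure Amb {X : Type*} [Group X] (ι : X →* G) (z : X) : Prop where
  inj : Function.Injective ι
  two : ∀ (w : G) (j : ℕ), w ^ 2 ^ j = 1 → w * ι z = ι z * w → w ∈ ι.range

omit [Finite G] in
theorem card_out_congr {G' : Type*} [Group G'] (f : G ≃* G') : Nat.card (Out G) = Nat.card (Out G') := by
  refine Nat.card_congr (QuotientGroup.congr (Inn G) (Inn G') (MulAut.congr f) ?_).toEquiv
  ext β
  constructor
  · rintro ⟨_, ⟨g, rfl⟩, rfl⟩
    exact ⟨f g, by ext x; simp⟩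
  · rintro ⟨g, rfl⟩
    exact ⟨MulAut.conj (f.symm g), ⟨_, rfl⟩, by ext x; simp⟩

/-- The reduction. -/
theorem normal_of_standard (hG : oddCore G = ⊥) {A : Subgroup G} (hA : IsStandardSubgroup A)
    (hR : ∀ R : Sylow 2 𝒞(A), IsCyclic (R : Subgroup 𝒞(A))) {X : Type*} [Group X] (e : A ≃* X) {z : X}
    (hz : orderOf z = 2) (hZ : ∀ x, x ∈ center X ↔ x = 1 ∨ x = z) (hO : Nat.card (Out (X ⧸ center X)) = 1)
    (hE : ∀ t : X, t * t = 1 → ∃ E ≤ centralizer {t}, IsPGroup 2 E ∧ ∀ x ∈ 𝒞(E), x * x = 1)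
    (hF : ∀ ι : X →* G, Amb ι z → ∀ g t, g * ι z * g⁻¹ = ι t → t = z) : A.Normal := by
  have hz1 : z ≠ 1 := fun h => by rw [h, orderOf_one] at hz; omega
  have hc : ∀ x : A, x ∈ center A ↔ e x ∈ center X := fun x => by
    rw [mem_center_iff, mem_center_iff]
    exact ⟨fun h y => by rw [← e.apply_symm_apply y, ← map_mul, ← map_mul, h],
      fun h y => e.injective (by rw [map_mul, map_mul, h])⟩
  obtain ⟨w, h, hN⟩ := cfg_of_standard hA hR (by
    refine (Nat.card_eq_two_iff' (1 : center A)).2 ⟨⟨e.symm z, (hc _).2 ((hZ _).2 (.inr (by simp)))⟩, fun h => ?_,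
      fun y hy => ?_⟩
    · exact hz1 (by simpa using congrArg (fun y : center A => e y) h)
    · rcases (hZ _).1 ((hc _).1 y.2) with h | h
      · exact absurd (Subtype.ext (by simpa using h)) hy
      · exact Subtype.ext (e.eq_symm_apply.2 h))
    ((card_out_congr (QuotientGroup.congr (center A) (center X) e (Subgroup.ext fun x =>
      ⟨fun ⟨y, hy, h⟩ => h ▸ (hc y).1 hy, fun h => ⟨e.symm x, (hc _).2 (by simpa using h), by simp⟩⟩))).trans hO)
  set ι : X →* G := A.subtype.comp e.symm.toMonoidHom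
  have hι : ∀ x, ι x = e.symm x := fun _ => rfl
  have hinj : Function.Injective ι := Subtype.val_injective.comp e.symm.injective
  have hr : ∀ {x : G}, x ∈ ι.range ↔ x ∈ A := fun {x} =>
    ⟨fun ⟨y, hy⟩ => hy ▸ (e.symm y).2, fun hx => ⟨e ⟨x, hx⟩, by simp [hι]⟩⟩
  have hw : ι z = w := by
    refine (h.inf _ (hr.1 ⟨z, rfl⟩) (mem_centralizer_iff.2 fun y hy => ?_)).resolve_left fun h1 =>
      hz1 (hinj (h1.trans ι.map_one.symm))
    obtain ⟨y, rfl⟩ := hr.2 hy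
    rw [← map_mul, ← map_mul, mem_center_iff.1 ((hZ z).2 (.inr rfl))]
  by_cases hi : IsIsolatedInvolution w
  · have := mem_center_iff.1 (CL.Inv.zstar_mem_center hG hi)
    exact normalizer_eq_top_iff.1 (top_le_iff.1 fun g _ => hN (mem_centralizer_singleton_iff.2 (this g)))
  exfalso
  obtain ⟨g, hg, hne⟩ : ∃ g : G, Commute w (g * w * g⁻¹) ∧ g * w * g⁻¹ ≠ w := by
    by_contra hcon
    push Not at hcon
    exact hi ⟨h.ord, hcon⟩
  obtain ⟨t, ht⟩ := hr.2 (h.conj_mem hg.symm)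
  refine hne (ht.symm.trans ((congrArg ι (hF ι ⟨hinj, fun v j hv hvz => hr.2 (h.two_mem (fun t ht h2 => ?_)
    hg.symm hne hv (hw ▸ hvz))⟩ g t (by rw [hw, ht]))).trans hw))
  obtain ⟨t, rfl⟩ := hr.2 ht
  obtain ⟨E, hEt, hE2, hE⟩ := hE t (hinj (by rw [map_mul, h2, map_one]))
  refine ⟨E.map ι, ?_, hE2.map ι, fun x hx hc => ?_⟩
  · rintro _ ⟨y, hy, rfl⟩
    exact ⟨hr.1 ⟨y, rfl⟩, mem_centralizer_singleton_iff.2 (by
      rw [← map_mul, ← map_mul, mem_centralizer_singleton_iff.1 (hEt hy)])⟩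
  · obtain ⟨x, rfl⟩ := hr.2 hx
    rw [← map_mul, hE x (mem_centralizer_iff.2 fun y hy => hinj (by
      rw [map_mul, map_mul, comm_of_mem hc (mem_map_of_mem ι hy)])), map_one]

namespace Amb

variable {X : Type*} [Group X] {ι : X →* G} {z t : X} {g : G}

omit [Finite G] in
theorem pull (h : Amb ι z) (hg : g * ι z * g⁻¹ = ι t) {x : X} {j : ℕ} (hx : x ^ 2 ^ j = 1) (hc : x * t = t * x) :
    ∃ y, g * ι y * g⁻¹ = ι x := by
  obtain ⟨y, hy⟩ := h.two (g⁻¹ * ι x * g⁻¹⁻¹) j (by rw [conj_pow, ← map_pow, hx, map_one, mul_one, mul_inv_cancel])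
    (by
      calc _ = g⁻¹ * (ι x * (g * ι z * g⁻¹)) * g := by group
        _ = g⁻¹ * (g * ι z * g⁻¹ * ι x) * g := by rw [hg, ← map_mul, hc, map_mul]
        _ = _ := by group)
  exact ⟨y, by rw [hy]; group⟩

omit [Finite G] in
/-- A Sylow 2-subgroup centralizing a conjugate `t` of `z` has an automorphism sending `t` to `z`. -/
theorem exists_aut [Finite X] (h : Amb ι z) (hz : z ∈ center X) (hg : g * ι z * g⁻¹ = ι t) {T : Subgroup X}
    (hT : IsSylowIn 2 T ⊤) (hTt : T ≤ centralizer {t}) :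
    ∃ k : G, k * ι t * k⁻¹ = ι z ∧ ∀ x ∈ T, ∃ y ∈ T, k * ι x * k⁻¹ = ι y := by
  have h2 : IsPGroup 2 ((cj g⁻¹ (T.map ι)).comap ι) :=
    (isPGroup_cj (hT.isPGroup.map ι) _).comap_of_injective ι h.inj
  obtain ⟨c, -, hc⟩ := hT.exists_conj_le h2 le_top
  refine ⟨ι c * g⁻¹, ?_, fun x hx => ?_⟩
  · rw [← hg, show ι c * g⁻¹ * (g * ι z * g⁻¹) * (ι c * g⁻¹)⁻¹ = ι c * ι z * (ι c)⁻¹ by group, ← map_inv,
      ← map_mul, ← map_mul, mem_center_iff.1 hz, mul_inv_cancel_right]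
  · obtain ⟨j, hj⟩ := isPGroup_iff_forall.1 hT.isPGroup x hx
    obtain ⟨y, hy⟩ := h.pull hg hj (mem_centralizer_singleton_iff.1 (hTt hx))
    refine ⟨c * y * c⁻¹, hc ⟨y, ?_, rfl⟩, by rw [← hy, map_mul, map_mul, map_inv]; group⟩
    exact mem_cj.2 ⟨x, hx, by rw [← hy]; group⟩

omit [Finite G] in
theorem ncard_sqrt_le [Finite X] (h : Amb ι z) (hz : z ∈ center X) (hg : g * ι z * g⁻¹ = ι t) {T : Subgroup X}
    (hT : IsSylowIn 2 T ⊤) (hTt : T ≤ centralizer {t}) :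
    {x | x ∈ T ∧ x * x = t}.ncard ≤ {x | x ∈ T ∧ x * x = z}.ncard := by
  obtain ⟨k, hk, hkT⟩ := h.exists_aut hz hg hT hTt
  choose! f hfT hf using hkT
  refine Set.ncard_le_ncard_of_injOn f (fun x hx => ⟨hfT x hx.1, h.inj ?_⟩) fun x hx y hy e => h.inj ?_
  · rw [map_mul, ← hf x hx.1, conj_mul, ← map_mul, hx.2, hk]
  · exact conj_injective (x := k) ((hf x hx.1).trans (e ▸ (hf y hy.1).symm))

end Amb

/-- Counting square roots coset by coset. -/
theorem ncard_sqrt_lt {T E : Subgroup G} (hET : E ≤ T) (hE : E ≤ 𝒞(E)) {z t : G}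
    (h1 : ∀ x ∈ T, x * x = z → ∃ e ∈ E, x⁻¹ * e * x * e = z⁻¹ * t ∧ x⁻¹ * e * x ∈ E)
    (h2 : ∃ y ∈ T, y * y = t ∧ ∀ e ∈ E, y * e * (y * e) ≠ z) :
    {x | x ∈ T ∧ x * x = z}.ncard < {x | x ∈ T ∧ x * x = t}.ncard := by
  classical
  have key : ∀ q : G ⧸ E, (∃ x ∈ T, x * x = z ∧ (x : G ⧸ E) = q) →
      ∃ e ∈ E, ∀ x : G, (x : G ⧸ E) = q → x⁻¹ * e * x * e = z⁻¹ * t := by
    rintro _ ⟨x, hx, hz, rfl⟩
    obtain ⟨e, he, h, h'⟩ := h1 x hx hz
    refine ⟨e, he, fun y hy => ?_⟩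
    have hd := QuotientGroup.eq.1 hy
    have := comm_of_mem (hE hd) h'
    rw [← h]
    congr 1
    calc y⁻¹ * e * y = y⁻¹ * x * (x⁻¹ * e * x) * (y⁻¹ * x)⁻¹ := by group
      _ = _ := by rw [← this, mul_inv_cancel_right]
  choose! f hfE hf using key
  have hq : ∀ x ∈ T, x * x = z → ((x * f x : G) : G ⧸ E) = x := fun x hx hz =>
    QuotientGroup.mk_mul_of_mem x (hfE _ ⟨x, hx, hz, rfl⟩)
  obtain ⟨y, hy, hyt, hyz⟩ := h2
  rw [← Set.InjOn.ncard_image (f := fun x : G => x * f x) fun x hx x' hx' e => ?_]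
  · refine Set.ncard_lt_ncard ⟨?_, fun hsub => ?_⟩
    · rintro _ ⟨x, hx, rfl⟩
      refine ⟨mul_mem hx.1 (hET (hfE _ ⟨x, hx.1, hx.2, rfl⟩)), ?_⟩
      calc x * f x * (x * f x) = x * x * (x⁻¹ * f x * x * f x) := by group
        _ = t := by rw [hf _ ⟨x, hx.1, hx.2, rfl⟩ x rfl, hx.2, mul_inv_cancel_left]
    · obtain ⟨x, hx, e⟩ := hsub ⟨hy, hyt⟩
      refine hyz (f x)⁻¹ (inv_mem (hfE _ ⟨x, hx.1, hx.2, rfl⟩)) ?_
      rw [← e, mul_inv_cancel_right, hx.2]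
  · have e' : (x : G ⧸ E) = x' := by rw [← hq x hx.1 hx.2, ← hq x' hx'.1 hx'.2]; exact congrArg _ e
    simp only [e'] at e
    exact mul_right_cancel e

end CL.TE
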