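/-
A standard subgroup `2·Co₁` whose centralizer has cyclic Sylow 2-subgroups is normal.
-/
import Cfsg.Agent.TE.Cyc
import Cfsg.Agent.Spor.Co1Inv
import Cfsg.Agent.Grp.NilpSub
import Cfsg.Agent.S2069

set_option autoImplicit false

open Cfsg Cfsg.Spor CL.Spor CL.Spor.Leech CL.CoR Subgroup CL.Even CL.Grp
open scoped Pointwise

namespace CL.TE

theorem conj_of_card {c d : Finset GolayPt} (hc : c ∈ Cset) (hd : d ∈ Cset) (h : c.card = d.card)
    (h0 : c.card ≠ 0) (h1 : c.card ≠ 24) : ∃ k : Co0, k * eps c hc * k⁻¹ = eps d hd := by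
  have h8 : ∀ {c d : Finset GolayPt} (hc : c ∈ Cset) (hd : d ∈ Cset), c.card = 8 → d.card = 8 →
      ∃ k : Co0, k * eps c hc * k⁻¹ = eps d hd := fun hc hd h h' => by
    obtain ⟨σ, e⟩ := exists_smul_eq_of_base (M24_octad_trans0 (mem_octads.2 ⟨hc, h⟩))
      (M24_octad_trans0 (mem_octads.2 ⟨hd, h'⟩))
    exact ⟨pm σ, by rw [pm_mul_eps, eps_congr _ hd e]⟩
  rcases Cset_card hc with e | e | e | e | e
  · exact absurd e h0
  · exact h8 hc hd e (h ▸ e)
  · obtain ⟨σ, e⟩ := exists_smul_eq_of_base (M24_dodecad_trans0 (mem_dodecads.2 ⟨hc, e⟩))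
      (M24_dodecad_trans0 (mem_dodecads.2 ⟨hd, h ▸ e⟩))
    exact ⟨pm σ, by rw [pm_mul_eps, eps_congr _ hd e]⟩
  · obtain ⟨k, hk⟩ := h8 (Cset_compl hc) (Cset_compl hd) (by rw [card_compl24, e]) (by rw [card_compl24, ← h, e])
    rw [← neg_eps c hc, ← neg_eps d hd, ← mul_assoc, ← negOne_comm, mul_assoc, mul_assoc, mul_left_cancel_iff,
      ← mul_assoc] at hk
    exact ⟨k, hk⟩
  · exact absurd e h1

theorem card_cw : (cw 56).card = 8 ∧ (cw 255).card = 16 ∧ (cw 13).card = 12 ∧ (cw 3).card = 8 ∧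
    (cw 14).card = 12 ∧ (cw 3840).card = 8 := by
  simp only [cw_card]
  decide +kernel

theorem exists_eps {t : Co0} (h : t * t = 1) : ∃ c hc, ∃ k : Co0, k * eps c hc * k⁻¹ = t := by
  have key : ∀ c hc, IsConj (mk1 (eps c hc)) (mk1 t) → ∃ c hc, ∃ k : Co0, k * eps c hc * k⁻¹ = t := fun c hc h => by
    obtain ⟨k, e | e⟩ := conj_lift h
    · exact ⟨c, hc, k, e⟩
    · refine ⟨_, Cset_compl hc, k, ?_⟩
      rw [← neg_eps c hc, ← mul_assoc, ← negOne_comm, mul_assoc, mul_assoc, ← mul_assoc k, e, ← mul_assoc,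
        negOne_mul_self, one_mul]
  by_cases h1 : mk1 t = 1
  · exact key ∅ Cset_empty (by rw [h1, eps_empty, map_one])
  rcases cls (cw_mem (x := 56) (by norm_num)) card_cw.1 (mk1 t)
    (orderOf_eq_prime (by rw [pow_two, ← map_mul, h, map_one]) h1) with e | e | e
  exacts [key _ _ e, key _ _ e, absurd e (not_conj_b0 h)]

theorem inv_cls {t : Co0} (h : t * t = 1) : t = 1 ∨ t = negOne ∨ IsConj (ep 56) t ∨ IsConj (ep 255) t ∨
    IsConj (ep 13) t := by
  obtain ⟨c, hc, k, rfl⟩ := exists_eps h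
  have key : ∀ x, x < 4096 → (cw x).card = c.card → c.card ≠ 0 → c.card ≠ 24 →
      IsConj (ep x) (k * eps c hc * k⁻¹) := fun x hx e h0 h1 => by
    obtain ⟨l, hl⟩ := conj_of_card (cw_mem hx) hc e (e ▸ h0) (e ▸ h1)
    exact isConj_iff.2 ⟨k * l, by rw [← hl, ep_eq hx]; group⟩
  obtain ⟨c1, c2, c3, -⟩ := card_cw
  rcases Cset_card hc with e | e | e | e | e
  · obtain rfl := Finset.card_eq_zero.1 e
    exact .inl (by rw [eps_empty, mul_one, mul_inv_cancel])
  · exact .inr (.inr (.inl (key _ (by norm_num) (by omega) (by omega) (by omega))))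
  · exact .inr (.inr (.inr (.inr (key _ (by norm_num) (by omega) (by omega) (by omega)))))
  · exact .inr (.inr (.inr (.inl (key _ (by norm_num) (by omega) (by omega) (by omega)))))
  · obtain rfl : c = Finset.univ := Finset.eq_univ_of_card _ (e.trans Leech.card_golayPt.symm)
    exact .inr (.inl (mul_inv_eq_of_eq_mul (negOne_comm k).symm))

theorem eps_le_cent : Eps ≤ 𝒞(Eps) := by
  rintro _ ⟨c, hc, rfl⟩
  exact mem_centralizer_iff.2 fun _ ⟨d, hd, e⟩ => e ▸ eps_comm d c hd hc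

theorem cent_eps {x : Co0} (hx : x ∈ 𝒞(Eps)) : x ∈ Eps := by
  obtain ⟨c, hc, σ, rfl⟩ := mem_Nsub_iff_eps_pm.1 (mem_Nsub_of_conj dod0_card dod0_card
    (conj_eq_of_mem hx (eps_mem_Eps _ dod0_C)))
  have h1 := (mul_mem_cancel_left (eps_le_cent (eps_mem_Eps c hc))).1 hx
  by_cases h : σ = 1
  · rw [h, map_one, mul_one]
    exact eps_mem_Eps c hc
  · obtain ⟨d, hd, h2, -⟩ := exists_moved_word h
    have := conj_eq_of_mem h1 (eps_mem_Eps d hd)
    rw [pm_mul_eps] at this
    exact absurd (by rw [eps_inj this, symmDiff_self]; rfl) h2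

theorem eps_sq {x : Co0} (hx : x ∈ Eps) : x * x = 1 := by
  obtain ⟨c, hc, rfl⟩ := hx
  exact eps_mul_self c hc

theorem eps_two : IsPGroup 2 Eps := IsPGroup.of_card (n := 12) card_Eps

theorem exists_ea (t : Co0) (h : t * t = 1) :
    ∃ E ≤ centralizer {t}, IsPGroup 2 E ∧ ∀ x ∈ 𝒞(E), x * x = 1 := by
  obtain ⟨c, hc, k, rfl⟩ := exists_eps h
  refine ⟨cj k Eps, fun x hx => mem_centralizer_singleton_iff.2 ?_, isPGroup_cj eps_two k, fun x hx => ?_⟩
  · have := comm_of_mem (eps_le_cent (eps_mem_Eps c hc)) (mem_cj.1 hx)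
    calc _ = k * (k⁻¹ * x * k * eps c hc) * k⁻¹ := by group
      _ = _ := by rw [this]; group
  · rw [← cj_cent, mem_cj] at hx
    have := eps_sq (cent_eps hx)
    calc _ = k * (k⁻¹ * x * k * (k⁻¹ * x * k)) * k⁻¹ := by group
      _ = _ := by rw [this]; group

theorem ep_mem (x : ℕ) : ep x ∈ Eps := eps_mem_Eps _ _

theorem exists_ep {e : Co0} (he : e ∈ Eps) : ∃ x < 4096, e = ep x := by
  obtain ⟨c, hc, rfl⟩ := he
  obtain ⟨x, hx, rfl⟩ := exists_cw hc
  exact ⟨x, hx, (ep_eq hx).symm⟩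

def secB : ℕ := 0x343343305305343343305305343343305305343343305305142142104104142142104104142142104104142142104104247247201201247247201201247247201201247247201201046046000000046046000000046046000000046046000000005005005005005005005005003003003003003003003003001001001001001001001001007007007007007007007007002002002002002002002002004004004004004004004004006006006006006006006006000000000000000000000000

theorem chkA : allBelow (fun x => not (Nat.beq (Nat.xor x (lin TA x)) 4095)) 4096 = true := by decide +kernel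
theorem chkB : allBelow (fun x => or (not (Nat.beq (lin TB x) x))
    (Nat.beq (Nat.xor (lin TB (lin secB x)) (lin secB x)) x)) 4096 = true := by decide +kernel

theorem sqA {e : Co0} (he : e ∈ Eps) : e * pm (m24 PA) * (e * pm (m24 PA)) ≠ negOne := by
  obtain ⟨x, hx, rfl⟩ := exists_ep he
  rw [sq_ep PA_in PA_sq hx, TA_eq, ← ep_4095]
  intro h
  have h1 := (allBelow_iff _ _).1 chkA x hx
  rw [Bool.not_eq_true', ← Bool.not_eq_true, Nat.beq_eq] at h1
  exact h1 (ep_inj (xor_lt hx (lin_lt _ _)) (by norm_num) h)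

theorem secB_spec {u : Co0} (hu : u ∈ Eps) (h : pm (m24 PB) * u = u * pm (m24 PB)) :
    ∃ e ∈ Eps, (pm (m24 PB))⁻¹ * e * pm (m24 PB) * e = u := by
  obtain ⟨x, hx, rfl⟩ := exists_ep hu
  rw [pm_ep PB_in hx, mul_left_inj, TB_eq] at h
  have h1 := (allBelow_iff _ _).1 chkB x hx
  rw [ep_inj (lin_lt _ _) hx h, Bool.or_eq_true, Bool.not_eq_true', ← Bool.not_eq_true, Nat.beq_eq,
    Nat.beq_eq] at h1
  refine ⟨_, ep_mem (lin secB x), ?_⟩
  rw [inv_eq_of_mul_eq_one_right (pm_sq PB_in PB_sq), pm_ep PB_in (lin_lt _ _), mul_assoc (ep _),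
    pm_sq PB_in PB_sq, mul_one, ep_mul (lin_lt _ _) (lin_lt _ _), TB_eq]
  exact congrArg ep (h1.resolve_left fun h => h rfl)

/-- A monomial square root of `-1` acts freely on the code. -/
theorem free_of_sq {x u : Co0} (hx : x ∈ Nsub) (h : x * x = negOne) (hu : u ∈ Eps) (hc : x * u = u * x) :
    ∃ e ∈ Eps, x⁻¹ * e * x * e = u := by
  obtain ⟨c, hc', σ, rfl⟩ := mem_Nsub_iff_eps_pm.1 hx
  set d := eps c hc'
  have hd : d ∈ Eps := eps_mem_Eps c hc'
  have hσ : σ ^ 2 = 1 := by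
    have h3 : d * pm σ * (d * pm σ) ∈ Eps := h ▸ center_le_Eps negOne_mem_center
    rw [show d * pm σ * (d * pm σ) = d * (pm σ * d * (pm σ)⁻¹) * pm (σ ^ 2) by rw [map_pow]; group] at h3
    exact pm_mem_Eps ((Eps.mul_mem_cancel_left (mul_mem hd (conj_mem_Eps (pm_mem σ) hd))).1 h3)
  have h0 : σ ≠ 1 := fun h0 => by
    rw [h0, map_one, mul_one, eps_sq hd] at h
    exact negOne_ne_one h.symm
  rcases class_two' (orderOf_eq_prime hσ h0) with ⟨k, hk⟩ | ⟨k, hk⟩
  · refine absurd ?_ (sqA (conj_mem_Eps (pm_mem k) hd))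
    rw [← hk, map_mul, map_mul, map_inv, conj_mul, conj_mul, h, ← negOne_comm, mul_inv_cancel_right]
  · rw [mul_assoc, ← mul_assoc u, comm_of_mem (eps_le_cent hd) hu, mul_assoc, mul_left_cancel_iff] at hc
    obtain ⟨e, he, h1⟩ := secB_spec (conj_mem_Eps (pm_mem k) hu) (by
      rw [← hk, map_mul, map_mul, map_inv, conj_mul, conj_mul, hc])
    have he' := conj_mem_Eps (inv_mem (pm_mem k)) he
    refine ⟨_, he', ?_⟩
    rw [mul_inv_rev, mul_assoc _ d⁻¹, ← mul_assoc _ d, mul_assoc _ _ d, mul_assoc d⁻¹,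
      comm_of_mem (eps_le_cent hd) he', inv_mul_cancel_left]
    rw [← hk, map_mul, map_mul, map_inv] at h1
    calc _ = (pm k)⁻¹ * ((pm k * pm σ * (pm k)⁻¹)⁻¹ * e * (pm k * pm σ * (pm k)⁻¹) * e) * pm k := by group
      _ = _ := by rw [h1]; group

theorem exists_sylow {x w : ℕ} (hx : x < 4096) (hw : w < 4096) (h : w ^^^ lin TA w = x) (h' : lin TA x = x)
    (hs : Nat.card (MulAction.stabilizer M24 (cw x)) = 322560) : ∃ T : Subgroup Co0, IsSylowIn 2 T ⊤ ∧
      T ≤ centralizer {ep x} ∧ {y | y ∈ T ∧ y * y = negOne}.ncard < {y | y ∈ T ∧ y * y = ep x}.ncard := by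
  set S := (MulAction.stabilizer M24 (cw x)).map pm
  have hSN : S ≤ Nsub := by rintro _ ⟨σ, -, rfl⟩; exact pm_mem σ
  have hn : Nsub ≤ 𝒩(Eps) := le_norm_of_cj_le fun g hg => by rintro _ ⟨y, hy, rfl⟩; exact conj_mem_Eps hg hy
  have hc : Nat.card (S ⊔ Eps : Subgroup Co0) = 322560 * 4096 := by
    rw [card_sup_of_inf_eq_bot (hSN.trans hn) (eq_bot_iff.2 (by
      rintro _ ⟨⟨σ, -, rfl⟩, h⟩
      rw [pm_mem_Eps h, map_one]
      exact one_mem _)), card_Eps, card_map_of_injective fun a b e => ?_, hs]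
    exact mul_inv_eq_one.1 (pm_mem_Eps (by rw [map_mul, map_inv, e, mul_inv_cancel]; exact one_mem _))
  have hA : pm (m24 PA) ∈ S := ⟨_, by
    rw [SetLike.mem_coe, MulAction.mem_stabilizer_iff, (rep_m24 PA_in).smul_cw hx, TA_eq, h'], rfl⟩
  obtain ⟨T, hT, hle⟩ := exists_isSylowIn_ge (p := 2) (U := zpowers (pm (m24 PA)) ⊔ Eps) (H := S ⊔ Eps)
    (IsPGroup.to_sup_of_normal_right' (isPGroup_iff_forall.2 fun y ⟨i, hi⟩ => ⟨1, by
      rw [← hi, pow_one, ← zpow_natCast, ← zpow_mul, mul_comm, zpow_mul, zpow_natCast, pow_two,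
        pm_sq PA_in PA_sq, one_zpow]⟩) eps_two ((zpowers_le.2 (hSN hA)).trans hn))
    (sup_le_sup_right (zpowers_le.2 hA) _)
  have hTN : T ≤ Nsub := hT.le.trans (sup_le hSN Eps_le)
  have hTc : T ≤ centralizer {ep x} := hT.le.trans (sup_le (by
    rintro _ ⟨σ, hσ, rfl⟩
    rw [mem_centralizer_singleton_iff, ← mul_inv_eq_iff_eq_mul, ep_eq hx, pm_mul_eps]
    exact eps_congr _ _ hσ) fun e he => mem_centralizer_singleton_iff.2 (comm_of_mem (eps_le_cent (ep_mem x)) he))
  have hET := le_sup_right.trans hle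
  refine ⟨T, hT.of_not_dvd_relIndex le_top ?_, hTc, ncard_sqrt_lt hET eps_le_cent (fun y hy h2 => ?_) ?_⟩
  · have := (S ⊔ Eps).card_mul_index
    rw [hc, card_Co0] at this
    rw [relIndex_top_right]
    omega
  · obtain ⟨e, he, h1⟩ := free_of_sq (hTN hy) h2 (mul_mem (inv_mem (center_le_Eps negOne_mem_center)) (ep_mem x))
      (by rw [← mul_assoc, Subgroup.mem_center_iff.1 (inv_mem negOne_mem_center), mul_assoc,
        mem_centralizer_singleton_iff.1 (hTc hy), mul_assoc])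
    exact ⟨e, he, h1, conj_mem' (hn (hTN hy)) he⟩
  · refine ⟨ep w * pm (m24 PA), mul_mem (hET (ep_mem w)) (hle (mem_sup_left (mem_zpowers _))),
      by rw [sq_ep PA_in PA_sq hw, TA_eq, h], fun e he => ?_⟩
    rw [show ep w * pm (m24 PA) * e = ep w * (pm (m24 PA) * e * (pm (m24 PA))⁻¹) * pm (m24 PA) by group]
    exact sqA (mul_mem (ep_mem w) (conj_mem_Eps (pm_mem _) he))

theorem stab_compl (c : Finset GolayPt) : MulAction.stabilizer M24 cᶜ = MulAction.stabilizer M24 c := by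
  ext σ
  simp only [MulAction.mem_stabilizer_iff, Finset.ext_iff, ← Finset.inv_smul_mem_iff, Finset.mem_compl, not_iff_not]

theorem co0_no_fusion {G : Type*} [Group G] {ι : Co0 →* G} (h : Amb ι negOne) (g : G) (t : Co0)
    (hg : g * ι negOne * g⁻¹ = ι t) : t = negOne := by
  obtain ⟨c1, c2, c3, c4, c5, c6⟩ := card_cw
  have n1 : ¬ IsConj (ι negOne) (ι (ep 56)) := fun hc => by
    obtain ⟨k, hk⟩ := isConj_iff.1 hc
    obtain ⟨T, hT, hc, hlt⟩ := exists_sylow (x := 56) (w := 1) (by norm_num) (by norm_num) (by decide +kernel)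
      (by decide +kernel) (card_stabilizer_octad (mem_octads.2 ⟨cw_mem (by norm_num), c1⟩))
    exact (h.ncard_sqrt_le negOne_mem_center hk hT hc).not_gt hlt
  have n2 : ¬ IsConj (ι negOne) (ι (ep 255)) := fun hc => by
    obtain ⟨k, hk⟩ := isConj_iff.1 hc
    obtain ⟨T, hT, hc, hlt⟩ := exists_sylow (x := 255) (w := 67) (by norm_num) (by norm_num) (by decide +kernel)
      (by decide +kernel) (by
        rw [← card_stabilizer_octad (mem_octads.2 ⟨cw_mem (x := 3840) (by norm_num), c6⟩),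
          show cw 255 = (cw 3840)ᶜ from cw_compl (x := 3840) (by norm_num), stab_compl])
    exact (h.ncard_sqrt_le negOne_mem_center hk hT hc).not_gt hlt
  have e1 : IsConj (ep 56) (ep 3) := isConj_iff.2 (by
    rw [ep_eq (by norm_num), ep_eq (by norm_num)]; exact conj_of_card _ _ (by omega) (by omega) (by omega))
  have e2 : IsConj (ep 13) (ep 14) := isConj_iff.2 (by
    rw [ep_eq (by norm_num), ep_eq (by norm_num)]; exact conj_of_card _ _ (by omega) (by omega) (by omega))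
  have e3 : IsConj (ep 255) (ep 56 * negOne) := isConj_iff.2 (by
    rw [← negOne_comm, ep_eq (by norm_num), ep_eq (by norm_num), neg_eps]
    exact conj_of_card _ _ (by rw [card_compl24]; omega) (by omega) (by omega))
  have e4 : IsConj (ep 56) (ep 255 * negOne) := isConj_iff.2 (by
    rw [← negOne_comm, ep_eq (by norm_num), ep_eq (by norm_num), neg_eps]
    exact conj_of_card _ _ (by rw [card_compl24]; omega) (by omega) (by omega))
  have hneg : ∀ {a b : Co0}, IsConj a b → IsConj (a * negOne) (b * negOne) := fun hab => by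
    obtain ⟨k, rfl⟩ := isConj_iff.1 hab
    exact isConj_iff.2 ⟨k, by rw [← mul_assoc, mul_assoc _ negOne, negOne_comm, ← mul_assoc]⟩
  have n3 : ¬ IsConj (ι negOne) (ι (ep 13)) := fun hc => by
    obtain ⟨k, hk⟩ := isConj_iff.1 hc
    obtain ⟨y, hy⟩ := h.pull hk (x := ep 3) (j := 1) (by rw [pow_one, pow_two, eps_sq (ep_mem 3)])
      (comm_of_mem (eps_le_cent (ep_mem _)) (ep_mem _))
    have y1 : IsConj (ι y) (ι (ep 56)) := (isConj_iff.2 ⟨k, hy⟩).trans (ι.map_isConj e1.symm)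
    have y2 : IsConj (ι negOne) (ι (y * negOne)) := hc.trans ((ι.map_isConj e2).trans (IsConj.symm (isConj_iff.2 ⟨k, by
      rw [map_mul, ← conj_mul, hy, hk, ← map_mul, ep_mul (by norm_num) (by norm_num)]; rfl⟩)))
    rcases inv_cls (t := y) (h.inj (conj_injective (x := k) (by
      simp only [map_mul, ← conj_mul, hy]
      rw [← map_mul, eps_sq (ep_mem 3), map_one, mul_one, mul_inv_cancel]))) with e | e | e | e | e
    · rw [e, map_one, isConj_one_right, map_eq_one_iff _ h.inj, ← ep_zero] at y1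
      exact absurd (ep_inj (by norm_num) (by norm_num) y1) (by norm_num)
    · exact n1 (e ▸ y1)
    · exact n2 (y2.trans (ι.map_isConj (e3.trans (hneg e)).symm))
    · exact n1 (y2.trans (ι.map_isConj (e4.trans (hneg e)).symm))
    · exact n1 (hc.trans ((ι.map_isConj e).trans y1))
  have hc : IsConj (ι negOne) (ι t) := isConj_iff.2 ⟨g, hg⟩
  rcases inv_cls (t := t) (h.inj (by
    rw [map_mul, ← hg, conj_mul, ← map_mul, negOne_mul_self, map_one, mul_one, mul_inv_cancel])) with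
    e | e | e | e | e
  · rw [e, map_one, isConj_one_left, map_eq_one_iff _ h.inj] at hc
    exact absurd hc negOne_ne_one
  · exact e
  · exact absurd (hc.trans (ι.map_isConj e.symm)) n1
  · exact absurd (hc.trans (ι.map_isConj e.symm)) n2
  · exact absurd (hc.trans (ι.map_isConj e.symm)) n3

theorem s3150 {G : Type*} [Group G] [Finite G] (hO : oddCore G = ⊥) (A : Subgroup G) (hA : IsStandardSubgroup A)
    (e : A ≃* Co0) (hR : ∀ R : Sylow 2 𝒞(A), IsCyclic (R : Subgroup 𝒞(A))) : A.Normal := by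
  exact normal_of_standard hO hA hR e (orderOf_eq_prime (by rw [pow_two, negOne_mul_self]) negOne_ne_one)
    (fun _ => Leech.mem_center_iff) Cfsg.Agent.S2069.result exists_ea fun _ h => co0_no_fusion h

end CL.TE
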