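/-
The Weyl group of type E8 on its roots: a centraliser.
Generated by tools/pg.
-/
import Cfsg.Agent.TE.O8M
import Cfsg.Agent.Spor.PGCtx

set_option autoImplicit false
set_option maxRecDepth 200000
set_option Elab.async false
set_option linter.unusedVariables false

namespace CL.O8S.MB
open CL.PG

noncomputable def a168 : Net := (.cons 128 (nat_lit 0xffff0000000000000000000000000000)
 (.cons 64 (nat_lit 0x33333333cccc33330000000000000000fff0000000000000)
 (.cons 32 (nat_lit 0xffffffff0000000000000000000000000ff0ff0f00000000f0f0fff0)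
 (.cons 16 (nat_lit 0x33330000cccc0000cccc00003333000000000000f0f000000fff00000f00)
 (.cons 8 (nat_lit 0xf000f000f000f000f000f000f000f000000f000ff00f000ff000000000000)
 (.cons 4 (nat_lit 0xc03030c0c03030c0c03030c0c03030c0f00000f000f0f000f0f000f00000f00)
 (.cons 2 (nat_lit 0x3030030330300303303003033030030333001123012011003030000003030002)
 (.cons 1 (nat_lit 0x4114411441144114144114411441144100501145014014000000000000000004)
 (.cons 2 (nat_lit 0x2220022022000000000000000002)
 (.cons 4 (nat_lit 0xc0c0c0c0c0c0c0c0c0c0c0c0c0c0c0c00000000000000000000000000000000)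
 (.cons 8 (nat_lit 0xcc00cc00cc00cc00cc00cc00cc00cc00f000f000f000000000000000000000)
 (.cons 16 (nat_lit 0xf0f00000f0f00000f0f00000f0f000000ff000000ff00000fff000000000)
 (.cons 32 (nat_lit 0xf0f0f0f000000000f0f0f0f000000000f0f0f0f000000000f0fff000)
 (.cons 64 (nat_lit 0xffff000000000000000000000000fff0000000000000)
 (.cons 128 (nat_lit 0xffff0000000000000000000000000000)
 .nil)))))))))))))))
noncomputable def a169 : Net := (.cons 128 (nat_lit 0xffff0000000000000000000000000000)
 (.cons 64 (nat_lit 0xfff0fff0000ffff00000000000000000fff0000000000000)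
 (.cons 32 (nat_lit 0xf00f0ff000000000f00f0ff000000000000f0f0f0000000000fffff0)
 (.cons 16 (nat_lit 0xf0000000f00000ff0f0000ff0f0000000f0000f0f0000000000000fff0)
 (.cons 8 (nat_lit 0xf000f0000f000f00f000f0000f000f000f000f0000000f0000000000000000)
 (.cons 4 (nat_lit 0x30c0c030c03030c030c0c030c03030c000f0f0f00000f0f00000f0f000f0f00)
 (.cons 2 (nat_lit 0x3030303030303030303030303030303003001121002021220030000030000001)
 (.cons 1 (nat_lit 0x1405145050410541415041050514501400004144004044440000005055550504)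
 (.cons 2 (nat_lit 0x2222002022220000000000000002)
 (.cons 4 (nat_lit 0xc0c0c0c0c0c0c0c0c0c0c0c0c0c0c0c00000000000000000000000000000000)
 (.cons 8 (nat_lit 0xf00000000000000000000000000000)
 (.cons 16 (nat_lit 0xcccc0000cccc0000cccc0000cccc0000ff000000ff00000000f00000f0f0)
 (.cons 32 (nat_lit 0xff00ff0000000000ff00ff0000000000f0ffff000000000000f00000)
 (.cons 64 (nat_lit 0xcccccccccccccccc0000000000000000fff0000000000000)
 (.cons 128 (nat_lit 0xffff0000000000000000000000000000)
 .nil)))))))))))))))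
noncomputable def a170 : Net := (.cons 128 (nat_lit 0x3fff0000000000000000000000000000)
 (.cons 64 (nat_lit 0xcc33ff00ff0033cc0000000000000000fff0000000000000)
 (.cons 32 (nat_lit 0x3333cccc000000003333cccc00000000ff0f0ff000000000f0000000)
 (.cons 16 (nat_lit 0xcccc000033330000cccc000033330000f0f00000fff0000000ff0000ff00)
 (.cons 8 (nat_lit 0x3c003c00f000f000c300c3000f000f000f000f000000f00000000000000000)
 (.cons 4 (nat_lit 0xf000f000f000f000f000f000f000f00000f0f000f000f0f000f0f000f0f0000)
 (.cons 2 (nat_lit 0x3333000000003333333300000000333310222113310031123003300303300330)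
 (.cons 1 (nat_lit 0x40111110545054110000000000000000)
 (.cons 2 (nat_lit 0x20222220020002220000000000000000)
 (.cons 8 (nat_lit 0xf000f000f000f000f000f000f000f0000000f000f000000000000000000000)
 (.cons 16 (nat_lit 0xcccc0000cccc0000cccc0000cccc0000f0f0000000000000f0f00000f0f0)
 (.cons 32 (nat_lit 0xfffff0f000000000f0000000)
 (.cons 64 (nat_lit 0xf0f0f0f0f0f0f0f00000000000000000fff0000000000000)
 (.cons 128 (nat_lit 0x3fff0000000000000000000000000000)
 .nil))))))))))))))
noncomputable def a171 : Net := (.cons 128 (nat_lit 0xffff0000000000000000000000000000)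
 (.cons 64 (nat_lit 0x333333333333cccc0000000000000000fff0000000000000)
 (.cons 32 (nat_lit 0xffff00000000ffff000000000000fff00f0000000000f0000000)
 (.cons 16 (nat_lit 0x33330000cccc000033330000cccc0000ff0000000f000000fff00000f000)
 (.cons 8 (nat_lit 0x3300cc00cc0033003300cc00cc0033000000000000000f00ff000000ff0000)
 (.cons 4 (nat_lit 0xf0f0f0f0f0f0f0f0f0f0f0f0f0f0f0f0f00000f000f0f00000f00000f000000)
 (.cons 2 (nat_lit 0x3300003300333300330000330033330021300330130103113330000330330300)
 (.cons 1 (nat_lit 0x14505555455405440000000000000000)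
 (.cons 2 (nat_lit 0x22000000200200220000000000000000)
 (.cons 8 (nat_lit 0xcc00cc00cc00cc00cc00cc00cc00cc00f000f0000000000000000000000000)
 (.cons 16 (nat_lit 0xff000000ff000000ff000000ff000000ff000000000000000ff00000f0f0)
 (.cons 32 (nat_lit 0xf0f000000000f0000000)
 (.cons 64 (nat_lit 0xffff000000000000000000000000fff0000000000000)
 (.cons 128 (nat_lit 0xffff0000000000000000000000000000)
 .nil))))))))))))))
noncomputable def a172 : Net := (.cons 128 (nat_lit 0xffff0000000000000000000000000000)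
 (.cons 64 (nat_lit 0x3333cccc00000000000000000000fff0000000000000)
 (.cons 32 (nat_lit 0x3333cccc000000003333cccc000000000ff0000f00000000f0000000)
 (.cons 16 (nat_lit 0xffff0000cccc00000000000033330000f00000000f0f00000f0f00000ff0)
 (.cons 8 (nat_lit 0xcc003300cc003300cc003300cc003300f0000f00ff00f0000f0000000f0000)
 (.cons 4 (nat_lit 0x30c0c03030c0c03030c0c03030c0c030f000f00000f0f000f00000f000f0f00)
 (.cons 2 (nat_lit 0x330300303303003033030030330300330103321200322330003300003000030)
 (.cons 1 (nat_lit 0x100011400044000000000000000000)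
 (.cons 2 (nat_lit 0x200022200022000000000000000000)
 (.cons 4 (nat_lit 0xc0c0c0c0c0c0c0c0c0c0c0c0c0c0c0c00000000000000000000000000000000)
 (.cons 8 (nat_lit 0xf000f000f000f000f000f000f000f000f000f0000000000000000000000000)
 (.cons 16 (nat_lit 0xff000000ff000000ff000000ff000000000000000f0000000f00000000f0)
 (.cons 32 (nat_lit 0xf0f0000000000000f0000000)
 (.cons 64 (nat_lit 0xff00ff00ff00ff000000000000000000fff0000000000000)
 (.cons 128 (nat_lit 0xffff0000000000000000000000000000)
 .nil)))))))))))))))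
noncomputable def a173 : Net := (.cons 128 (nat_lit 0xffff0000000000000000000000000000)
 (.cons 64 (nat_lit 0xf0f0f0f0f0ff0f00000000000000000fff0000000000000)
 (.cons 32 (nat_lit 0xf0ff0f000000000f0f00f0f00000000f00ff0000000000000000000)
 (.cons 16 (nat_lit 0xf0f000000f0f00000f0f0000f0f0000000ff00000f000000000f0000f000)
 (.cons 8 (nat_lit 0xf00f000f0000f00f0000f000f00f000f000ff000000000000000f000f0000)
 (.cons 4 (nat_lit 0xf0f000f00000f0f00000f000f0f000f00000f0f00000f00000f0f0f0f0000)
 (.cons 2 (nat_lit 0x30231231033030000303030300000)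
 (.cons 1 (nat_lit 0x5000454404000000000000000000000)
 (.cons 2 (nat_lit 0x202202000000000000000000000)
 (.cons 8 (nat_lit 0xf000f000f000f000f000f000f000f000f000f000f000f00000000000000000)
 (.cons 16 (nat_lit 0xff000000ff000000ff000000ff000000f0000000f000000000000000ff00)
 (.cons 32 (nat_lit 0xffff000000000000ffff000000000000ff0ff0f00000000000000000)
 (.cons 64 (nat_lit 0xffff000000000000000000000000fff0000000000000)
 (.cons 128 (nat_lit 0xffff0000000000000000000000000000)
 .nil))))))))))))))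
noncomputable def a174 : Net := (.cons 128 (nat_lit 0xffff0000000000000000000000000000)
 (.cons 64 (nat_lit 0xf000f0ff0f00f00000000000000000fff0000000000000)
 (.cons 32 (nat_lit 0xf00f0ff000000000f00f0ff0000000000ffff00f0000000000000000)
 (.cons 16 (nat_lit 0xfff00000fff00000000f0000000f0000ff0f000000f00000ffff0000ff00)
 (.cons 8 (nat_lit 0xf000f00f000f0000f000f00f000f0000f00000000000f00ff000000ff0000)
 (.cons 4 (nat_lit 0xf0f000f00000f000f0f000f00000f000f000f0f000f0f0f000000000f0000)
 (.cons 2 (nat_lit 0x30113311020022133003000003300000)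
 (.cons 1 (nat_lit 0x50110011040044100000000000000000)
 (.cons 2 (nat_lit 0x220022020022200000000000000000)
 (.cons 8 (nat_lit 0xf0000000000000000000000000)
 (.cons 16 (nat_lit 0xf0f00000f0f00000f0f00000f0f00000f000000000000000fff00000f000)
 (.cons 32 (nat_lit 0xff00ff0000000000ff00ff0000000000f0ff00f00000000000000000)
 (.cons 64 (nat_lit 0xf0f0f0f0f0f0f0f00000000000000000fff0000000000000)
 (.cons 128 (nat_lit 0xffff0000000000000000000000000000)
 .nil))))))))))))))
noncomputable def a175 : Net := (.cons 128 (nat_lit 0xff000000000000000000000000000000)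
 (.cons 64 (nat_lit 0xff00ff00ff0000ff0000000000000000ff00000000000000)
 (.cons 32 (nat_lit 0xffff000000000000ffff000000000000ff0000f00000000000000000)
 (.cons 16 (nat_lit 0xff0000ff000000ff00000000ff00000f0000000ff000000ff00000f000)
 (.cons 8 (nat_lit 0xff0000000000ff000000ff00ff0000000000ff00000000000f0000000f0000)
 (.cons 4 (nat_lit 0xf000f00000f00000f000000)
 (.cons 2 (nat_lit 0x20000222000000000000000000000000)
 (.cons 1 (nat_lit 0x40000444000000000000000000000000)
 (.cons 2 (nat_lit 0x20000222000000000000000000000000)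
 (.cons 8 (nat_lit 0xf000f00000000000000000)
 (.cons 16 (nat_lit 0xff000000ff000000ff000000ff000000f0000000000000000ff00000f000)
 (.cons 32 (nat_lit 0xffff000000000000ffff0000000000000f0000000000000000000000)
 (.cons 64 (nat_lit 0xffff000000000000000000000000ff00000000000000)
 (.cons 128 (nat_lit 0xff000000000000000000000000000000)
 .nil))))))))))))))
noncomputable def a176 : Net := (.cons 128 (nat_lit 0xffff0000000000000000000000000000)
 (.cons 64 (nat_lit 0xff00ffff0000ff00000000000000000f00000000000000)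
 (.cons 32 (nat_lit 0xffff0000000000ff0000ff00000000ff0000000000000000000000)
 (.cons 16 (nat_lit 0xf00000000f0f0000f0f00000f000)
 (.cons 8 (nat_lit 0xff00ff00ff00ff00000000000000ff000f000f0000000000000000)
 (.cons 4 (nat_lit 0xf0f000f000f000f00000f000000)
 (.cons 2 (nat_lit 0x32001131030303033030000030300000)
 (.cons 1 (nat_lit 0x54004404000000000000000000000000)
 (.cons 2 (nat_lit 0x2002202000000000000000000000000)
 (.cons 8 (nat_lit 0xf0000000f00000)
 (.cons 16 (nat_lit 0xf00000000000000f0f00000f000)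
 (.cons 32 (nat_lit 0xff00ff0000000000ff00ff0000000000ff0000000000000000000000)
 (.cons 64 (nat_lit 0xffff0000000000000000000000000f00000000000000)
 (.cons 128 (nat_lit 0xffff0000000000000000000000000000)
 .nil))))))))))))))
noncomputable def a177 : Net := (.cons 128 (nat_lit 0xffff0000000000000000000000000000)
 (.cons 64 (nat_lit 0xff00ff00ffff0000000000000000000000000000000000)
 (.cons 32 (nat_lit 0xffff0000000000000000ffff00000000f00000000000000000000000)
 (.cons 16 (nat_lit 0xff000000ff000000ff000000ff0000f000000000000000fff00000f000)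
 (.cons 8 (nat_lit 0xff000000ff000000ff000000ff000000000000000000ff000000ff0000)
 (.cons 4 (nat_lit 0xf0f000f0f0f0f0f0f000f0f0000)
 (.cons 2 (nat_lit 0x10000303013003300033030033000000)
 (.cons 1 (nat_lit 0x10005005040000000000000000000000)
 (.cons 2 (nat_lit 0x20000000020000000000000000000000)
 (.cons 16 (nat_lit 0xff000000ff000000ff000000ff000000f000000000000000fff00000f000)
 (.cons 32 (nat_lit 0xf00000000000000000000000)
 (.cons 64 (nat_lit 0xffff0000000000000000000000000000000000000000)
 (.cons 128 (nat_lit 0xffff0000000000000000000000000000)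
 .nil)))))))))))))
noncomputable def a178 : Net := (.cons 64 (nat_lit 0xffff000000000000000000000000f000000000000000)
 (.cons 32 (nat_lit 0xffff00000000ffff000000000000ff0000000000000000000000)
 (.cons 16 (nat_lit 0xffff000000000000ffff0000f0000000f0f00000ff0000000000)
 (.cons 8 (nat_lit 0xff00f000f000ff000000ff0000)
 (.cons 4 (nat_lit 0xf00000f000f000f000f00000f000000)
 (.cons 2 (nat_lit 0x2000020000000000000000000000000)
 (.cons 1 (nat_lit 0x4000040000000000000000000000000)
 (.cons 2 (nat_lit 0x2000020000000000000000000000000)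
 (.cons 8 (nat_lit 0xf0000000f00000)
 (.cons 16 (nat_lit 0xf00000000000000ff0000000000)
 (.cons 32 (nat_lit 0xff0000000000000000000000)
 (.cons 64 (nat_lit 0xffff000000000000000000000000f000000000000000)
 .nil))))))))))))
noncomputable def a179 : Net := (.cons 128 (nat_lit 0xffff0000000000000000000000000000)
 (.cons 64 (nat_lit 0xffff000000000000000000000000f000000000000000)
 (.cons 32 (nat_lit 0xffff0000000000000000ffff00000000ff0000000000000000000000)
 (.cons 16 (nat_lit 0xffff000000000000ffff000000000000f0000000f0f00000ff0000000000)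
 (.cons 8 (nat_lit 0xff00f000f000ff000000ff0000)
 (.cons 4 (nat_lit 0xf00000f000f000f000f00000f000000)
 (.cons 2 (nat_lit 0x31003013003300330033000033000000)
 (.cons 1 (nat_lit 0x1005010000000000000000000000000)
 (.cons 2 (nat_lit 0x2000020000000000000000000000000)
 (.cons 8 (nat_lit 0xf0000000f00000)
 (.cons 16 (nat_lit 0xf00000000000000ff0000000000)
 (.cons 32 (nat_lit 0xff0000000000000000000000)
 (.cons 64 (nat_lit 0xffff000000000000000000000000f000000000000000)
 (.cons 128 (nat_lit 0xffff0000000000000000000000000000)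
 .nil))))))))))))))
noncomputable def a180 : Net := (.cons 128 (nat_lit 0xffff0000000000000000000000000000)
 (.cons 64 (nat_lit 0xffffcccc0000cccc0000000000000000fff0000000000000)
 (.cons 32 (nat_lit 0xcccccccc00000000cccccccc00000000fff000f000000000f0000000)
 (.cons 16 (nat_lit 0xffff000000000000ffff00000000000000000000f0000000f000000000f0)
 (.cons 8 (nat_lit 0xf000f000000000000000000000)
 (.cons 4 (nat_lit 0xf000f00000f000f00000f00000f0000)
 (.cons 2 (nat_lit 0x3333000033330000333300003333000032000000112330110000330000330000)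
 (.cons 1 (nat_lit 0x4005500114050110000000000000000)
 (.cons 2 (nat_lit 0x2000000222000220000000000000000)
 (.cons 8 (nat_lit 0xf00000000000000000)
 (.cons 16 (nat_lit 0xcccc0000cccc0000cccc0000cccc000000000000f0000000000000000000)
 (.cons 32 (nat_lit 0xcccccccc00000000cccccccc00000000f0f000f000000000f0000000)
 (.cons 64 (nat_lit 0xfff0000000000000)
 (.cons 128 (nat_lit 0xffff0000000000000000000000000000)
 .nil))))))))))))))
noncomputable def a181 : Net := (.cons 128 (nat_lit 0xfcff0000000000000000000000000000)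
 (.cons 64 (nat_lit 0xf000f000f00f0ff0000000000000000fff0000000000000)
 (.cons 32 (nat_lit 0xf0ff0f00000000ff0f00f000000000000f000000000000f0000000)
 (.cons 16 (nat_lit 0xf0f00000f0f00000f0f00000f0f0000000000000ff000000ff0f00000f00)
 (.cons 8 (nat_lit 0xf000f00f000f0000f000f00f000f000ff00f000f000ff00ff00f000ff00f0)
 (.cons 4 (nat_lit 0xc0c03030c0c03030c0c03030c0c03030000000f0f000f00000f000f0f000f00)
 (.cons 2 (nat_lit 0x3030303030303030303030303030303000230321312003010000303000003030)
 (.cons 1 (nat_lit 0x400014044000510000000000000000)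
 (.cons 2 (nat_lit 0x200022022000020000000000000000)
 (.cons 4 (nat_lit 0xc0c0c0c0c0c0c0c0c0c0c0c0c0c0c0c00000000000000000000000000000000)
 (.cons 8 (nat_lit 0xf000f000f000f0000000f00000)
 (.cons 16 (nat_lit 0xcccc0000cccc0000cccc0000cccc0000ff00000000f000000f00000000f0)
 (.cons 32 (nat_lit 0xff00ff0000000000ff00ff0000000000f00ff0f000000000f0000000)
 (.cons 64 (nat_lit 0xff00ff00ff00ff000000000000000000fff0000000000000)
 (.cons 128 (nat_lit 0xfcff0000000000000000000000000000)
 .nil)))))))))))))))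
noncomputable def a182 : Net := (.cons 128 (nat_lit 0xffff0000000000000000000000000000)
 (.cons 64 (nat_lit 0xffff0f0f00000f0f0000000000000000f0f0000000000000)
 (.cons 32 (nat_lit 0xf0f0f0f000000000f0f0f0f000000000f00000f00000000000000000)
 (.cons 16 (nat_lit 0xffff000000000000ffff000000000000f0000000fff00000000000000f00)
 (.cons 8 (nat_lit 0xf00000000000f0000000ff00ff0000)
 (.cons 4 (nat_lit 0xf0f00000f0f00000f0f00000f0f00000f00000f0f0f0000000f0f000000)
 (.cons 2 (nat_lit 0x100321230330000003333000000)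
 (.cons 1 (nat_lit 0x505400044100000000000000000000)
 (.cons 2 (nat_lit 0x200022200000000000000000000)
 (.cons 8 (nat_lit 0xf00000000000f000f00000)
 (.cons 16 (nat_lit 0xf0f00000f0f00000f0f00000f0f0000000000000f0f00000000000000f00)
 (.cons 32 (nat_lit 0xf0f0f0f000000000f0f0f0f00000000000f00ff00000000000000000)
 (.cons 64 (nat_lit 0xf0f0000000000000)
 (.cons 128 (nat_lit 0xffff0000000000000000000000000000)
 .nil))))))))))))))
noncomputable def a183 : Net := (.cons 128 (nat_lit 0xff0f0000000000000000000000000000)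
 (.cons 64 (nat_lit 0xf0f0f0f0f0ff0f00000000000000000fff0000000000000)
 (.cons 32 (nat_lit 0xf0f00f0f000000000f0ff0f000000000f00ff0000000000000000000)
 (.cons 16 (nat_lit 0xf0f000000f0f00000f0f0000f0f0000000ff00000f000000000f0000f000)
 (.cons 8 (nat_lit 0xf00f000f0000f00f0000f000f00f000f000ff000000000000000f000f0000)
 (.cons 4 (nat_lit 0xf00000f000f0f00000f0f000f00000f0f00000f0f00000f00000f0f0f0f0000)
 (.cons 2 (nat_lit 0x30003101201000000003000303000300)
 (.cons 1 (nat_lit 0x550101101005000000000000000000)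
 (.cons 2 (nat_lit 0x202202000000000000000000000)
 (.cons 8 (nat_lit 0xf000f000f000f000f000f000f000f000f000f000f000f00000000000000000)
 (.cons 16 (nat_lit 0xff000000ff000000ff000000ff000000f0000000f000000000000000ff00)
 (.cons 32 (nat_lit 0xffff000000000000ffff000000000000ff0ff0f00000000000000000)
 (.cons 64 (nat_lit 0xffff000000000000000000000000fff0000000000000)
 (.cons 128 (nat_lit 0xff0f0000000000000000000000000000)
 .nil))))))))))))))
noncomputable def a184 : Net := (.cons 128 (nat_lit 0xffff0000000000000000000000000000)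
 (.cons 64 (nat_lit 0xff00ffff0000ff00000000000000000f00000000000000)
 (.cons 32 (nat_lit 0xffff0000000000ff0000ff00000000ff0000000000000000000000)
 (.cons 16 (nat_lit 0xf00000000f0f0000f0f00000f000)
 (.cons 8 (nat_lit 0xff00ff00ff00ff00000000000000ff000f000f0000000000000000)
 (.cons 4 (nat_lit 0xf0f000f000f000f00000f000000)
 (.cons 2 (nat_lit 0x32001131030303033030000030300000)
 (.cons 1 (nat_lit 0x54004404000000000000000000000000)
 (.cons 2 (nat_lit 0x2002202000000000000000000000000)
 (.cons 8 (nat_lit 0xf0000000f00000)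
 (.cons 16 (nat_lit 0xf00000000000000f0f00000f000)
 (.cons 32 (nat_lit 0xff00ff0000000000ff00ff0000000000ff0000000000000000000000)
 (.cons 64 (nat_lit 0xffff0000000000000000000000000f00000000000000)
 (.cons 128 (nat_lit 0xffff0000000000000000000000000000)
 .nil))))))))))))))
noncomputable def a185 : Net := (.cons 128 (nat_lit 0xff0000000000000000000000000000)
 (.cons 64 (nat_lit 0xff00ff00ffff000000000000000000ff00000000000000)
 (.cons 32 (nat_lit 0xffff000000000000ffff000000000000ff0000f00000000000000000)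
 (.cons 16 (nat_lit 0xff0000ff000000ff00000000ff00000f0000000ff000000ff00000f000)
 (.cons 8 (nat_lit 0xff00ff000000ff0000000000ff000000ff00000000000f0000000f0000)
 (.cons 4 (nat_lit 0xf000f00000f00000f000000)
 (.cons 2 (nat_lit 0x10000122330033000033000033000000)
 (.cons 1 (nat_lit 0x15000141005000000000000000000000)
 (.cons 2 (nat_lit 0x20000222000000000000000000000000)
 (.cons 8 (nat_lit 0xf000f00000000000000000)
 (.cons 16 (nat_lit 0xff000000ff000000ff000000ff000000f0000000000000000ff00000f000)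
 (.cons 32 (nat_lit 0xffff000000000000ffff0000000000000f0000000000000000000000)
 (.cons 64 (nat_lit 0xffff000000000000000000000000ff00000000000000)
 (.cons 128 (nat_lit 0xff0000000000000000000000000000)
 .nil))))))))))))))
noncomputable def a186 : Net := (.cons 128 (nat_lit 0xffff0000000000000000000000000000)
 (.cons 64 (nat_lit 0xffffffffffff000000000000000000ff00000000000000)
 (.cons 32 (nat_lit 0xff0000ff00000000ff0000ff00000000ff0000000000000000000000)
 (.cons 16 (nat_lit 0xff0000ff00000000ff0000ff000000f00000000f0f000000000000f000)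
 (.cons 8 (nat_lit 0xff00ff0000000000ff00ff0000000000ff000f000f0000000000000000)
 (.cons 4 (nat_lit 0xf000f000f000f0000000f00000f0000)
 (.cons 2 (nat_lit 0x13003023033003300003300003300000)
 (.cons 1 (nat_lit 0x40000545000000000000000000000000)
 (.cons 2 (nat_lit 0x20000020000000000000000000000000)
 (.cons 8 (nat_lit 0xf000f00000)
 (.cons 16 (nat_lit 0xff000000ff000000ff000000ff0000000f0000000000000000000000f000)
 (.cons 32 (nat_lit 0xff0000000000000000000000)
 (.cons 64 (nat_lit 0xff00000000000000)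
 (.cons 128 (nat_lit 0xffff0000000000000000000000000000)
 .nil))))))))))))))
noncomputable def a187 : Net := (.cons 64 (nat_lit 0xffff000000000000000000000000f000000000000000)
 (.cons 32 (nat_lit 0xffffffff000000000000000000000000ff00000f0000000000000000)
 (.cons 16 (nat_lit 0xffff00000000000000000000ffff00000f000000f00f0000ff0000000000)
 (.cons 8 (nat_lit 0xff00000000000f0000000f0000)
 (.cons 4 (nat_lit 0xf000f00000f000f0f000000000f0000)
 (.cons 2 (nat_lit 0x20000200000000000000000000000000)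
 (.cons 1 (nat_lit 0x40000400000000000000000000000000)
 (.cons 2 (nat_lit 0x20000200000000000000000000000000)
 (.cons 8 (nat_lit 0xf000f00000000000000000)
 (.cons 16 (nat_lit 0xf000000000000000ff0000000000)
 (.cons 32 (nat_lit 0xffff000000000000ffff0000000000000f0000000000000000000000)
 (.cons 64 (nat_lit 0xffff000000000000000000000000f000000000000000)
 .nil))))))))))))
noncomputable def a188 : Net := (.cons 128 (nat_lit 0xffff0000000000000000000000000000)
 (.cons 64 (nat_lit 0xffff000000000000000000000000f000000000000000)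
 (.cons 32 (nat_lit 0xffffffff000000000000000000000000ff00000f0000000000000000)
 (.cons 16 (nat_lit 0xffff0000ffff0000000000000f000000f00f0000ff0000000000)
 (.cons 8 (nat_lit 0xff00000000000f0000000f0000)
 (.cons 4 (nat_lit 0xf000f00000f000f0f000000000f0000)
 (.cons 2 (nat_lit 0x13003203300030300303000003030000)
 (.cons 1 (nat_lit 0x10000150000000000000000000000000)
 (.cons 2 (nat_lit 0x20000200000000000000000000000000)
 (.cons 8 (nat_lit 0xf000f00000000000000000)
 (.cons 16 (nat_lit 0xf000000000000000ff0000000000)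
 (.cons 32 (nat_lit 0xffff000000000000ffff0000000000000f0000000000000000000000)
 (.cons 64 (nat_lit 0xffff000000000000000000000000f000000000000000)
 (.cons 128 (nat_lit 0xffff0000000000000000000000000000)
 .nil))))))))))))))
noncomputable def a189 : Net := (.cons 128 (nat_lit 0xffff0000000000000000000000000000)
 (.cons 64 (nat_lit 0xffff000000000000000000000000f0f0000000000000)
 (.cons 32 (nat_lit 0xffff000000000000ffff00000000000000000f0000000000f0000000)
 (.cons 16 (nat_lit 0xffff0000ffff000000000000f0f00000ff000000ff0000000000)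
 (.cons 8 (nat_lit 0x33003300330033003300330033003300f000ff00f000ff000f00f0000f00f0)
 (.cons 4 (nat_lit 0xf0f0f0f0f0f0f0f0f0f0f0f0f0f0f0f00000f0f00000f0f0000000000000000)
 (.cons 2 (nat_lit 0x33003300330033003300330033003310103213323003300303013303033300)
 (.cons 1 (nat_lit 0x10400115515555000000010000000000)
 (.cons 2 (nat_lit 0x20200220020000000000020000000000)
 (.cons 8 (nat_lit 0xcc00cc00cc00cc00cc00cc00cc00cc00000000000000000000000000000000)
 (.cons 16 (nat_lit 0xf0f00000ff000000ff0000000000)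
 (.cons 32 (nat_lit 0xffff000000000000ffff00000000000000000f0000000000f0000000)
 (.cons 64 (nat_lit 0xffff000000000000000000000000f0f0000000000000)
 (.cons 128 (nat_lit 0xffff0000000000000000000000000000)
 .nil))))))))))))))
noncomputable def a190 : Net := (.cons 128 (nat_lit 0xff0000000000000000000000000000)
 (.cons 64 (nat_lit 0xff000000ffffff000000000000000000ff00000000000000)
 (.cons 32 (nat_lit 0xffff000000000000ffff0000000000ff00000000000000fd7dd7d0)
 (.cons 16 (nat_lit 0xff0000ffff0000ff000000f00000000000000072880000f572)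
 (.cons 8 (nat_lit 0xff0000000000ff00ff0000000000ff000000ff00ff00ff0087007d00250082)
 (.cons 4 (nat_lit 0xc0c0c0c0c0c0c0c0c0c000c0c0c0c0c0f000f000f000f000a0f05070f080400)
 (.cons 2 (nat_lit 0x3030303030303030303000303030303001002211030303033010200030303020)
 (.cons 1 (nat_lit 0x54001414000000000000000000000040)
 (.cons 2 (nat_lit 0x2002222000000000000000000000020)
 (.cons 4 (nat_lit 0xc0c0c0c0c0c0c0c0c0c000c0c0c0c0c00000000000000000000000000000c00)
 (.cons 8 (nat_lit 0xd0002000500080)
 (.cons 16 (nat_lit 0xff000000ff000000ff000000ff000000f0000000000000007aa80000df72)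
 (.cons 32 (nat_lit 0xff00000000000000fd777d70)
 (.cons 64 (nat_lit 0xff00ff00ff00ff000000000000000000ff00000000000000)
 (.cons 128 (nat_lit 0xff0000000000000000000000000000)
 .nil)))))))))))))))
noncomputable def a191 : Net := (.cons 128 (nat_lit 0xfff00000000000000000000000000000)
 (.cons 64 (nat_lit 0xff00ffff0000ff000000000000000000fff0000000000000)
 (.cons 32 (nat_lit 0xff0000ff00000000ff0000ff00000000ff00f00f0000000000000000)
 (.cons 16 (nat_lit 0xff000000ffff000000ff0000000000000f0f0000ffff0000ff00)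
 (.cons 8 (nat_lit 0xf0000f000f00f000f0000f000f00f000f000ff00f0000f000f0000000f0000)
 (.cons 4 (nat_lit 0xf000f000f000f000f000f000f000f000f000f0f0f0000000f000000000f0000)
 (.cons 2 (nat_lit 0x200220020220000000000000000000)
 (.cons 1 (nat_lit 0x400440040440000000000000000000)
 (.cons 2 (nat_lit 0x200220020220000000000000000000)
 (.cons 8 (nat_lit 0xf000f000f000f000f000f000f000f0000000000000000000f0000000f00000)
 (.cons 16 (nat_lit 0xf0f00000f0f00000f0f00000f0f00000f0f000000ff00000fff00000f000)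
 (.cons 32 (nat_lit 0xf000000000000000000000)
 (.cons 64 (nat_lit 0xf0f0f0f0f0f0f0f00000000000000000fff0000000000000)
 (.cons 128 (nat_lit 0xfff00000000000000000000000000000)
 .nil))))))))))))))
noncomputable def a192 : Net := (.cons 128 (nat_lit 0xffff0000000000000000000000000000)
 (.cons 64 (nat_lit 0xf00f0ff00ff00ff00000000000000000fff0000000000000)
 (.cons 32 (nat_lit 0xf0ff0f000000000f0f00f0f000000000f00ff0f0000000000000000)
 (.cons 16 (nat_lit 0xf00f0000f00f00000ff000000ff00000000000000ff00000000f0000f000)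
 (.cons 8 (nat_lit 0xf0000f00f0000f000f00f0000f00f0000000f000f000ff000000ff00ff0000)
 (.cons 4 (nat_lit 0xf0f0f0f00000000000000000f0f0f0f0f000f0f000f0f000000000f0f000000)
 (.cons 2 (nat_lit 0x23302102331122330003333030330300)
 (.cons 1 (nat_lit 0x10001101051111000000000000000000)
 (.cons 2 (nat_lit 0x20002202002222000000000000000000)
 (.cons 8 (nat_lit 0xf00000000000000000)
 (.cons 16 (nat_lit 0xff000000ff000000ff000000ff00000000f000000000000000000000ff00)
 (.cons 32 (nat_lit 0xf0f0f0f000000000f0f0f0f000000000f0000ff00000000000000000)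
 (.cons 64 (nat_lit 0xffff000000000000000000000000fff0000000000000)
 (.cons 128 (nat_lit 0xffff0000000000000000000000000000)
 .nil))))))))))))))
noncomputable def a193 : Net := (.cons 128 (nat_lit 0xffff0000000000000000000000000000)
 (.cons 64 (nat_lit 0xff0000ff0000000000000000000f00000000000000)
 (.cons 32 (nat_lit 0xff000000000000ff00ffff00000000ff0000000000000000000000)
 (.cons 16 (nat_lit 0xffff0000ffff0000ffff0000ffff00000f0000000ff00000f0f00000f000)
 (.cons 8 (nat_lit 0xff00ff0000000000ff00ff0000000000ff00ff00ff00f0000000f00000)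
 (.cons 4 (nat_lit 0xf0f0f000f00000f00000f000000)
 (.cons 2 (nat_lit 0x31002311300030300003330003030000)
 (.cons 1 (nat_lit 0x1004541000000000000000000000000)
 (.cons 2 (nat_lit 0x2002022000000000000000000000000)
 (.cons 8 (nat_lit 0xf000f00000000000000000)
 (.cons 16 (nat_lit 0xf000000000000000f0f00000f000)
 (.cons 32 (nat_lit 0xff00ff0000000000ff00ff0000000000ff0000000000000000000000)
 (.cons 64 (nat_lit 0xff00ff00ff00ff0000000000000000000f00000000000000)
 (.cons 128 (nat_lit 0xffff0000000000000000000000000000)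
 .nil))))))))))))))
noncomputable def a194 : Net := (.cons 128 (nat_lit 0xffff0000000000000000000000000000)
 (.cons 64 (nat_lit 0xff0000ff0000000000000000000f00000000000000)
 (.cons 32 (nat_lit 0xff00ffff0000000000ff000000000000ff0000000000000000000000)
 (.cons 16 (nat_lit 0xffff0000ffff0000ffff0000ffff00000f0000000ff00000f0f00000f000)
 (.cons 8 (nat_lit 0xff00ff0000000000ff00ff0000000000ff00ff00ff00f0000000f00000)
 (.cons 4 (nat_lit 0xf0f0f000f00000f00000f000000)
 (.cons 2 (nat_lit 0x2001011030003300030330030030000)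
 (.cons 1 (nat_lit 0x1004544000000000000000000000000)
 (.cons 2 (nat_lit 0x2002022000000000000000000000000)
 (.cons 8 (nat_lit 0xf000f00000000000000000)
 (.cons 16 (nat_lit 0xf000000000000000f0f00000f000)
 (.cons 32 (nat_lit 0xff00ff0000000000ff00ff0000000000ff0000000000000000000000)
 (.cons 64 (nat_lit 0xff00ff00ff00ff0000000000000000000f00000000000000)
 (.cons 128 (nat_lit 0xffff0000000000000000000000000000)
 .nil))))))))))))))
noncomputable def a195 : Net := (.cons 128 (nat_lit 0xffff0000000000000000000000000000)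
 (.cons 64 (nat_lit 0xffff0000ffffffff0000000000000000f000000000000000)
 (.cons 32 (nat_lit 0xffffffff000000000000000000000000ff00000f0000000000000000)
 (.cons 16 (nat_lit 0xffff0000ffff0000000000000f000000f00f0000ff0000000000)
 (.cons 8 (nat_lit 0xff00ff00ff00ff00ff00ff00ff00ff000000ff00000000000f0000000f0000)
 (.cons 4 (nat_lit 0xf000f00000f000f0f000000000f0000)
 (.cons 2 (nat_lit 0x23003233303333333303033003333000)
 (.cons 1 (nat_lit 0x15000155005000000000000000000000)
 (.cons 2 (nat_lit 0x20000200000000000000000000000000)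
 (.cons 8 (nat_lit 0xf000f00000000000000000)
 (.cons 16 (nat_lit 0xf000000000000000ff0000000000)
 (.cons 32 (nat_lit 0xffff000000000000ffff0000000000000f0000000000000000000000)
 (.cons 64 (nat_lit 0xffff000000000000000000000000f000000000000000)
 (.cons 128 (nat_lit 0xffff0000000000000000000000000000)
 .nil))))))))))))))
noncomputable def a196 : Net := (.cons 128 (nat_lit 0xffff0000000000000000000000000000)
 (.cons 64 (nat_lit 0xffff000000000000000000000000f000000000000000)
 (.cons 32 (nat_lit 0xffff0000000000000000ffff00000000ff0000000000000000000000)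
 (.cons 16 (nat_lit 0xffff000000000000ffff0000f0000000f0f00000ff0000000000)
 (.cons 8 (nat_lit 0xff00f000f000ff000000ff0000)
 (.cons 4 (nat_lit 0xf00000f000f000f000f00000f000000)
 (.cons 2 (nat_lit 0x2003313303030300303000003030000)
 (.cons 1 (nat_lit 0x1000040000000000000000000000000)
 (.cons 2 (nat_lit 0x2000020000000000000000000000000)
 (.cons 8 (nat_lit 0xf0000000f00000)
 (.cons 16 (nat_lit 0xf00000000000000ff0000000000)
 (.cons 32 (nat_lit 0xff0000000000000000000000)
 (.cons 64 (nat_lit 0xffff000000000000000000000000f000000000000000)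
 (.cons 128 (nat_lit 0xffff0000000000000000000000000000)
 .nil))))))))))))))
noncomputable def a197 : Net := (.cons 128 (nat_lit 0xffff0000000000000000000000000000)
 (.cons 64 (nat_lit 0xffff0000ffff00000000000000000000000000000000)
 (.cons 32 (nat_lit 0xffffffff00000000ffffffff00000000000000000000000000000000)
 (.cons 2 (nat_lit 0x3333303300330003300003300000)
 (.cons 1 (nat_lit 0x5000000000000000000000000000)
 (.cons 128 (nat_lit 0xffff0000000000000000000000000000)
 .nil))))))
noncomputable def a198 : Net := (.cons 64 (nat_lit 0xffff000000000000000000000000f000000000000000)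
 (.cons 32 (nat_lit 0xffff00000000ffff000000000000ff0000000000000000000000)
 (.cons 16 (nat_lit 0xffff000000000000ffff0000f0000000f0f00000ff0000000000)
 (.cons 8 (nat_lit 0xff00f000f000ff000000ff0000)
 (.cons 4 (nat_lit 0xf00000f000f000f000f00000f000000)
 (.cons 2 (nat_lit 0x2000020000000000000000000000000)
 (.cons 1 (nat_lit 0x4000040000000000000000000000000)
 (.cons 2 (nat_lit 0x2000020000000000000000000000000)
 (.cons 8 (nat_lit 0xf0000000f00000)
 (.cons 16 (nat_lit 0xf00000000000000ff0000000000)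
 (.cons 32 (nat_lit 0xff0000000000000000000000)
 (.cons 64 (nat_lit 0xffff000000000000000000000000f000000000000000)
 .nil))))))))))))
noncomputable def a199 : Net := (.cons 128 (nat_lit 0xffff0000000000000000000000000000)
 (.cons 64 (nat_lit 0xff00ffff0000ff000000000000000000f00ff000fffff0)
 (.cons 32 (nat_lit 0x966969960000000096696996000000000000fff000000000000f0f00)
 (.cons 16 (nat_lit 0xfff0000000f0000f000)
 (.cons 8 (nat_lit 0xf000f0000f000f000f000f00f000f00000000000ff00f0000f00ff000f00ff)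
 (.cons 4 (nat_lit 0xf000f000f000f000f000f000f000f000000000f0f00000f0f0000000f00000f)
 (.cons 2 (nat_lit 0x1122112211221122221122112211221100000012301012030000113030333230)
 (.cons 1 (nat_lit 0x1144114411441144441144114411441100000044004044050000440000000400)
 (.cons 2 (nat_lit 0x22002022000000220000000200)
 (.cons 8 (nat_lit 0xf000f000f000f000f000f000f000f0000000f0000000f00000000000f00000)
 (.cons 16 (nat_lit 0xf0000000f00000ff0000000000)
 (.cons 32 (nat_lit 0xf0f0f0f000000000f0f0f0f00000000000f00f00000000000000f0f0)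
 (.cons 64 (nat_lit 0xffff00000000000000000000000000f000ffff0f0000)
 (.cons 128 (nat_lit 0xffff0000000000000000000000000000)
 .nil))))))))))))))
noncomputable def a200 : Net := (.cons 128 (nat_lit 0xffff0000000000000000000000000000)
 (.cons 64 (nat_lit 0x55aaaa55aa55aa550000000000000000f000f0f000fff000)
 (.cons 32 (nat_lit 0x5555aaaa00000000aaaa555500000000ff0fff0f00000000f0f0f000)
 (.cons 16 (nat_lit 0xff000000ff000000ff000000ff000000f0f00000f0f0000000f00000ff0f)
 (.cons 8 (nat_lit 0xf00f0000f00f0000f00f0000f00f000f0000000f000ff00f0000000ff000f)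
 (.cons 4 (nat_lit 0x50a050a0a050a050a050a05050a050a0f0f000000000f00000f0f00000f000f)
 (.cons 2 (nat_lit 0x1212121221212121212121211212121221332303301033333312113200030130)
 (.cons 1 (nat_lit 0x1414141441414141414141411414141414001000004050055044440400050400)
 (.cons 2 (nat_lit 0x2222222222222222222222222222222222002000002000000022220200000200)
 (.cons 4 (nat_lit 0xc0c0c0c0c0c0c0c0c0c0c0c0c0c0c0c00000000000000000000000000000000)
 (.cons 8 (nat_lit 0xcc00cc00cc00cc00cc00cc00cc00cc00000000000000f000f000f000f00000)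
 (.cons 16 (nat_lit 0xcccc0000cccc0000cccc0000cccc00000ff00000f0000000ff000000f0f0)
 (.cons 32 (nat_lit 0xf0f0f0f000000000f0f0f0f0000000000f0ff0f000000000f00000f0)
 (.cons 64 (nat_lit 0xffff000000000000000000000000f000f00ff00f0ff0)
 (.cons 128 (nat_lit 0xffff0000000000000000000000000000)
 .nil)))))))))))))))
noncomputable def a201 : Net := (.cons 2 (nat_lit 0x333333333333333333333333333333330000000000000000000030000033)
 (.cons 1 (nat_lit 0x555555555555555555555555555555550000000000555555555550000000)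
 .nil))
noncomputable def a202 : Net := (.cons 128 (nat_lit 0xfff00000000000000000000000000000)
 (.cons 64 (nat_lit 0xf0f0000000000f0f00000000000000000000000000000000)
 (.cons 32 (nat_lit 0xf0f00f0f00000000f0f00f0f00000000f0ff00000000000000000000)
 (.cons 16 (nat_lit 0xf0f00000f0f00000f0f00000f0f0000000ff0000ff00000000000000ff00)
 (.cons 8 (nat_lit 0xf0000f00f0000f00f0000f00f0000f00f000ff000000000000000f000f0000)
 (.cons 4 (nat_lit 0xf00000f0f00000f0f00000f0f00000f000f0f000f0000000f00000f0f000000)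
 (.cons 2 (nat_lit 0x220000000000000000000000)
 (.cons 1 (nat_lit 0x440000000000000000000000)
 (.cons 2 (nat_lit 0x220000000000000000000000)
 (.cons 8 (nat_lit 0xf000f000f000f000f000f000f000f0000000f00000000000f0000000000000)
 (.cons 16 (nat_lit 0xff000000ff000000ff000000ff00000000000000f000000000000000ff00)
 (.cons 32 (nat_lit 0xf0ff00000000000000000000)
 (.cons 128 (nat_lit 0xfff00000000000000000000000000000)
 .nil)))))))))))))
noncomputable def a203 : Net := (.cons 128 (nat_lit 0xfff00000000000000000000000000000)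
 (.cons 64 (nat_lit 0xf0f000000f0f000000000000000000000ff0000000000000)
 (.cons 32 (nat_lit 0xf0f0f0f000000000f0f0f0f00000000000f000ff0000000000000000)
 (.cons 16 (nat_lit 0xff00000fff0000000000000ff00)
 (.cons 8 (nat_lit 0xf0000f000f00f000f0000f000f00f0000000ff00ff00000000000000000000)
 (.cons 4 (nat_lit 0xf00000f000f0f000f00000f000f0f000000000f0f000f0f0000000f0f000000)
 (.cons 2 (nat_lit 0x222200000000000000000000)
 (.cons 1 (nat_lit 0x444400000000000000000000)
 (.cons 2 (nat_lit 0x222200000000000000000000)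
 (.cons 8 (nat_lit 0xf000f000f000f000f000f000f000f00000000000000000000000f000f00000)
 (.cons 16 (nat_lit 0xff0000000f0000000000000ff00)
 (.cons 32 (nat_lit 0xff00ff0000000000ff00ff0000000000000000f00000000000000000)
 (.cons 64 (nat_lit 0xff0000000000000)
 (.cons 128 (nat_lit 0xfff00000000000000000000000000000)
 .nil))))))))))))))
noncomputable def a204 : Net := (.cons 128 (nat_lit 0xfff00000000000000000000000000000)
 (.cons 64 (nat_lit 0xf0f0000000000f0f00000000000000000000000000000000)
 (.cons 32 (nat_lit 0xf0f00f0f00000000f0f00f0f00000000f0ff00000000000000000000)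
 (.cons 16 (nat_lit 0xf0f00000f0f00000f0f00000f0f0000000ff0000ff00000000000000ff00)
 (.cons 8 (nat_lit 0xf0000f00f0000f00f0000f00f0000f00f000ff000000000000000f000f0000)
 (.cons 4 (nat_lit 0xf00000f0f00000f0f00000f0f00000f000f0f000f0000000f00000f0f000000)
 (.cons 2 (nat_lit 0x220000000000000000000000)
 (.cons 1 (nat_lit 0x440000000000000000000000)
 (.cons 2 (nat_lit 0x220000000000000000000000)
 (.cons 8 (nat_lit 0xf000f000f000f000f000f000f000f0000000f00000000000f0000000000000)
 (.cons 16 (nat_lit 0xff000000ff000000ff000000ff00000000000000f000000000000000ff00)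
 (.cons 32 (nat_lit 0xf0ff00000000000000000000)
 (.cons 128 (nat_lit 0xfff00000000000000000000000000000)
 .nil)))))))))))))
noncomputable def a205 : Net := (.cons 128 (nat_lit 0xf0f00000000000000000000000000000)
 (.cons 64 (nat_lit 0xf0f0ffff0000f0f00000000000000000f0f0000000000000)
 (.cons 32 (nat_lit 0xf0f00f0f00000000f0f00f0f00000000ffff0ff00000000000000000)
 (.cons 16 (nat_lit 0xf0f0000ffff0000f0f00000ff000000ff0000000f0f00000f00)
 (.cons 8 (nat_lit 0xf0000f000000f0000f0000000f0000)
 (.cons 4 (nat_lit 0xf0f00000f0f00000f0f00000f0f000f00000f0000000000000000000000)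
 (.cons 2 (nat_lit 0x22020200200020000000000000000000)
 (.cons 1 (nat_lit 0x44040400400040000000000000000000)
 (.cons 2 (nat_lit 0x22020200200020000000000000000000)
 (.cons 8 (nat_lit 0xf000000000000000000000)
 (.cons 16 (nat_lit 0xf0f00000f0f00000f0f00000f0f00000f0f000000f0000000f0000000000)
 (.cons 32 (nat_lit 0xff0fff000000000000000000)
 (.cons 64 (nat_lit 0xf0f0f0f0f0f0f0f00000000000000000f0f0000000000000)
 (.cons 128 (nat_lit 0xf0f00000000000000000000000000000)
 .nil))))))))))))))
noncomputable def ws : List (List ℕ) :=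
  [W (nat_lit 0x1906c1405c0b02c1301c0a),
  W (nat_lit 0x6413058110400b0200c004030200d),
  W (nat_lit 0x5515455154),
  W (nat_lit 0x15154556),
  W (nat_lit 0x5495655952),
  W (nat_lit 0x15755d59),
  W (nat_lit 0x5615a56957),
  W (nat_lit 0x15b5755b5795e5795c),
  W (nat_lit 0x5755d56d5d),
  W (nat_lit 0x5715d5715c),
  W (nat_lit 0x16258d62),
  W (nat_lit 0x5895f),
  W (nat_lit 0x1675956056d5d57558),
  W (nat_lit 0x16757d5a),
  W (nat_lit 0x16b5a96c5a96a5b16c5a56c),
  W (nat_lit 0x5ad695ad69),
  W (nat_lit 0x5c16d5b56f),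
  W (nat_lit 0x16f5b970),
  W (nat_lit 0x5b9705c16e5bd6e),
  W (nat_lit 0x5d1725d1715d176),
  W (nat_lit 0x1715cd72),
  W (nat_lit 0x5e5775d16d5c16d5a575),
  W (nat_lit 0x17a5c57a5b96c),
  W (nat_lit 0x5f17d5f17e5f97c),
  W (nat_lit 0x17e5f17e5f17c),
  W (nat_lit 0x6018160580),
  W (nat_lit 0x17f605806098060180),
  W (nat_lit 0x1826018060982),
  W (nat_lit 0x1876118461987),
  W (nat_lit 0x60d8561186),
  W (nat_lit 0x62d8a6318a),
  W (nat_lit 0x1a0701405c1205c0b02c0f02c0201c03),
  W (nat_lit 0x1904c150440b02c1801c090440101c01),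
  W (nat_lit 0x1a06c1a05015048100301101c17004030200d),
  W (nat_lit 0x1b0501504810),
  W (nat_lit 0x1a06c1a04c1504810),
  W (nat_lit 0x1b0501504810),
  W (nat_lit 0x6c1a04418)]
noncomputable def ns : List Net := [CL.O8S.M.a0, CL.O8S.M.a1, CL.O8S.M.a2, CL.O8S.M.a3, CL.O8S.M.a4, CL.O8S.M.a5, CL.O8S.M.a6, CL.O8S.M.a7, CL.O8S.M.a8, CL.O8S.M.a9, CL.O8S.M.a10, CL.O8S.M.a11, CL.O8S.M.a12, CL.O8S.M.a13, CL.O8S.M.a14, CL.O8S.M.a15, CL.O8S.M.a16, CL.O8S.M.a17, CL.O8S.M.a18, CL.O8S.M.a19, CL.O8S.M.a20, CL.O8S.M.a21, CL.O8S.M.a22, CL.O8S.M.a23, CL.O8S.M.a24, CL.O8S.M.a25, CL.O8S.M.a26, CL.O8S.M.a27, CL.O8S.M.a28, CL.O8S.M.a29, CL.O8S.M.a30, CL.O8S.M.a31, CL.O8S.M.a32, CL.O8S.M.a33, CL.O8S.M.a34, CL.O8S.M.a35, CL.O8S.M.a36, CL.O8S.M.a37, CL.O8S.M.a38, CL.O8S.M.a39, CL.O8S.M.a40, CL.O8S.M.a41, CL.O8S.M.a42, CL.O8S.M.a43, CL.O8S.M.a44, CL.O8S.M.a45, CL.O8S.M.a46, CL.O8S.M.a47, CL.O8S.M.a48, CL.O8S.M.a49, CL.O8S.M.a50, CL.O8S.M.a51, CL.O8S.M.a52, CL.O8S.M.a53, CL.O8S.M.a54, CL.O8S.M.a55, CL.O8S.M.a56,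 CL.O8S.M.a57, CL.O8S.M.a58, CL.O8S.M.a59, CL.O8S.M.a60, CL.O8S.M.a61, CL.O8S.M.a62, CL.O8S.M.a63, CL.O8S.M.a64, CL.O8S.M.a65, CL.O8S.M.a66, CL.O8S.M.a67, CL.O8S.M.a68, CL.O8S.M.a69, CL.O8S.M.a70, CL.O8S.M.a71, CL.O8S.M.a72, CL.O8S.M.a73, CL.O8S.M.a74, CL.O8S.M.a75, CL.O8S.M.a76, CL.O8S.M.a77, CL.O8S.M.a78, CL.O8S.M.a79, CL.O8S.M.a80, CL.O8S.M.a81, CL.O8S.M.a82, CL.O8S.M.a83, CL.O8S.M.a84, CL.O8S.M.a85, CL.O8S.M.a86, CL.O8S.M.a87, CL.O8S.M.a88, CL.O8S.M.a89, CL.O8S.M.a90, CL.O8S.M.a91, CL.O8S.M.a92, CL.O8S.M.a93, CL.O8S.M.a94, CL.O8S.M.a95, CL.O8S.M.a96, CL.O8S.M.a97, CL.O8S.M.a98, CL.O8S.M.a99, CL.O8S.M.a100, CL.O8S.M.a101, CL.O8S.M.a102, CL.O8S.M.a103, CL.O8S.M.a104, CL.O8S.M.a105, CL.O8S.M.a106, CL.O8S.M.a107, CL.O8S.M.a108, CL.O8S.M.a109, CL.O8S.M.a110, CL.O8S.M.a111, CL.O8S.M.a112, CL.O8S.M.a113, CL.O8S.M.a114, CL.O8S.M.a115, CL.O8S.M.a116, CL.O8S.M.a117, CL.O8S.M.a118, CL.O8S.M.a119, CL.O8S.M.a120, CL.O8S.M.a121, CL.O8S.M.a122, CL.O8S.M.a123, CL.O8S.M.a124, CL.O8S.M.a125, CL.O8S.M.a126,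 CL.O8S.M.a127, CL.O8S.M.a128, CL.O8S.M.a129, CL.O8S.M.a130, CL.O8S.M.a131, CL.O8S.M.a132, CL.O8S.M.a133, CL.O8S.M.a134, CL.O8S.M.a135, CL.O8S.M.a136, CL.O8S.M.a137, CL.O8S.M.a138, CL.O8S.M.a139, CL.O8S.M.a140, CL.O8S.M.a141, CL.O8S.M.a142, CL.O8S.M.a143, CL.O8S.M.a144, CL.O8S.M.a145, CL.O8S.M.a146, CL.O8S.M.a147, CL.O8S.M.a148, CL.O8S.M.a149, CL.O8S.M.a150, CL.O8S.M.a151, CL.O8S.M.a152, CL.O8S.M.a153, CL.O8S.M.a154, CL.O8S.M.a155, CL.O8S.M.a156, CL.O8S.M.a157, CL.O8S.M.a158, CL.O8S.M.a159, CL.O8S.M.a160, CL.O8S.M.a161, CL.O8S.M.a162, CL.O8S.M.a163, CL.O8S.M.a164, CL.O8S.M.a165, CL.O8S.M.a166, CL.O8S.M.a167, a168, a169, a170, a171, a172, a173, a174, a175, a176, a177, a178, a179, a180, a181, a182, a183, a184, a185, a186, a187, a188, a189, a190, a191, a192, a193, a194, a195, a196, a197, a198, a199, a200, a201, a202, a203, a204, a205]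
noncomputable def D : List (ℕ × List ℕ) := app CL.O8S.M.D (mkDefs ws 168)
noncomputable def chk : List (List ℕ × List ℕ) → Bool := CL.O8S.M.P.relsB ns
noncomputable def zt0 : List ℕ :=
  []
noncomputable def zcj1 : List (List ℕ) :=
  []
noncomputable def zus4 : List (List ℕ) :=
  [[358],
  [359],
  W (nat_lit 0x59d65)]
noncomputable def zF5 : List (List (ℕ × List ℕ)) :=
  [[(0, [356]),
   (3, []),
   (1, [357]),
   (2, [356])],
  [(1, []),
   (2, []),
   (0, []),
   (3, [356])]]
noncomputable def zus8 : List (List ℕ) :=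
  [[350],
  [351],
  [352],
  [354],
  W (nat_lit 0x57d64),
  W (nat_lit 0x57d66),
  W (nat_lit 0x58563)]
noncomputable def zF9 : List (List (ℕ × List ℕ)) :=
  [[(1, []),
   (2, []),
   (0, []),
   (3, [359]),
   (7, W (nat_lit 0x59968)),
   (4, W (nat_lit 0x16659d65)),
   (6, [357]),
   (5, [356])],
  [(3, []),
   (1, [358]),
   (0, [359]),
   (2, [358]),
   (4, [356]),
   (6, [359]),
   (7, W (nat_lit 0x59968)),
   (5, W (nat_lit 0x16559d65))],
  [(4, []),
   (0, W (nat_lit 0x59567)),
   (3, W (nat_lit 0x59967)),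
   (7, []),
   (5, W (nat_lit 0x16659d65)),
   (1, []),
   (2, W (nat_lit 0x59568)),
   (6, W (nat_lit 0x16559d65))]]
noncomputable def zus12 : List (List ℕ) :=
  [[346],
  [347],
  [349],
  W (nat_lit 0x56d5b),
  W (nat_lit 0x56d5d),
  W (nat_lit 0x56d5e),
  W (nat_lit 0x5795e),
  W (nat_lit 0x57963),
  W (nat_lit 0x15b5755d)]
noncomputable def zF13 : List (List (ℕ × List ℕ)) :=
  [[(1, []),
   (4, []),
   (0, []),
   (2, W (nat_lit 0x5996758563)),
   (3, W (nat_lit 0x16559d63)),
   (8, W (nat_lit 0x1665a161)),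
   (5, W (nat_lit 0x59563)),
   (6, W (nat_lit 0x5996757d66)),
   (9, W (nat_lit 0x59560)),
   (7, W (nat_lit 0x16757d64))],
  [(2, W (nat_lit 0x16758563)),
   (5, []),
   (4, [354]),
   (0, []),
   (7, W (nat_lit 0x1665a163)),
   (9, []),
   (1, []),
   (3, []),
   (6, W (nat_lit 0x16658563)),
   (8, W (nat_lit 0x16559d60))]]
noncomputable def zus16 : List (List ℕ) :=
  [[342],
  [343],
  [344],
  [345],
  W (nat_lit 0x55d59),
  W (nat_lit 0x55d5a),
  W (nat_lit 0x56158),
  W (nat_lit 0x55d5d),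
  W (nat_lit 0x5615e),
  W (nat_lit 0x1575695a),
  W (nat_lit 0x55d5e)]
noncomputable def zF17 : List (List (ℕ × List ℕ)) :=
  [[(1, []),
   (4, [346]),
   (0, []),
   (6, W (nat_lit 0x16557d5e)),
   (5, W (nat_lit 0x16559d61)),
   (8, W (nat_lit 0x5956356d5e)),
   (3, W (nat_lit 0x16759561)),
   (2, []),
   (10, W (nat_lit 0x16659d655856357963)),
   (11, W (nat_lit 0x595675956056d5d)),
   (9, W (nat_lit 0x5a15f5995c)),
   (7, W (nat_lit 0x59d6356d5e))],
  [(3, []),
   (5, []),
   (8, W (nat_lit 0x595675855b)),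
   (9, W (nat_lit 0x16559d5f5995c)),
   (0, []),
   (4, W (nat_lit 0x5956356d5e)),
   (1, []),
   (11, W (nat_lit 0x16559d5c)),
   (2, W (nat_lit 0x16659d6357963)),
   (7, W (nat_lit 0x1655a16158d5b)),
   (6, []),
   (10, W (nat_lit 0x595675956057963))]]
noncomputable def zE20 : List (ℕ × List ℕ) :=
  [(340, W (nat_lit 0x16659d615795e55d5e))]
noncomputable def zt21 : List ℕ :=
  W (nat_lit 0x1675855b55d5a)
noncomputable def zcj22 : List (List ℕ) :=
  [W (nat_lit 0x5996857d5e56158),
  [343]]
noncomputable def zus26 : List (List ℕ) :=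
  [[338],
  [339],
  W (nat_lit 0x54d53)]
noncomputable def zF27 : List (List (ℕ × List ℕ)) :=
  [[(0, [336]),
   (2, W (nat_lit 0x5a16056d5e55d5a56951)),
   (1, W (nat_lit 0x595685855b5755d55d5a56951)),
   (3, W (nat_lit 0x16557d5c56551))],
  [(1, []),
   (3, []),
   (0, []),
   (2, W (nat_lit 0x167595635795e55d5d))]]
noncomputable def C_v0 : Lev :=
  ⟨0, 4, sg (W (nat_lit 0x15354553)), [[336], [340]], 167, 1⟩
noncomputable def C_v1 : Lev :=
  ⟨1, 2, sg [336], [[342], [344]], 168, 2⟩
noncomputable def C_v2 : Lev :=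
  ⟨4, 12, sg (W (nat_lit 0x1575655756557)), [[346], [348]], 170, 2⟩
noncomputable def C_v3 : Lev :=
  ⟨8, 10, sg (W (nat_lit 0x15d56d5d56d5b56d5b)), [[350], [352], [354]], 172, 3⟩
noncomputable def C_v4 : Lev :=
  ⟨12, 8, sg (W (nat_lit 0x58d6158d5f)), [[356], [358]], 175, 2⟩
noncomputable def C_v5 : Lev :=
  ⟨112, 4, sg (W (nat_lit 0x16559567)), [[356]], 177, 0⟩
noncomputable def C_v6 : Lev :=
  ⟨16, 3, sg (W (nat_lit 0x59565)), [], 177, 0⟩
noncomputable def C_vs7 : List Lev :=
  []
noncomputable def C_vs6 : List Lev :=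
  C_v6 :: C_vs7
noncomputable def C_vs5 : List Lev :=
  C_v5 :: C_vs6
noncomputable def C_vs4 : List Lev :=
  C_v4 :: C_vs5
noncomputable def C_vs3 : List Lev :=
  C_v3 :: C_vs4
noncomputable def C_vs2 : List Lev :=
  C_v2 :: C_vs3
noncomputable def C_vs1 : List Lev :=
  C_v1 :: C_vs2
noncomputable def C_vs : List Lev :=
  C_v0 :: C_vs1
noncomputable def zt31 : List ℕ :=
  []
noncomputable def zcj32 : List (List ℕ) :=
  []
noncomputable def zus35 : List (List ℕ) :=
  [[376],
  [377],
  W (nat_lit 0x5e577)]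
noncomputable def zF36 : List (List (ℕ × List ℕ)) :=
  [[(0, [374]),
   (3, []),
   (1, [375]),
   (2, [374])],
  [(1, []),
   (2, []),
   (0, []),
   (3, [374])]]
noncomputable def zus39 : List (List ℕ) :=
  [[368],
  [369],
  [370],
  [371],
  [373],
  W (nat_lit 0x5c575),
  W (nat_lit 0x5c57a)]
noncomputable def zF40 : List (List (ℕ × List ℕ)) :=
  [[(1, []),
   (2, []),
   (0, []),
   (3, [377]),
   (6, W (nat_lit 0x1775e577)),
   (4, [374]),
   (5, W (nat_lit 0x5dd79)),
   (7, [377])],
  [(3, []),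
   (1, [376]),
   (6, W (nat_lit 0x5e17a)),
   (4, []),
   (0, []),
   (5, W (nat_lit 0x5e17a)),
   (7, W (nat_lit 0x1785e577)),
   (2, [376])],
  [(3, W (nat_lit 0x5e17a)),
   (6, []),
   (4, [374]),
   (1, [374]),
   (2, W (nat_lit 0x1775e577)),
   (0, []),
   (7, [375]),
   (5, W (nat_lit 0x5e577))]]
noncomputable def zus43 : List (List ℕ) :=
  [[364],
  [365],
  [366],
  [367],
  W (nat_lit 0x5b570),
  W (nat_lit 0x5b96f),
  W (nat_lit 0x5b572),
  W (nat_lit 0x16d5c16d),
  W (nat_lit 0x5b571)]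
noncomputable def zF44 : List (List (ℕ × List ℕ)) :=
  [[(1, []),
   (2, []),
   (0, []),
   (3, [371]),
   (4, [369]),
   (8, []),
   (5, W (nat_lit 0x17a5c575)),
   (7, W (nat_lit 0x5dd79)),
   (6, W (nat_lit 0x17a5c575)),
   (9, W (nat_lit 0x1775e571))],
  [(3, []),
   (4, W (nat_lit 0x5e576)),
   (6, []),
   (5, W (nat_lit 0x1785e572)),
   (0, []),
   (1, []),
   (9, W (nat_lit 0x17a5c575)),
   (2, [373]),
   (7, []),
   (8, W (nat_lit 0x1785e5775c57a))]]
noncomputable def zus47 : List (List ℕ) :=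
  [[360],
  [361],
  [362],
  [363],
  W (nat_lit 0x5a56b),
  W (nat_lit 0x5a56c),
  W (nat_lit 0x5a56e),
  W (nat_lit 0x5a96c),
  W (nat_lit 0x5a96f),
  W (nat_lit 0x5a575),
  W (nat_lit 0x5a571)]
noncomputable def zF48 : List (List (ℕ × List ℕ)) :=
  [[(1, []),
   (2, []),
   (0, []),
   (8, [366]),
   (4, W (nat_lit 0x5c5755b570)),
   (5, W (nat_lit 0x1725b571)),
   (6, W (nat_lit 0x1775e9745b96f)),
   (7, [365]),
   (9, W (nat_lit 0x5e1795dd6d)),
   (3, W (nat_lit 0x5e9725b96f)),
   (10, W (nat_lit 0x5dd73)),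
   (11, W (nat_lit 0x1775e571))],
  [(3, []),
   (5, []),
   (7, W (nat_lit 0x5e17a5c57a5b570)),
   (4, []),
   (0, []),
   (6, []),
   (1, []),
   (8, W (nat_lit 0x5dd795b96f)),
   (2, []),
   (10, W (nat_lit 0x5dd715d570)),
   (11, W (nat_lit 0x5dd795b570)),
   (9, W (nat_lit 0x1775e5725b96f))]]
noncomputable def Y_v0 : Lev :=
  ⟨0, 1, sg [], [[360], [362]], 179, 0⟩
noncomputable def Y_v1 : Lev :=
  ⟨1, 1, sg [], [[360], [362]], 179, 0⟩
noncomputable def Y_v2 : Lev :=
  ⟨4, 12, sg (W (nat_lit 0x16b5ad695ad695ad69)), [[364], [366]], 179, 2⟩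
noncomputable def Y_v3 : Lev :=
  ⟨8, 10, sg (W (nat_lit 0x16f5bd6f5bd6d)), [[368], [370], [372]], 181, 3⟩
noncomputable def Y_v4 : Lev :=
  ⟨12, 8, sg (W (nat_lit 0x5cd715cd71)), [[374], [376]], 184, 2⟩
noncomputable def Y_v5 : Lev :=
  ⟨112, 4, sg (W (nat_lit 0x1775dd79)), [[374]], 186, 0⟩
noncomputable def Y_v6 : Lev :=
  ⟨16, 3, sg (W (nat_lit 0x5dd77)), [], 186, 0⟩
noncomputable def Y_vs7 : List Lev :=
  []
noncomputable def Y_vs6 : List Lev :=
  Y_v6 :: Y_vs7
noncomputable def Y_vs5 : List Lev :=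
  Y_v5 :: Y_vs6
noncomputable def Y_vs4 : List Lev :=
  Y_v4 :: Y_vs5
noncomputable def Y_vs3 : List Lev :=
  Y_v3 :: Y_vs4
noncomputable def Y_vs2 : List Lev :=
  Y_v2 :: Y_vs3
noncomputable def Y_vs1 : List Lev :=
  Y_v1 :: Y_vs2
noncomputable def Y_vs : List Lev :=
  Y_v0 :: Y_vs1
noncomputable def zm52 : ℕ :=
  (nat_lit 0xf)
noncomputable def ce_F : List (List ℕ × ℕ × ℕ) :=
  [([0], zm52, zm52)]
noncomputable def ceG_v0 : Lev :=
  ⟨0, 240, sg (W (nat_lit 0x10040100c010040100c0100403004030040100c0100c01)), [[6], [8]], 0, 2⟩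
noncomputable def ceG_v1 : Lev :=
  ⟨1, 126, sg (W (nat_lit 0x701c070240701c0901c07024070240701c0901c0901c07)), [[86], [88]], 40, 2⟩
noncomputable def ceG_v2 : Lev :=
  ⟨52, 60, sg (W (nat_lit 0x5715c5716457164571645716457)), [[90], [92]], 42, 2⟩
noncomputable def ceG_v3 : Lev :=
  ⟨88, 24, sg (W (nat_lit 0x5b1745b1745b1745b)), [[94], [96], [98]], 44, 3⟩
noncomputable def ceG_v4 : Lev :=
  ⟨64, 8, sg (W (nat_lit 0x631845f)), [], 47, 0⟩
noncomputable def ceG_vs5 : List Lev :=
  []
noncomputable def ceG_vs4 : List Lev :=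
  ceG_v4 :: ceG_vs5
noncomputable def ceG_vs3 : List Lev :=
  ceG_v3 :: ceG_vs4
noncomputable def ceG_vs2 : List Lev :=
  ceG_v2 :: ceG_vs3
noncomputable def ceG_vs1 : List Lev :=
  ceG_v1 :: ceG_vs2
noncomputable def ceG_vs : List Lev :=
  ceG_v0 :: ceG_vs1
noncomputable def ce_x : List (ℕ × List ℕ) :=
  [((nat_lit 0), []),
  ((nat_lit 0), [(nat_lit 0x3cc3c33cc33c3cc3c33c3cc33cc3c33cfffffffffffffff0000000000006)])]
noncomputable def zE56 : List (ℕ × List ℕ) :=
  [(86, W (nat_lit 0x5996857d645715a)),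
  (88, W (nat_lit 0x599675955f5995b5615e))]
noncomputable def ce_G : Gl :=
  ⟨CL.O8S.M.P, ns, (app D zE56), (diag [[240]]), [], [], memM (app D zE56) [[336], [338]], true⟩
noncomputable def ce_s : St :=
  ⟨(mkS CL.O8S.M.P.n ceG_vs ce_x), [[0], [2]], [], mapL Prod.snd ce_F, memM (app D zE56) [[336], [338]], []⟩
noncomputable def zt58 : ST :=
  (.br 0 [W (nat_lit 0x5956756d5756554)] (W (nat_lit 0x100401)) [(0, [])] (.cons (.orb 0 (.and 2 0 (.br 0 [W (nat_lit 0x5995f5995757951)] [0] [(1, [])] (.cons .fnd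
 .nil))))
 .nil))
noncomputable def zcj62 : List (List (List ℕ)) :=
  [[W (nat_lit 0x1725b571), W (nat_lit 0x1785e5715d56d5a96f)],
  [W (nat_lit 0x5dd7a5d96f), W (nat_lit 0x5dd715d56f5a56b)]]
noncomputable def zts70 : List (List ℕ) :=
  [W (nat_lit 0x18960d875fd825ed80),
  W (nat_lit 0x18e6258361d805f181)]
noncomputable def ZB_v0 : Lev :=
  ⟨0, 2, sg [236], [[360], [362]], 196, 0⟩
noncomputable def ZB_v1 : Lev :=
  ⟨1, 1, sg [], [[360], [362]], 179, 0⟩
noncomputable def ZB_v2 : Lev :=
  ⟨4, 12, sg (W (nat_lit 0x16b5ad695ad695ad69)), [[364], [366]], 179, 2⟩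
noncomputable def ZB_v3 : Lev :=
  ⟨8, 10, sg (W (nat_lit 0x16f5bd6f5bd6d)), [[368], [370], [372]], 181, 3⟩
noncomputable def ZB_v4 : Lev :=
  ⟨12, 8, sg (W (nat_lit 0x5cd715cd71)), [[374], [376]], 184, 2⟩
noncomputable def ZB_v5 : Lev :=
  ⟨112, 4, sg (W (nat_lit 0x1775dd79)), [[374]], 186, 0⟩
noncomputable def ZB_v6 : Lev :=
  ⟨16, 3, sg (W (nat_lit 0x5dd77)), [], 186, 0⟩
noncomputable def ZB_vs7 : List Lev :=
  []
noncomputable def ZB_vs6 : List Lev :=
  ZB_v6 :: ZB_vs7
noncomputable def ZB_vs5 : List Lev :=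
  ZB_v5 :: ZB_vs6
noncomputable def ZB_vs4 : List Lev :=
  ZB_v4 :: ZB_vs5
noncomputable def ZB_vs3 : List Lev :=
  ZB_v3 :: ZB_vs4
noncomputable def ZB_vs2 : List Lev :=
  ZB_v2 :: ZB_vs3
noncomputable def ZB_vs1 : List Lev :=
  ZB_v1 :: ZB_vs2
noncomputable def ZB_vs : List Lev :=
  ZB_v0 :: ZB_vs1

theorem zb2 : bnd (pcB D [] 3 zt0 zcj1) (leB (app D []) [[356]] ([356] :: [])) = true := by decide +kernel
theorem zr3 : chk (pcR [] [356] 3 zt0 zcj1) = true := by decide +kernel
theorem zb6 : schB D [[356], [358]] [[356]] zus4 zF5 4 = true := by decide +kernel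
theorem zr7 : chk (schR [[356], [358]] zus4 zF5) = true := by decide +kernel
theorem zb10 : schB D [[350], [352], [354]] [[356], [358]] zus8 zF9 8 = true := by decide +kernel
theorem zr11 : chk (schR [[350], [352], [354]] zus8 zF9) = true := by decide +kernel
theorem zb14 : schB D [[346], [348]] [[350], [352], [354]] zus12 zF13 10 = true := by decide +kernel
theorem zr15 : chk (schR [[346], [348]] zus12 zF13) = true := by decide +kernel
theorem zb18 : schB D [[342], [344]] [[346], [348]] zus16 zF17 12 = true := by decide +kernel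
theorem zr19 : chk (schR [[342], [344]] zus16 zF17) = true := by decide +kernel
theorem zb23 : bnd (pcB D [[342], [344]] 2 zt21 zcj22) (leB (app D zE20) [[336], [340]] ([336] :: [[342], [344]])) = true := by decide +kernel
theorem zr24 : chk (pcR [[342], [344]] [336] 2 zt21 zcj22) = true := by decide +kernel
theorem zr25 : chk (defRels zE20) = true := by decide +kernel
theorem zb28 : schB D [[336], [338]] [[336], [340]] zus26 zF27 4 = true := by decide +kernel
theorem zr29 : chk (schR [[336], [338]] zus26 zF27) = true := by decide +kernel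
theorem zc30 : CL.O8S.M.P.chainB ns D C_vs [[336], [338]] = true := by decide +kernel
theorem zb33 : bnd (pcB D [] 3 zt31 zcj32) (leB (app D []) [[374]] ([374] :: [])) = true := by decide +kernel
theorem zr34 : chk (pcR [] [374] 3 zt31 zcj32) = true := by decide +kernel
theorem zb37 : schB D [[374], [376]] [[374]] zus35 zF36 4 = true := by decide +kernel
theorem zr38 : chk (schR [[374], [376]] zus35 zF36) = true := by decide +kernel
theorem zb41 : schB D [[368], [370], [372]] [[374], [376]] zus39 zF40 8 = true := by decide +kernel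
theorem zr42 : chk (schR [[368], [370], [372]] zus39 zF40) = true := by decide +kernel
theorem zb45 : schB D [[364], [366]] [[368], [370], [372]] zus43 zF44 10 = true := by decide +kernel
theorem zr46 : chk (schR [[364], [366]] zus43 zF44) = true := by decide +kernel
theorem zb49 : schB D [[360], [362]] [[364], [366]] zus47 zF48 12 = true := by decide +kernel
theorem zr50 : chk (schR [[360], [362]] zus47 zF48) = true := by decide +kernel
theorem zc51 : CL.O8S.M.P.chainB ns D Y_vs [[360], [362]] = true := by decide +kernel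
theorem zf53 : CL.O8S.M.P.fixXB ns (diag [[240]]) ce_F = true := by decide +kernel
theorem zc54 : CL.O8S.M.P.chainB ns D ceG_vs [[0], [2]] = true := by decide +kernel
theorem zs55 : ssB CL.O8S.M.P.N ns D (mkS CL.O8S.M.P.n ceG_vs ce_x) [[0], [2]] = true := by decide +kernel
theorem zr57 : chk (defRels zE56) = true := by decide +kernel
theorem zs59 : ce_G.chk zt58 ce_s none = true := by decide +kernel
theorem zr60 : chk (comR [[336], [338]] (mapL Prod.snd (diag [[240]]))) = true := by decide +kernel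
theorem zm61 : leB D [[336], [338]] [[0], [2]] = true := by decide +kernel
theorem zm63 : nrmB D [[336], [338]] [[360], [362]] zcj62 = true := by decide +kernel
theorem zr64 : chk (nrmR [[336], [338]] [[360], [362]] zcj62) = true := by decide +kernel
theorem zm65 : leB D [[360], [362]] [[336], [338]] = true := by decide +kernel
theorem zr66 : chk (zp [] (powWs 3 [[360], [362]]) []) = true := by decide +kernel
theorem zm67 : leB D [[360], [362]] [[336], [338]] = true := by decide +kernel
theorem zr68 : chk (zp [] (powWs 8 [[378], [380]]) []) = true := by decide +kernel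
theorem zm69 : leB D [[378], [380]] [[360], [362]] = true := by decide +kernel
theorem zm71 : leB D zts70 [[378], [380]] = true := by decide +kernel
theorem zr72 : chk (zp [] [[360], [362]] zts70) = true := by decide +kernel
theorem zc73 : CL.O8S.M.P.chainB ns D ZB_vs [[236], [360], [362]] = true := by decide +kernel
theorem ze74 : extB CL.O8S.M.ns ns 168 ws CL.O8S.M.D = true := by decide +kernel
theorem zn75 : CL.O8S.M.P.netsB ns (mkDefs ws 168) = true := by decide +kernel

variable {G X : Type*} [Group G] [MulAction G X] {e : ℕ → X} {gs : List G}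

theorem len {k} (c : Ctx CL.O8S.M.P e gs CL.O8S.M.ns CL.O8S.M.D k) : gs.length = 168 := c.len ze74

theorem ctx0 {k} (c : Ctx CL.O8S.M.P e gs CL.O8S.M.ns CL.O8S.M.D k) : Ctx CL.O8S.M.P e (ext gs ws) ns D chk0 :=
  c.ext rfl ze74 zn75

theorem ctx {k} (c : Ctx CL.O8S.M.P e gs CL.O8S.M.ns CL.O8S.M.D k) {H : Subgroup G} (hF : Faithful e CL.O8S.M.P.n H) (hH : ∀ g ∈ gs, g ∈ H) :
    Ctx CL.O8S.M.P e (ext gs ws) ns D chk :=
  (ctx0 c).withB hF (mem_of_mem_ext hH _)

theorem C_u6 (c : Ctx CL.O8S.M.P e gs ns D chk) :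
    UB (subW gs [[356]]) 3 :=
  (c.pc_step (UB.nil gs) (Rels.nil _)
    (c.rels _ zr3) zb2).le (by decide)

theorem C_u5 (c : Ctx CL.O8S.M.P e gs ns D chk) :
    UB (subW gs [[356], [358]]) 12 :=
  (c.sch_step (C_u6 c)
    (c.rels _ zr7) zb6).le (by decide)

theorem C_u4 (c : Ctx CL.O8S.M.P e gs ns D chk) :
    UB (subW gs [[350], [352], [354]]) 96 :=
  (c.sch_step (C_u5 c)
    (c.rels _ zr11) zb10).le (by decide)

theorem C_u3 (c : Ctx CL.O8S.M.P e gs ns D chk) :
    UB (subW gs [[346], [348]]) 960 :=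
  (c.sch_step (C_u4 c)
    (c.rels _ zr15) zb14).le (by decide)

theorem C_u2 (c : Ctx CL.O8S.M.P e gs ns D chk) :
    UB (subW gs [[342], [344]]) 11520 :=
  (c.sch_step (C_u3 c)
    (c.rels _ zr19) zb18).le (by decide)

theorem C_u1 (c : Ctx CL.O8S.M.P e gs ns D chk) :
    UB (subW gs [[336], [340]]) 23040 :=
  (c.pc_step (C_u2 c) (c.rels _ zr25)
    (c.rels _ zr24) zb23).le (by decide)

theorem C_u0 (c : Ctx CL.O8S.M.P e gs ns D chk) :
    UB (subW gs [[336], [338]]) 92160 :=
  (c.sch_step (C_u1 c)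
    (c.rels _ zr29) zb28).le (by decide)

theorem C_ub (c : Ctx CL.O8S.M.P e gs ns D chk) :
    UB (subW gs [[336], [338]]) 92160 :=
  (C_u0 c)

theorem C_c : CL.O8S.M.P.chainB ns D C_vs [[336], [338]] = true :=
  zc30

theorem C_o : prodL C_vs 1 = 92160 := by decide +kernel

theorem C_ex (c : Ctx CL.O8S.M.P e gs ns D chk) :
    Exact e CL.O8S.M.P.n CL.O8S.M.P.N gs ns 1 C_vs [[336], [338]] :=
  c.exact C_c C_o (C_ub c)

theorem C_card (c : Ctx CL.O8S.M.P e gs ns D chk) :
    Nat.card (subW gs [[336], [338]]) = 92160 :=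
  (C_ex c).card.trans C_o

theorem Y_u6 (c : Ctx CL.O8S.M.P e gs ns D chk) :
    UB (subW gs [[374]]) 3 :=
  (c.pc_step (UB.nil gs) (Rels.nil _)
    (c.rels _ zr34) zb33).le (by decide)

theorem Y_u5 (c : Ctx CL.O8S.M.P e gs ns D chk) :
    UB (subW gs [[374], [376]]) 12 :=
  (c.sch_step (Y_u6 c)
    (c.rels _ zr38) zb37).le (by decide)

theorem Y_u4 (c : Ctx CL.O8S.M.P e gs ns D chk) :
    UB (subW gs [[368], [370], [372]]) 96 :=
  (c.sch_step (Y_u5 c)
    (c.rels _ zr42) zb41).le (by decide)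

theorem Y_u3 (c : Ctx CL.O8S.M.P e gs ns D chk) :
    UB (subW gs [[364], [366]]) 960 :=
  (c.sch_step (Y_u4 c)
    (c.rels _ zr46) zb45).le (by decide)

theorem Y_u2 (c : Ctx CL.O8S.M.P e gs ns D chk) :
    UB (subW gs [[360], [362]]) 11520 :=
  (c.sch_step (Y_u3 c)
    (c.rels _ zr50) zb49).le (by decide)

theorem Y_u1 (c : Ctx CL.O8S.M.P e gs ns D chk) :
    UB (subW gs [[360], [362]]) 11520 :=
  (Y_u2 c)

theorem Y_u0 (c : Ctx CL.O8S.M.P e gs ns D chk) :
    UB (subW gs [[360], [362]]) 11520 :=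
  (Y_u1 c)

theorem Y_ub (c : Ctx CL.O8S.M.P e gs ns D chk) :
    UB (subW gs [[360], [362]]) 11520 :=
  (Y_u0 c)

theorem Y_c : CL.O8S.M.P.chainB ns D Y_vs [[360], [362]] = true :=
  zc51

theorem Y_o : prodL Y_vs 1 = 11520 := by decide +kernel

theorem Y_ex (c : Ctx CL.O8S.M.P e gs ns D chk) :
    Exact e CL.O8S.M.P.n CL.O8S.M.P.N gs ns 1 Y_vs [[360], [362]] :=
  c.exact Y_c Y_o (Y_ub c)

theorem Y_card (c : Ctx CL.O8S.M.P e gs ns D chk) :
    Nat.card (subW gs [[360], [362]]) = 11520 :=
  (Y_ex c).card.trans Y_o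

theorem ceG_c : CL.O8S.M.P.chainB ns D ceG_vs [[0], [2]] = true :=
  zc54

theorem ceG_o : prodL ceG_vs 1 = 348364800 := by decide +kernel

theorem ce (c : Ctx CL.O8S.M.P e gs ns D chk) [Finite G] (hU : UB (subW gs [[0], [2]]) 348364800) :
    (subW gs [[0], [2]]) ⊓ Subgroup.centralizer (subW gs [[240]] : Set G) = (subW gs [[336], [338]]) :=
  c.cent (lx := [[240]]) (c.rels _ zr57) (c.sOk (c.exact ceG_c ceG_o hU) zs55) (fun _ h => by cases h)
    (c.fixX zf53) (c.rels _ zr60) zm61 zs59

theorem nY (c : Ctx CL.O8S.M.P e gs ns D chk) [Finite G] :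
    (subW gs [[336], [338]]) ≤ Subgroup.normalizer (subW gs [[360], [362]] : Set G) :=
  have hfin : Finite (subW gs [[360], [362]]) := inferInstance
  (c.le_normalizer (cj := zcj62) hfin (c.rels _ zr64) zm63)

theorem hC (c : Ctx CL.O8S.M.P e gs ns D chk) [Finite G] (hU : UB (subW gs [[0], [2]]) 348364800) :
    (subW gs [[0], [2]]) ⊓ C1 (wordG gs [240]) = (subW gs [[336], [338]]) :=
  c1_of (ce c hU)

theorem y1 (c : Ctx CL.O8S.M.P e gs ns D chk) [Finite G] :
    Yo (subW gs [[336], [338]]) ≤ (subW gs [[360], [362]]) :=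
  Yo_le_c (c.le zm65) (nY c) (C_card c) (Y_card c) 3 (by norm_num)

theorem y2 (c : Ctx CL.O8S.M.P e gs ns D chk) :
    (subW gs [[360], [362]]) ≤ Yo (subW gs [[336], [338]]) :=
  le_Yo (c.le zm67) (c.rels _ zr66)

theorem dw (c : Ctx CL.O8S.M.P e gs ns D chk) [Finite G] (hU : UB (subW gs [[0], [2]]) 348364800) :
    DW (subW gs [[0], [2]]) (wordG gs [240]) = (subW gs [[360], [362]]) :=
  DW_eq1 (hC c hU) (y1 c) (y2 c) (c.le_of_rels (ws := [[360], [362]]) (l := [[378], [380]]) (c.rels _ zr72) zm71)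
    (le_Dt (c.le zm69) (c.rels _ zr68))

theorem ZB_c : CL.O8S.M.P.chainB ns D ZB_vs [[236], [360], [362]] = true :=
  zc73

theorem ZB_o : prodL ZB_vs 1 = 23040 := by decide +kernel

theorem ZB_lb (c : Ctx CL.O8S.M.P e gs ns D chk) :
    LB (subW gs [[236], [360], [362]]) 23040 :=
  c.lb ZB_c ZB_o

theorem fx (c : Ctx CL.O8S.M.P e gs ns D chk) [Finite G] (hU : UB (subW gs [[0], [2]]) 348364800) :
    FB (subW gs [[0], [2]]) (wordG gs [236]) (wordG gs [240]) :=
  ⟨by rw [dw c hU]; exact Y_card c, by rw [dw c hU]; exact not_mem_of_card (Y_card c) (ZB_lb c) le_rfl (by norm_num),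
    by rw [dw c hU]; exact (by exact mem_w c (W (nat_lit 0x5e1795c96d5a96c)) (by decide +kernel) (by decide +kernel)),
    wordG gs [398], (c.mem (by decide +kernel)), wordG gs [400], (c.mem (by decide +kernel)), wordG gs [402], (by simp only [← wordG_append, ← wordG_invW]; exact c.eq (by decide +kernel)), (by simp only [← wordG_append, ← wordG_invW]; exact c.eq (by decide +kernel)), (by unfold Commute SemiconjBy; simp only [← wordG_append, ← wordG_invW]; exact c.eq (by decide +kernel)),
    wordG gs [404] * wordG gs [406] * (wordG gs [408] * wordG gs [410]), Subgroup.mul_mem _ (mem_Dt (Subgroup.mul_mem _ (mem_Yo (Subgroup.mem_inf.2 ⟨Subgroup.mem_inf.2 ⟨(c.mem (by decide +kernel)), (Subgroup.mem_centralizer_singleton_iff.2 (by simp only [← wordG_append, ← wordG_invW]; exact c.eq (by decide +kernel)))⟩,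
      (Subgroup.mem_centralizer_singleton_iff.2 (by simp only [← wordG_append, ← wordG_invW]; exact c.eq (by decide +kernel)))⟩) (by rw [← wordG_powW]; exact c.eq (w := []) (by decide +kernel)))
      (mem_Yo (Subgroup.mem_inf.2 ⟨Subgroup.mem_inf.2 ⟨(c.mem (by decide +kernel)), (Subgroup.mem_centralizer_singleton_iff.2 (by simp only [← wordG_append, ← wordG_invW]; exact c.eq (by decide +kernel)))⟩,
      (Subgroup.mem_centralizer_singleton_iff.2 (by simp only [← wordG_append, ← wordG_invW]; exact c.eq (by decide +kernel)))⟩) (by rw [← wordG_powW]; exact c.eq (w := []) (by decide +kernel)))) (by simp only [← wordG_append, ← wordG_invW]; exact c.eq (w := []) (by decide +kernel)))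
    (mem_Dt (Subgroup.mul_mem _ (mem_Yo (Subgroup.mem_inf.2 ⟨Subgroup.mem_inf.2 ⟨(c.mem (by decide +kernel)), (Subgroup.mem_centralizer_singleton_iff.2 (by simp only [← wordG_append, ← wordG_invW]; exact c.eq (by decide +kernel)))⟩,
      (Subgroup.mem_centralizer_singleton_iff.2 (by simp only [← wordG_append, ← wordG_invW]; exact c.eq (by decide +kernel)))⟩) (by rw [← wordG_powW]; exact c.eq (w := []) (by decide +kernel)))
      (mem_Yo (Subgroup.mem_inf.2 ⟨Subgroup.mem_inf.2 ⟨(c.mem (by decide +kernel)), (Subgroup.mem_centralizer_singleton_iff.2 (by simp only [← wordG_append, ← wordG_invW]; exact c.eq (by decide +kernel)))⟩,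
      (Subgroup.mem_centralizer_singleton_iff.2 (by simp only [← wordG_append, ← wordG_invW]; exact c.eq (by decide +kernel)))⟩) (by rw [← wordG_powW]; exact c.eq (w := []) (by decide +kernel)))) (by simp only [← wordG_append, ← wordG_invW]; exact c.eq (w := []) (by decide +kernel))),
    by simp only [← wordG_append, ← wordG_invW]; exact ord5 (c.eq (by decide +kernel)) (c.ne_one (i := 8) (by decide +kernel))⟩

theorem res : FB (subW M.gs1 [[0], [2]]) (wordG M.gs1 [236]) (wordG M.gs1 [240]) := by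
  have s := fun l => subW_ext (len M.c1) ws (l := l)
  have t := fun w => wordG_ext (len M.c1) ws (w := w)
  have h := fx (ctx M.c1 (faithful_eF _) fun _ _ => trivial) (by rw [s [[0], [2]] (by decide +kernel)]; exact M.N_ub M.c1)
  rwa [s [[0], [2]] (by decide +kernel), t [236] (by decide +kernel), t [240] (by decide +kernel)] at h


end CL.O8S.MB
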