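/-
The Weyl group of type E8 on its roots: a centraliser.
Generated by tools/pg.
-/
import Cfsg.Agent.TE.O8M
import Cfsg.Agent.Spor.PGCtx

set_option autoImplicit false
set_option maxRecDepth 200000
set_option Elab.async false
set_option linter.unusedVariables false

namespace CL.O8S.MC
open CL.PG

noncomputable def a168 : Net := (.cons 128 (nat_lit 0x2441f5bfac0ee1550a7bd8da61978bec)
 (.cons 64 (nat_lit 0xde33200565441bee000000000000000059cd7a4fea394eff)
 (.cons 32 (nat_lit 0x94145bc10000000011ae3e7b0000000040f03db200000000d6be639c)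
 (.cons 16 (nat_lit 0x9b4d00003a530000e44a000027130000b3480000246a0000cd700000f8c0)
 (.cons 8 (nat_lit 0xe100c4006a00c400b600c200b800dd0011003c00630023008c0044006e00e6)
 (.cons 4 (nat_lit 0xe0c040a0c0205040c000b080c080305010108030a010e09010e070409020909)
 (.cons 2 (nat_lit 0x21203110021002013232212200013222202033020322301320323032003033)
 (.cons 1 (nat_lit 0x1111144505114501015111111441111151441501511511110514011511105114)
 (.cons 2 (nat_lit 0x2022202000200002020222202002220202002002020022020000020022200220)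
 (.cons 4 (nat_lit 0x80a040e02080a080800080a0006080808000a020a0600080e080e0c00000408)
 (.cons 8 (nat_lit 0x9200660062005200d200c000b400b40020002a00e6002a0084007a00ca0060)
 (.cons 16 (nat_lit 0x3b0a000089980000f42000000856000030d00000e224000055f40000d750)
 (.cons 32 (nat_lit 0xae27668000000000142bc5400000000081f957c6000000001610ce08)
 (.cons 64 (nat_lit 0xde73d5dc258ed8520000000000000000d8db3fefcb119ba4)
 (.cons 128 (nat_lit 0x244198f4a177499707a76dd8515a3c20)
 .nil)))))))))))))))
noncomputable def a169 : Net := (.cons 128 (nat_lit 0xbaef05a25425f5d7f11e98ec30d2a403)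
 (.cons 64 (nat_lit 0xe831857c1e32875700000000000000003e172fe107f711a4)
 (.cons 32 (nat_lit 0x41cc6b65000000002067242200000000d6f6cd7700000000fdf334ff)
 (.cons 16 (nat_lit 0xeace000042c3000099890000bef10000ce91000000870000d5d900006988)
 (.cons 8 (nat_lit 0x23007600fc00de00e300720031009f00e9000e008b003700e200ca0028001f)
 (.cons 4 (nat_lit 0x704080e0a0a070f0804030b020a0303030509040a0905000708040a02060d00)
 (.cons 2 (nat_lit 0x2120012100300231300230232031000103202101102321012310212102202003)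
 (.cons 1 (nat_lit 0x410040414400514114140145100540444101514141414140140141444141454)
 (.cons 2 (nat_lit 0x20202200000000220220000020222200000222220000220202220222002)
 (.cons 4 (nat_lit 0x40200040e060404000c060804000a0402080204060804060e08000c000e0c00)
 (.cons 8 (nat_lit 0x6a002000a000de00e2003200d00062007800400098003400f200d80000000e)
 (.cons 16 (nat_lit 0xd9540000ea50000019ae0000e1f40000114000001f9c000095da00002e90)
 (.cons 32 (nat_lit 0xf1e7db3c0000000096e078c200000000b0e08c4e000000003d7bbe52)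
 (.cons 64 (nat_lit 0x607eddc00f5709f000000000000000007e17aae6c211e560)
 (.cons 128 (nat_lit 0xbaef7945fb7a7c293de966d687bf4aec)
 .nil)))))))))))))))
noncomputable def a170 : Net := (.cons 128 (nat_lit 0xffff0000000000000000000000000000)
 (.cons 64 (nat_lit 0xf0f0f0f0f0f00f0f0000000000000000fff0000000000000)
 (.cons 32 (nat_lit 0xffff0000000000000000ffff00000000f000ff0f00000000f0000000)
 (.cons 16 (nat_lit 0xf0f00000f0f00000f0f00000f0f000000f00000000ff0000f00000000f00)
 (.cons 8 (nat_lit 0x33003300330033003300330033003300f000000000000f00f0000f00ff0000)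
 (.cons 4 (nat_lit 0x30c0c03030c0c03030c0c03030c0c030f0000000f000000000f000f0f000f00)
 (.cons 2 (nat_lit 0x3003300330033003300330033003300313302133120013000003333033030030)
 (.cons 1 (nat_lit 0x15001155415015550000000000000000)
 (.cons 2 (nat_lit 0x20002200220020000000000000000000)
 (.cons 4 (nat_lit 0xc0c0c0c0c0c0c0c0c0c0c0c0c0c0c0c00000000000000000000000000000000)
 (.cons 8 (nat_lit 0xf000f000f000f000f000f000f000f00000000000f0000000f000f000f000f0)
 (.cons 16 (nat_lit 0xcccc0000cccc0000cccc0000cccc0000f000000000000000f000000000f0)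
 (.cons 32 (nat_lit 0xff0fff000000000f0000000)
 (.cons 64 (nat_lit 0xffff000000000000000000000000fff0000000000000)
 (.cons 128 (nat_lit 0xffff0000000000000000000000000000)
 .nil)))))))))))))))
noncomputable def a171 : Net := (.cons 128 (nat_lit 0xcfcf0000000000000000000000000000)
 (.cons 64 (nat_lit 0xc3c3cccc3c3ccccc0000000000000000fff0000000000000)
 (.cons 32 (nat_lit 0xf0f0f0f000000000f0f0f0f000000000000000f000000000f0000000)
 (.cons 16 (nat_lit 0xff00000f0f00000000000000ff0)
 (.cons 8 (nat_lit 0xff00f0000000f000f000f000f0)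
 (.cons 4 (nat_lit 0xf0f000000000f0f0f0f000000000f0f0f00000000000f0f000f000f0f000f00)
 (.cons 2 (nat_lit 0x3030333303033333030300003030000022201212101211110000003330000300)
 (.cons 1 (nat_lit 0x44404414401114410000000000000000)
 (.cons 2 (nat_lit 0x22202222202222220000000000000000)
 (.cons 8 (nat_lit 0xf000f000f000f0)
 (.cons 16 (nat_lit 0xff00000f0f00000000000000000)
 (.cons 32 (nat_lit 0xf0f0f0f000000000f0f0f0f000000000000000f000000000f0000000)
 (.cons 64 (nat_lit 0xcccccccccccccccc0000000000000000fff0000000000000)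
 (.cons 128 (nat_lit 0xcfcf0000000000000000000000000000)
 .nil))))))))))))))
noncomputable def a172 : Net := (.cons 128 (nat_lit 0xffff0000000000000000000000000000)
 (.cons 64 (nat_lit 0xff0000ff00ffff000000000000000000ff00000000000000)
 (.cons 32 (nat_lit 0xffffffff00000000ffffffff00000000ff0000000000000000000000)
 (.cons 16 (nat_lit 0xffff000000000000ffff000000000000ff000000ffff000000f00000f000)
 (.cons 8 (nat_lit 0xff00ff00ff00ff0000000000000000000000ff00ff0000000000000000)
 (.cons 4 (nat_lit 0xf000f000f0f0f0f000f0f000f0f0000)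
 (.cons 2 (nat_lit 0x21001211030303030030300030300000)
 (.cons 1 (nat_lit 0x14004414000000000000000000000000)
 (.cons 2 (nat_lit 0x22002222000000000000000000000000)
 (.cons 16 (nat_lit 0xf00000f000)
 (.cons 32 (nat_lit 0xff0000000000000000000000)
 (.cons 64 (nat_lit 0xff00ff00ff00ff000000000000000000ff00000000000000)
 (.cons 128 (nat_lit 0xffff0000000000000000000000000000)
 .nil)))))))))))))
noncomputable def a173 : Net := (.cons 128 (nat_lit 0xffff0000000000000000000000000000)
 (.cons 64 (nat_lit 0xff00ffff0000ff0000000000000000ff00000000000000)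
 (.cons 32 (nat_lit 0xffffffff00000000ff0000000000000000000000)
 (.cons 16 (nat_lit 0xff000000ff00000000ff000000ff0000f0000000ffff00000f000000f000)
 (.cons 8 (nat_lit 0xff0000000000ff00ff0000000000ff0000000000ff00ff000f00f000ff0000)
 (.cons 4 (nat_lit 0xf00000f000000000000000000000000)
 (.cons 2 (nat_lit 0x33002222333333330303303033330000)
 (.cons 1 (nat_lit 0x55001111000000000000000000000000)
 (.cons 2 (nat_lit 0x2222000000000000000000000000)
 (.cons 16 (nat_lit 0xf0000000000000000f000000f000)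
 (.cons 32 (nat_lit 0xff00ff0000000000ff00ff0000000000ff0000000000000000000000)
 (.cons 64 (nat_lit 0xffff000000000000000000000000ff00000000000000)
 (.cons 128 (nat_lit 0xffff0000000000000000000000000000)
 .nil)))))))))))))
noncomputable def a174 : Net := (.cons 128 (nat_lit 0xffff0000000000000000000000000000)
 (.cons 64 (nat_lit 0xff00ff00ffff0000000000000000000000000000000000)
 (.cons 32 (nat_lit 0xffff0000000000000000ffff00000000f00000000000000000000000)
 (.cons 16 (nat_lit 0xff000000ff000000ff000000ff0000f000000000000000fff00000f000)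
 (.cons 8 (nat_lit 0xff000000ff000000ff000000ff000000000000000000ff000000ff0000)
 (.cons 4 (nat_lit 0xf0f000f0f0f0f0f0f000f0f0000)
 (.cons 2 (nat_lit 0x10000303013003300033030033000000)
 (.cons 1 (nat_lit 0x10005005040000000000000000000000)
 (.cons 2 (nat_lit 0x20000000020000000000000000000000)
 (.cons 16 (nat_lit 0xff000000ff000000ff000000ff000000f000000000000000fff00000f000)
 (.cons 32 (nat_lit 0xf00000000000000000000000)
 (.cons 64 (nat_lit 0xffff0000000000000000000000000000000000000000)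
 (.cons 128 (nat_lit 0xffff0000000000000000000000000000)
 .nil)))))))))))))
noncomputable def a175 : Net := (.cons 128 (nat_lit 0xffff0000000000000000000000000000)
 (.cons 64 (nat_lit 0xffff0000ffff00000000000000000000000000000000)
 (.cons 32 (nat_lit 0xffffffff00000000ffffffff00000000000000000000000000000000)
 (.cons 2 (nat_lit 0x3333303300330003300003300000)
 (.cons 1 (nat_lit 0x5000000000000000000000000000)
 (.cons 128 (nat_lit 0xffff0000000000000000000000000000)
 .nil))))))
noncomputable def a176 : Net := (.cons 128 (nat_lit 0x3ca43e3a871d99052ad60ceaf9d2f85a)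
 (.cons 64 (nat_lit 0x7c80c81c10397ba50000000000000000f45b3979900e47ba)
 (.cons 32 (nat_lit 0x99109a6600000000bfbe98d000000000c958b662000000007c83dc61)
 (.cons 16 (nat_lit 0x71200000d57a000038710000ab5e0000051200009d3c0000d7b40000cb5e)
 (.cons 8 (nat_lit 0x8400cd00970018002000140073004500a4003f002700b7009a00b4007000d8)
 (.cons 4 (nat_lit 0x4040a030d040204020d030b05080c070d09040d0809030505060e090008000a)
 (.cons 2 (nat_lit 0x30222011220032202200113210013021012031132001030203321122010302)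
 (.cons 1 (nat_lit 0x4410151154150411145011415111041111141144514510151411511411445145)
 (.cons 2 (nat_lit 0x20202000200222200000020020022020202202020000202220002002000000)
 (.cons 4 (nat_lit 0x4040a02040000080a000e0c0806040c00000000000204040a040600000404)
 (.cons 8 (nat_lit 0x1000f0001c0014003e00c0000800c000ac00a400b6003400d800b600f00058)
 (.cons 16 (nat_lit 0x48a00000a11000003186000091b600002e1800007db800007d6000004296)
 (.cons 32 (nat_lit 0xf590ddf200000000aab9840200000000c950650e000000007597ba68)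
 (.cons 64 (nat_lit 0x4420ada8e4ae577c0000000000000000b4593e54820206a2)
 (.cons 128 (nat_lit 0x3ca419210c91ae853b44cbc6c4bea04c)
 .nil)))))))))))))))
noncomputable def a177 : Net := (.cons 128 (nat_lit 0x68810d71a3dc8060348cc127ea46dde4)
 (.cons 64 (nat_lit 0xe34c7ffd0c1f61a10000000000000000173054fc3379761c)
 (.cons 32 (nat_lit 0xe2b32fe60000000045bc3965000000009849346d00000000691f98f7)
 (.cons 16 (nat_lit 0x158000006c5a00002ac900004cb70000f6460000520c000021330000e034)
 (.cons 8 (nat_lit 0xe40018001c00b400a700f900ec00db005f00a000b0008a005f00f300dd00d9)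
 (.cons 4 (nat_lit 0xd000603050c080f060c0a0e0f0d0605050e070b040a0c0d0505000b050601)
 (.cons 2 (nat_lit 0x3303322221132221312302120223330313111202123021313323132022201320)
 (.cons 1 (nat_lit 0x5145114545454510454151111045141151115111114411414145454151514115)
 (.cons 2 (nat_lit 0x200022000000020002002220000202002000022020222000220200002022020)
 (.cons 4 (nat_lit 0xc0408080e04020002040c080a08080e0c0004020e0a08060200020204040402)
 (.cons 8 (nat_lit 0x520098004a009c00c00068009800380042002e00b00074000200440014000a)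
 (.cons 16 (nat_lit 0xb63e0000991600005b4c000022340000744400008738000029060000d7b4)
 (.cons 32 (nat_lit 0x203fd29200000000452ea484000000009901af6e000000006dd2661a)
 (.cons 64 (nat_lit 0xeb4ce9e6d944c76800000000000000000542bb6fdb295634)
 (.cons 128 (nat_lit 0x68816a9926b38475f3a355b1f02e7538)
 .nil)))))))))))))))
noncomputable def a178 : Net := (.cons 128 (nat_lit 0xf3ff0000000000000000000000000000)
 (.cons 64 (nat_lit 0x3c3cccccccccc3c30000000000000000fff0000000000000)
 (.cons 32 (nat_lit 0xf0f00f0f00000000f0f00f0f00000000ff0ff0f000000000f0000000)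
 (.cons 16 (nat_lit 0xf0f000000f0f0000f0f000000f0f0000f00f0000f0000000000f00000f00)
 (.cons 8 (nat_lit 0xc300c300cc00cc003c003c0033003300ff0000000000ff00f0000f000f00f0)
 (.cons 4 (nat_lit 0xf0f0f0f000000000f0f0f0f0000000f000f0f000000000f0f00000f0f00)
 (.cons 2 (nat_lit 0x3003033033003300033030030033003313020322111001120003300000003300)
 (.cons 1 (nat_lit 0x10040041144001140000000000000000)
 (.cons 2 (nat_lit 0x20020022222002220000000000000000)
 (.cons 8 (nat_lit 0xcc00cc00cc00cc00cc00cc00cc00cc0000000000f0000000f000f000000000)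
 (.cons 16 (nat_lit 0xf0f00000f0f00000f0f00000f0f00000f000000000f00000f00000000f00)
 (.cons 32 (nat_lit 0xf0f0000000000f0000000)
 (.cons 64 (nat_lit 0xff00ff00ff00ff000000000000000000fff0000000000000)
 (.cons 128 (nat_lit 0xf3ff0000000000000000000000000000)
 .nil))))))))))))))
noncomputable def a179 : Net := (.cons 128 (nat_lit 0xffff0000000000000000000000000000)
 (.cons 64 (nat_lit 0x333300000000cccc00000000000000000ff0000000000000)
 (.cons 32 (nat_lit 0x3333cccc000000003333cccc0000000000f0f0f000000000f0000000)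
 (.cons 16 (nat_lit 0x333300003333000033330000333300000ff0000000000000f000000000f0)
 (.cons 8 (nat_lit 0xf000f000f000f000f000f000f000f00f0000000ff00000000000000000000)
 (.cons 4 (nat_lit 0xf000f000f000f000f000f000f000f000f000f0f0f0f000f00000f0f000f0f00)
 (.cons 2 (nat_lit 0x3333000033330000333300003333000000002200011001000000030310030300)
 (.cons 1 (nat_lit 0x5001450011504500000000010000000)
 (.cons 2 (nat_lit 0x2200022002000000000020000000)
 (.cons 8 (nat_lit 0xf000f000f000f000f000f000f000f000f00000000000000000000000000000)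
 (.cons 16 (nat_lit 0xcccc0000cccc0000cccc0000cccc00000ff0000000000000f000000000f0)
 (.cons 32 (nat_lit 0xf0f0f000000000f0000000)
 (.cons 64 (nat_lit 0xff0000000000000)
 (.cons 128 (nat_lit 0xffff0000000000000000000000000000)
 .nil))))))))))))))
noncomputable def a180 : Net := (.cons 128 (nat_lit 0xffff0000000000000000000000000000)
 (.cons 64 (nat_lit 0xff00ff0000ffff000000000000000000ff00000000000000)
 (.cons 32 (nat_lit 0xffffffff000000000000000000000000ff0000000000000000000000)
 (.cons 16 (nat_lit 0xff000000ff00000000ff000000ff0000f0000000ffff00000f000000f000)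
 (.cons 8 (nat_lit 0xff0000000000ff00ff0000000000ff0000000000ff00ff000f00f000ff0000)
 (.cons 4 (nat_lit 0xf00000f000000000000000000000000)
 (.cons 2 (nat_lit 0x30001111003300330003300003300000)
 (.cons 1 (nat_lit 0x50001111000000000000000000000000)
 (.cons 2 (nat_lit 0x2222000000000000000000000000)
 (.cons 16 (nat_lit 0xf0000000000000000f000000f000)
 (.cons 32 (nat_lit 0xff00ff0000000000ff00ff0000000000ff0000000000000000000000)
 (.cons 64 (nat_lit 0xffff000000000000000000000000ff00000000000000)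
 (.cons 128 (nat_lit 0xffff0000000000000000000000000000)
 .nil)))))))))))))
noncomputable def a181 : Net := (.cons 128 (nat_lit 0xffff0000000000000000000000000000)
 (.cons 64 (nat_lit 0xff00ff00ffff0000000000000000000000000000000000)
 (.cons 32 (nat_lit 0xffff0000000000000000ffff00000000f00000000000000000000000)
 (.cons 16 (nat_lit 0xff000000ff000000ff000000ff0000f000000000000000fff00000f000)
 (.cons 8 (nat_lit 0xff000000ff000000ff000000ff000000000000000000ff000000ff0000)
 (.cons 4 (nat_lit 0xf0f000f0f0f0f0f0f000f0f0000)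
 (.cons 2 (nat_lit 0x10000303013003300033030033000000)
 (.cons 1 (nat_lit 0x10005005040000000000000000000000)
 (.cons 2 (nat_lit 0x20000000020000000000000000000000)
 (.cons 16 (nat_lit 0xff000000ff000000ff000000ff000000f000000000000000fff00000f000)
 (.cons 32 (nat_lit 0xf00000000000000000000000)
 (.cons 64 (nat_lit 0xffff0000000000000000000000000000000000000000)
 (.cons 128 (nat_lit 0xffff0000000000000000000000000000)
 .nil)))))))))))))
noncomputable def a182 : Net := (.cons 128 (nat_lit 0x6549b3da1ab49c98a57568a3507a4acf)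
 (.cons 64 (nat_lit 0xa875c1e5bd10cfc200000000000000004999546137dc5885)
 (.cons 32 (nat_lit 0x2ba5e29f00000000d187c30700000000eda2970300000000558b2245)
 (.cons 16 (nat_lit 0x9edc0000b92a000008ff00003edc00003eea0000ecf2000061c900008bf0)
 (.cons 8 (nat_lit 0x250008001900c60097000000e8006800dc002300cb0029009300800006000a)
 (.cons 4 (nat_lit 0xc0008050c01060f05040a000d0c01000408060a020f03080502080f08060600)
 (.cons 2 (nat_lit 0x3021220020110221213000022101303203202001132212002122031001300221)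
 (.cons 1 (nat_lit 0x4000444110040000404004044040544004144004044000044004004004000444)
 (.cons 2 (nat_lit 0x222000020000002002022020022002022002022000022002002002000220)
 (.cons 4 (nat_lit 0x400020804000c08000c00060a0002060400000404000c060c0c080a00040a)
 (.cons 8 (nat_lit 0x1000000054000c0038000000d8002200de0028007c002a0024000000100000)
 (.cons 16 (nat_lit 0x7248000099180000ad7c000038d60000f0e80000edaa0000472c00009126)
 (.cons 32 (nat_lit 0x86950b7a00000000c24ed350000000007c178e9c000000005d6fa8d0)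
 (.cons 64 (nat_lit 0xad3ca2a770043a240000000000000000590f83e24bb179f8)
 (.cons 128 (nat_lit 0x6549ac7cb8f14cd40d38af6f5b5733bc)
 .nil)))))))))))))))
noncomputable def a183 : Net := (.cons 128 (nat_lit 0xffff0000000000000000000000000000)
 (.cons 64 (nat_lit 0xffff0000ffff00000000000000000000000000000000)
 (.cons 32 (nat_lit 0xffffffff00000000ffffffff00000000000000000000000000000000)
 (.cons 2 (nat_lit 0x3333303300330003300003300000)
 (.cons 1 (nat_lit 0x5000000000000000000000000000)
 (.cons 128 (nat_lit 0xffff0000000000000000000000000000)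
 .nil))))))
noncomputable def a184 : Net := (.cons 128 (nat_lit 0xffff0000000000000000000000000000)
 (.cons 64 (nat_lit 0xccccccccffff00000000000000000ff0000000000000)
 (.cons 32 (nat_lit 0x3333cccc000000003333cccc0000000000f0f0f000000000f0000000)
 (.cons 16 (nat_lit 0xcccc0000cccc0000cccc0000cccc00000ff0000000000000f000000000f0)
 (.cons 8 (nat_lit 0xf000f000f000f000f000f000f000f000f0000000ff00000000000000000000)
 (.cons 4 (nat_lit 0xf000f000f000f000f000f000f000f0f000f0f0f0f000f00000f0f000f0f00)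
 (.cons 2 (nat_lit 0x333300003333000033330000333333001133311332333003003323003330)
 (.cons 1 (nat_lit 0x4155541551000000000040000000)
 (.cons 2 (nat_lit 0x2200022002000000000020000000)
 (.cons 8 (nat_lit 0xf000f000f000f000f000f000f000f000f00000000000000000000000000000)
 (.cons 16 (nat_lit 0xcccc0000cccc0000cccc0000cccc00000ff0000000000000f000000000f0)
 (.cons 32 (nat_lit 0xf0f0f000000000f0000000)
 (.cons 64 (nat_lit 0xff0000000000000)
 (.cons 128 (nat_lit 0xffff0000000000000000000000000000)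
 .nil))))))))))))))
noncomputable def a185 : Net := (.cons 128 (nat_lit 0xcfcf0000000000000000000000000000)
 (.cons 64 (nat_lit 0xc3c3cccc3c3ccccc0000000000000000fff0000000000000)
 (.cons 32 (nat_lit 0xf0f0f0f000000000f0f0f0f000000000000000f000000000f0000000)
 (.cons 16 (nat_lit 0xff00000f0f00000000000000ff0)
 (.cons 8 (nat_lit 0xff00f0000000f000f000f000f0)
 (.cons 4 (nat_lit 0xf0f000000000f0f0f0f000000000f0f0f00000000000f0f000f000f0f000f00)
 (.cons 2 (nat_lit 0x3030333303033333030300003030000022201212101211110000003330000300)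
 (.cons 1 (nat_lit 0x44404414401114410000000000000000)
 (.cons 2 (nat_lit 0x22202222202222220000000000000000)
 (.cons 8 (nat_lit 0xf000f000f000f0)
 (.cons 16 (nat_lit 0xff00000f0f00000000000000000)
 (.cons 32 (nat_lit 0xf0f0f0f000000000f0f0f0f000000000000000f000000000f0000000)
 (.cons 64 (nat_lit 0xcccccccccccccccc0000000000000000fff0000000000000)
 (.cons 128 (nat_lit 0xcfcf0000000000000000000000000000)
 .nil))))))))))))))
noncomputable def a186 : Net := (.cons 128 (nat_lit 0xffcf0000000000000000000000000000)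
 (.cons 64 (nat_lit 0xc3c33c3c3c3c3c3c0000000000000000fff0000000000000)
 (.cons 32 (nat_lit 0xcccc3333000000003333cccc000000000f0000ff00000000f0000000)
 (.cons 16 (nat_lit 0xc3c30000c3c300003c3c00003c3c0000f00000000f000000000f000000f0)
 (.cons 8 (nat_lit 0x33003300cc00cc00cc00cc00330033000000f0000f00ff00f0000f00ff0000)
 (.cons 4 (nat_lit 0xf0f000f00000f000f0f000f00000f0f000f000f000f0f000f000f0f000f00)
 (.cons 2 (nat_lit 0x330033030033003300330030330033010100222101200110030000300003300)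
 (.cons 1 (nat_lit 0x10400444151150410000000000000000)
 (.cons 2 (nat_lit 0x20200222202200220000000000000000)
 (.cons 4 (nat_lit 0xc0c0c0c0c0c0c0c0c0c0c0c0c0c0c0c00000000000000000000000000000000)
 (.cons 8 (nat_lit 0xf000f000f000f000f000f000f000f000f000000000000000f000f000f000f0)
 (.cons 16 (nat_lit 0xcccc0000cccc0000cccc0000cccc0000f00000000ff00000f000000000f0)
 (.cons 32 (nat_lit 0xff00ff0000000000ff00ff00000000000f0000f000000000f0000000)
 (.cons 64 (nat_lit 0xffff000000000000000000000000fff0000000000000)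
 (.cons 128 (nat_lit 0xffcf0000000000000000000000000000)
 .nil)))))))))))))))
noncomputable def a187 : Net := (.cons 128 (nat_lit 0x3fff0000000000000000000000000000)
 (.cons 64 (nat_lit 0xcc33ff0033ccff000000000000000000fff0000000000000)
 (.cons 32 (nat_lit 0xcccccccc00000000cccccccc0000000000000fff00000000f0000000)
 (.cons 16 (nat_lit 0xffff000000000000ffff0000f0f00000ff0f0000f0ff0000fff0)
 (.cons 8 (nat_lit 0x3c00f000f0003c00c3000f000f00c300f000ff00ff000f0000000000000000)
 (.cons 4 (nat_lit 0xf000f000f000f000f000f000f000f0000000f000f00000f000f0f000f0f0000)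
 (.cons 2 (nat_lit 0x3333000033330000333300003333000023302103210121113003030303030330)
 (.cons 1 (nat_lit 0x15501150140414140000000000000000)
 (.cons 2 (nat_lit 0x20002200220222220000000000000000)
 (.cons 8 (nat_lit 0xf000f000f000f000f000f000f000f00000000000f000f00000000000000000)
 (.cons 16 (nat_lit 0xcccc0000cccc0000cccc0000cccc0000ff0000000f00000000f00000f000)
 (.cons 32 (nat_lit 0xcccccccc00000000cccccccc000000000f00f00000000000f0000000)
 (.cons 64 (nat_lit 0xf0f0f0f0f0f0f0f00000000000000000fff0000000000000)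
 (.cons 128 (nat_lit 0x3fff0000000000000000000000000000)
 .nil))))))))))))))
noncomputable def a188 : Net := (.cons 128 (nat_lit 0xff0000000000000000000000000000)
 (.cons 64 (nat_lit 0xff00ff00ff00ff000000000000000000ff00000000000000)
 (.cons 32 (nat_lit 0xff0000000000000000000000)
 (.cons 16 (nat_lit 0xffff000000000000ffff0000ff000000ffff000000f00000f000)
 (.cons 8 (nat_lit 0xff000000000000000000ff00ff00ff0000000000ff00ff0000000000000000)
 (.cons 4 (nat_lit 0xf000f000f0f0f0f000f0f000f0f0000)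
 (.cons 2 (nat_lit 0x11001122033003300033000033000000)
 (.cons 1 (nat_lit 0x44001141000000000000000000000000)
 (.cons 2 (nat_lit 0x22002222000000000000000000000000)
 (.cons 16 (nat_lit 0xf00000f000)
 (.cons 32 (nat_lit 0xff0000000000000000000000)
 (.cons 64 (nat_lit 0xff00ff00ff00ff000000000000000000ff00000000000000)
 (.cons 128 (nat_lit 0xff0000000000000000000000000000)
 .nil)))))))))))))
noncomputable def a189 : Net := (.cons 128 (nat_lit 0xffff0000000000000000000000000000)
 (.cons 64 (nat_lit 0xff00ffff0000ff0000000000000000ff00000000000000)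
 (.cons 32 (nat_lit 0xffffffff00000000ff0000000000000000000000)
 (.cons 16 (nat_lit 0xff000000ff00000000ff000000ff0000f0000000ffff00000f000000f000)
 (.cons 8 (nat_lit 0xff0000000000ff00ff0000000000ff0000000000ff00ff000f00f000ff0000)
 (.cons 4 (nat_lit 0xf00000f000000000000000000000000)
 (.cons 2 (nat_lit 0x33002222333333330303303033330000)
 (.cons 1 (nat_lit 0x55001111000000000000000000000000)
 (.cons 2 (nat_lit 0x2222000000000000000000000000)
 (.cons 16 (nat_lit 0xf0000000000000000f000000f000)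
 (.cons 32 (nat_lit 0xff00ff0000000000ff00ff0000000000ff0000000000000000000000)
 (.cons 64 (nat_lit 0xffff000000000000000000000000ff00000000000000)
 (.cons 128 (nat_lit 0xffff0000000000000000000000000000)
 .nil)))))))))))))
noncomputable def a190 : Net := (.cons 128 (nat_lit 0xcccc0000000000000000000000000000)
 (.cons 64 (nat_lit 0xcccc00000000333300000000000000000ff0000000000000)
 (.cons 32 (nat_lit 0xcccc333300000000cccc33330000000000f0f0f000000000f0000000)
 (.cons 16 (nat_lit 0xcccc0000cccc0000cccc0000cccc00000ef2000000000000f000000000f0)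
 (.cons 8 (nat_lit 0xc000f000f000f000f000f000f000f000f1000100ff00000000000000000000)
 (.cons 4 (nat_lit 0xc000f000f000f000f000f000f000f0f030f0f0f0f000f00000f0f000f0f00)
 (.cons 2 (nat_lit 0x333300003333000033330000333300001100011002000000003320003300)
 (.cons 1 (nat_lit 0x104145541501000000000040000000)
 (.cons 2 (nat_lit 0x2200022002000000000020000000)
 (.cons 8 (nat_lit 0xc000f000f000f000f000f000f000f000e00020000000000000000000000000)
 (.cons 16 (nat_lit 0xcccc0000cccc0000cccc0000cccc00002fe0000000000000f000000000f0)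
 (.cons 32 (nat_lit 0xf0f0f000000000f0000000)
 (.cons 64 (nat_lit 0xff0000000000000)
 (.cons 128 (nat_lit 0xcccc0000000000000000000000000000)
 .nil))))))))))))))
noncomputable def a191 : Net := (.cons 128 (nat_lit 0xffff0000000000000000000000000000)
 (.cons 64 (nat_lit 0xff00ffff0000ff0000000000000000ff00000000000000)
 (.cons 32 (nat_lit 0xffffffff000000000000000000000000ff0000000000000000000000)
 (.cons 16 (nat_lit 0xff000000ff00000000ff000000ff0000f0000000ffff00000f000000f000)
 (.cons 8 (nat_lit 0xff00ff0000000000ff00ff00000000000000ff00ff000f00f000ff0000)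
 (.cons 4 (nat_lit 0xf00000f000000000000000000000000)
 (.cons 2 (nat_lit 0x3001111330033000300003030030000)
 (.cons 1 (nat_lit 0x5004444000000000000000000000000)
 (.cons 2 (nat_lit 0x2222000000000000000000000000)
 (.cons 16 (nat_lit 0xf0000000000000000f000000f000)
 (.cons 32 (nat_lit 0xff00ff0000000000ff00ff0000000000ff0000000000000000000000)
 (.cons 64 (nat_lit 0xffff000000000000000000000000ff00000000000000)
 (.cons 128 (nat_lit 0xffff0000000000000000000000000000)
 .nil)))))))))))))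
noncomputable def a192 : Net := (.cons 128 (nat_lit 0xffff0000000000000000000000000000)
 (.cons 64 (nat_lit 0xff00ffff0000ff0000000000000000ff00000000000000)
 (.cons 32 (nat_lit 0xffffffff00000000ff0000000000000000000000)
 (.cons 16 (nat_lit 0xff000000ff00000000ff000000ff0000f0000000ffff00000f000000f000)
 (.cons 8 (nat_lit 0xff0000000000ff00ff0000000000ff0000000000ff00ff000f00f000ff0000)
 (.cons 4 (nat_lit 0xf00000f000000000000000000000000)
 (.cons 2 (nat_lit 0x33002222333333330303303033330000)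
 (.cons 1 (nat_lit 0x55001111000000000000000000000000)
 (.cons 2 (nat_lit 0x2222000000000000000000000000)
 (.cons 16 (nat_lit 0xf0000000000000000f000000f000)
 (.cons 32 (nat_lit 0xff00ff0000000000ff00ff0000000000ff0000000000000000000000)
 (.cons 64 (nat_lit 0xffff000000000000000000000000ff00000000000000)
 (.cons 128 (nat_lit 0xffff0000000000000000000000000000)
 .nil)))))))))))))
noncomputable def a193 : Net := (.cons 128 (nat_lit 0xff0000000000000000000000000000)
 (.cons 64 (nat_lit 0xff00ff00ff00ff000000000000000000ff00000000000000)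
 (.cons 32 (nat_lit 0xff0000000000000000000000)
 (.cons 16 (nat_lit 0xffff000000000000ffff0000ff000000ffff000000f00000f000)
 (.cons 8 (nat_lit 0xff000000000000000000ff00ff00ff0000000000ff00ff0000000000000000)
 (.cons 4 (nat_lit 0xf000f000f0f0f0f000f0f000f0f0000)
 (.cons 2 (nat_lit 0x11001122033003300033000033000000)
 (.cons 1 (nat_lit 0x44001141000000000000000000000000)
 (.cons 2 (nat_lit 0x22002222000000000000000000000000)
 (.cons 16 (nat_lit 0xf00000f000)
 (.cons 32 (nat_lit 0xff0000000000000000000000)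
 (.cons 64 (nat_lit 0xff00ff00ff00ff000000000000000000ff00000000000000)
 (.cons 128 (nat_lit 0xff0000000000000000000000000000)
 .nil)))))))))))))
noncomputable def a194 : Net := (.cons 128 (nat_lit 0xffff0000000000000000000000000000)
 (.cons 64 (nat_lit 0xffff0000ffff00000000000000000000000000000000)
 (.cons 32 (nat_lit 0xffffffff00000000ffffffff00000000000000000000000000000000)
 (.cons 2 (nat_lit 0x3333303300330003300003300000)
 (.cons 1 (nat_lit 0x5000000000000000000000000000)
 (.cons 128 (nat_lit 0xffff0000000000000000000000000000)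
 .nil))))))
noncomputable def a195 : Net := (.cons 128 (nat_lit 0xcccc0000000000000000000000000000)
 (.cons 64 (nat_lit 0xcccc00000000333300000000000000000ff0000000000000)
 (.cons 32 (nat_lit 0xcccc333300000000cccc33330000000000f0f0f000000000f0000000)
 (.cons 16 (nat_lit 0xcccc0000cccc0000cccc0000cccc00000ef2000000000000f000000000f0)
 (.cons 8 (nat_lit 0xc000f000f000f000f000f000f000f000f1000100ff00000000000000000000)
 (.cons 4 (nat_lit 0xc000f000f000f000f000f000f000f0f030f0f0f0f000f00000f0f000f0f00)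
 (.cons 2 (nat_lit 0x333300003333000033330000333300001100011002000000003320003300)
 (.cons 1 (nat_lit 0x104145541501000000000040000000)
 (.cons 2 (nat_lit 0x2200022002000000000020000000)
 (.cons 8 (nat_lit 0xc000f000f000f000f000f000f000f000e00020000000000000000000000000)
 (.cons 16 (nat_lit 0xcccc0000cccc0000cccc0000cccc00002fe0000000000000f000000000f0)
 (.cons 32 (nat_lit 0xf0f0f000000000f0000000)
 (.cons 64 (nat_lit 0xff0000000000000)
 (.cons 128 (nat_lit 0xcccc0000000000000000000000000000)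
 .nil))))))))))))))
noncomputable def a196 : Net := (.cons 128 (nat_lit 0xffff0000000000000000000000000000)
 (.cons 64 (nat_lit 0xf0f00000000f0f00000000000000000f0f0000000000000)
 (.cons 32 (nat_lit 0xf0ff0f0000000000f0ff0f0000000000f000ff000000000f0000000)
 (.cons 16 (nat_lit 0xf0f00000f0f00000f0f00000f0f0000f0000000f0f00000f00000000f00)
 (.cons 8 (nat_lit 0x33003300330033003300330033003300f00000000000ff000000ff000f00f0)
 (.cons 4 (nat_lit 0xf0f00000f0f00000f0f00000f0f00000f000f0f000f0f0f0000000000000000)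
 (.cons 2 (nat_lit 0x33003300330033003300330033003303001100100000000100033000033000)
 (.cons 1 (nat_lit 0x5001105105055000100000000000000)
 (.cons 2 (nat_lit 0x2200200000000200000000000000)
 (.cons 8 (nat_lit 0xcc00cc00cc00cc00cc00cc00cc00cc00f00000000000000000000000000000)
 (.cons 16 (nat_lit 0xf0f00000f0f00000f0f00000f0f00000f0000000f0f00000f00000000f00)
 (.cons 32 (nat_lit 0xf000ff000000000f0000000)
 (.cons 64 (nat_lit 0xf0f0000000000000)
 (.cons 128 (nat_lit 0xffff0000000000000000000000000000)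
 .nil))))))))))))))
noncomputable def a197 : Net := (.cons 128 (nat_lit 0xffff0000000000000000000000000000)
 (.cons 64 (nat_lit 0x333300000000cccc00000000000000000ff0000000000000)
 (.cons 32 (nat_lit 0x3333cccc000000003333cccc0000000000f0f0f000000000f0000000)
 (.cons 16 (nat_lit 0x333300003333000033330000333300000ff0000000000000f000000000f0)
 (.cons 8 (nat_lit 0xf000f000f000f000f000f000f000f00f0000000ff00000000000000000000)
 (.cons 4 (nat_lit 0xf000f000f000f000f000f000f000f000f000f0f0f0f000f00000f0f000f0f00)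
 (.cons 2 (nat_lit 0x3333000033330000333300003333000000002200011001000000030310030300)
 (.cons 1 (nat_lit 0x5001450011504500000000010000000)
 (.cons 2 (nat_lit 0x2200022002000000000020000000)
 (.cons 8 (nat_lit 0xf000f000f000f000f000f000f000f000f00000000000000000000000000000)
 (.cons 16 (nat_lit 0xcccc0000cccc0000cccc0000cccc00000ff0000000000000f000000000f0)
 (.cons 32 (nat_lit 0xf0f0f000000000f0000000)
 (.cons 64 (nat_lit 0xff0000000000000)
 (.cons 128 (nat_lit 0xffff0000000000000000000000000000)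
 .nil))))))))))))))
noncomputable def a198 : Net := (.cons 128 (nat_lit 0xffff0000000000000000000000000000)
 (.cons 64 (nat_lit 0xff000000000000ff0000000000000000ff00000000000000)
 (.cons 32 (nat_lit 0xff0000ff00000000ff0000ff00000000ff00000000000000f0000000)
 (.cons 16 (nat_lit 0xff000000ff000000ff000000ff0000f0000000ffff0000f0000000f000)
 (.cons 8 (nat_lit 0xff000000ff000000ff000000ff000000ff00000000000000ff00f000f0)
 (.cons 4 (nat_lit 0x3030303030303030303030303030303000000000f000f0000000f0f000f0f00)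
 (.cons 2 (nat_lit 0x3030303030303030303030303030303001000000030003000010303000303000)
 (.cons 1 (nat_lit 0x4005005550000550040000000000000)
 (.cons 2 (nat_lit 0x2000000000000000020000000000000)
 (.cons 4 (nat_lit 0xc0c0c0c0c0c0c0c0c0c0c0c0c0c0c0c00000000000000000000000000000000)
 (.cons 8 (nat_lit 0xf000f0)
 (.cons 16 (nat_lit 0xff000000ff000000ff000000ff000000f000000000000000f0000000f000)
 (.cons 32 (nat_lit 0xff00000000000000f0000000)
 (.cons 64 (nat_lit 0xff00000000000000)
 (.cons 128 (nat_lit 0xffff0000000000000000000000000000)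
 .nil)))))))))))))))
noncomputable def a199 : Net := (.cons 128 (nat_lit 0xffff0000000000000000000000000000)
 (.cons 64 (nat_lit 0xffff00000000ffff00000000000000000000000000000000)
 (.cons 32 (nat_lit 0xffffffff00000000ffffffff00000000000000000000000000000000)
 (.cons 16 (nat_lit 0xffff0000ffff0000ffff0000ffff00000000000000000000000000000000)
 (.cons 8 (nat_lit 0xff00ff00ff00ff00ff00ff00ff00ff00000000000000000000000000000000)
 (.cons 2 (nat_lit 0x30033003300033000033000)
 (.cons 1 (nat_lit 0x555550000000000000000000000)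
 (.cons 128 (nat_lit 0xffff0000000000000000000000000000)
 .nil))))))))
noncomputable def a200 : Net := (.cons 128 (nat_lit 0xffff0000000000000000000000000000)
 (.cons 64 (nat_lit 0xffff0000ffff00000000000000000000000000000000)
 (.cons 32 (nat_lit 0xffffffff00000000ffffffff00000000000000000000000000000000)
 (.cons 2 (nat_lit 0x3333303300330003300003300000)
 (.cons 1 (nat_lit 0x5000000000000000000000000000)
 (.cons 128 (nat_lit 0xffff0000000000000000000000000000)
 .nil))))))
noncomputable def a201 : Net := (.cons 128 (nat_lit 0xf3f30000000000000000000000000000)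
 (.cons 64 (nat_lit 0x3c3cccccc3c3cccc0000000000000000fff0000000000000)
 (.cons 32 (nat_lit 0xf0f0f0f000000000f0f0f0f000000000000000f000000000f0000000)
 (.cons 16 (nat_lit 0xff00000f0f00000000000000ff0)
 (.cons 8 (nat_lit 0xff00f0000000f000f000f000f0)
 (.cons 4 (nat_lit 0xf0f0f0f000000000f0f0f0f00000f00000000000f0f000f000f0f000f00)
 (.cons 2 (nat_lit 0x303000030300000303033330303333311201111202222110033000003003000)
 (.cons 1 (nat_lit 0x41101441404444140000000000000000)
 (.cons 2 (nat_lit 0x22202222202222220000000000000000)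
 (.cons 8 (nat_lit 0xf000f000f000f0)
 (.cons 16 (nat_lit 0xff00000f0f00000000000000000)
 (.cons 32 (nat_lit 0xf0f0f0f000000000f0f0f0f000000000000000f000000000f0000000)
 (.cons 64 (nat_lit 0xcccccccccccccccc0000000000000000fff0000000000000)
 (.cons 128 (nat_lit 0xf3f30000000000000000000000000000)
 .nil))))))))))))))
noncomputable def a202 : Net := (.cons 128 (nat_lit 0xffff0000000000000000000000000000)
 (.cons 64 (nat_lit 0xffff0000ffffffff0000000000000000ff00000000000000)
 (.cons 32 (nat_lit 0xffff00000000ffff000000000000ff00000000000000f0000000)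
 (.cons 16 (nat_lit 0xf0000000ffff0000f00f00000000)
 (.cons 8 (nat_lit 0xff0000000000f000f000f000f0)
 (.cons 4 (nat_lit 0x303030303030303030303030303030300000f0f000f000f000f000f0f000f00)
 (.cons 2 (nat_lit 0x3030303030303030303030303030303010003030000300031030003030003000)
 (.cons 1 (nat_lit 0x40000000550000554000000000000000)
 (.cons 2 (nat_lit 0x20000000000000002000000000000000)
 (.cons 4 (nat_lit 0xc0c0c0c0c0c0c0c0c0c0c0c0c0c0c0c00000000000000000000000000000000)
 (.cons 8 (nat_lit 0xf000f000f000f0)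
 (.cons 16 (nat_lit 0xf000000000000000000000000000)
 (.cons 32 (nat_lit 0xff00000000000000f0000000)
 (.cons 64 (nat_lit 0xffff000000000000000000000000ff00000000000000)
 (.cons 128 (nat_lit 0xffff0000000000000000000000000000)
 .nil)))))))))))))))
noncomputable def a203 : Net := (.cons 128 (nat_lit 0xffff0000000000000000000000000000)
 (.cons 64 (nat_lit 0xc3c30f0f3c3c0f0f0000000000000000fff0000000000000)
 (.cons 32 (nat_lit 0x333333330000000033333333000000000f000f0000000000f0000000)
 (.cons 16 (nat_lit 0xf0f0000000f00000f00f00000ff0)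
 (.cons 8 (nat_lit 0xf000ff000000000000000000000000)
 (.cons 4 (nat_lit 0xc0c0f0f0c0c0f0f0303000003030000000000000f0f0f000000000000000000)
 (.cons 2 (nat_lit 0x333333330000000033333333000010300122211112113000000300000330)
 (.cons 1 (nat_lit 0x40500444444444440000000000000000)
 (.cons 2 (nat_lit 0x20000222222222220000000000000000)
 (.cons 16 (nat_lit 0xf00000000000000000)
 (.cons 32 (nat_lit 0xcccccccc00000000cccccccc000000000f000f0000000000f0000000)
 (.cons 64 (nat_lit 0xf0f0f0f0f0f0f0f00000000000000000fff0000000000000)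
 (.cons 128 (nat_lit 0xffff0000000000000000000000000000)
 .nil)))))))))))))
noncomputable def a204 : Net := (.cons 128 (nat_lit 0xfcfc0000000000000000000000000000)
 (.cons 64 (nat_lit 0x3c3cf0f0c3c3f0f00000000000000000fff0000000000000)
 (.cons 32 (nat_lit 0xcccccccc00000000cccccccc000000000f000f0000000000f0000000)
 (.cons 16 (nat_lit 0xf0f0000000f00000f00f00000ff0)
 (.cons 8 (nat_lit 0xf000ff000000000000000000000000)
 (.cons 4 (nat_lit 0xc0c0f0f0c0c0f0f0303000003030000000000000f0f0f000000000000000000)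
 (.cons 2 (nat_lit 0x333333330000000033333333000020000222222222220000000000000000)
 (.cons 1 (nat_lit 0x40000444444444440000000000000000)
 (.cons 2 (nat_lit 0x20000222222222220000000000000000)
 (.cons 16 (nat_lit 0xf00000000000000000)
 (.cons 32 (nat_lit 0xcccccccc00000000cccccccc000000000f000f0000000000f0000000)
 (.cons 64 (nat_lit 0xf0f0f0f0f0f0f0f00000000000000000fff0000000000000)
 (.cons 128 (nat_lit 0xfcfc0000000000000000000000000000)
 .nil)))))))))))))
noncomputable def a205 : Net := (.cons 128 (nat_lit 0xffff0000000000000000000000000000)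
 (.cons 64 (nat_lit 0xffff0000ffff00000000000000000000000000000000)
 (.cons 32 (nat_lit 0xffffffff00000000ffffffff00000000000000000000000000000000)
 (.cons 2 (nat_lit 0x3333303300330003300003300000)
 (.cons 1 (nat_lit 0x5000000000000000000000000000)
 (.cons 128 (nat_lit 0xffff0000000000000000000000000000)
 .nil))))))
noncomputable def a206 : Net := (.cons 128 (nat_lit 0xffff0000000000000000000000000000)
 (.cons 64 (nat_lit 0xffff0000ffff00000000000000000000000000000000)
 (.cons 32 (nat_lit 0xffffffff00000000ffffffff00000000000000000000000000000000)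
 (.cons 2 (nat_lit 0x3333303300330003300003300000)
 (.cons 1 (nat_lit 0x5000000000000000000000000000)
 (.cons 128 (nat_lit 0xffff0000000000000000000000000000)
 .nil))))))
noncomputable def a207 : Net := (.cons 128 (nat_lit 0xffff0000000000000000000000000000)
 (.cons 64 (nat_lit 0xf0f0f0f0ffff0000000000000000f0f0000000000000)
 (.cons 32 (nat_lit 0xf0ff0f0000000000f0ff0f0000000000f000ff000000000f0000000)
 (.cons 16 (nat_lit 0xf0f00000f0f00000f0f00000f0f00000f0000000f0f00000f00000000f00)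
 (.cons 8 (nat_lit 0xcc00cc00cc00cc00cc00cc00cc00cc00f00000000000ff000000ff000f00f0)
 (.cons 4 (nat_lit 0xf0f00000f0f00000f0f00000f0f0f000f0f000f0f0f0000000000000000)
 (.cons 2 (nat_lit 0x3300330033003300330033003300330000302233203333333203000000300300)
 (.cons 1 (nat_lit 0x504400400000000400000000000000)
 (.cons 2 (nat_lit 0x2200200000000200000000000000)
 (.cons 8 (nat_lit 0xcc00cc00cc00cc00cc00cc00cc00cc00f00000000000000000000000000000)
 (.cons 16 (nat_lit 0xf0f00000f0f00000f0f00000f0f00000f0000000f0f00000f00000000f00)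
 (.cons 32 (nat_lit 0xf000ff000000000f0000000)
 (.cons 64 (nat_lit 0xf0f0000000000000)
 (.cons 128 (nat_lit 0xffff0000000000000000000000000000)
 .nil))))))))))))))
noncomputable def a208 : Net := (.cons 128 (nat_lit 0xe2c89692cede7c9ae9b8c9104c609e86)
 (.cons 64 (nat_lit 0x71b624ccaade068d00000000000000004310be465ba17ac3)
 (.cons 32 (nat_lit 0xa4829bf600000000428d5d3200000000719a28210000000086a2695a)
 (.cons 16 (nat_lit 0xf040000ef2300000a430000863f000003c80000d19a00004aa400003165)
 (.cons 8 (nat_lit 0x84001500fb005d00e60091002a005600940044002000d0007e000800a80037)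
 (.cons 4 (nat_lit 0x708050e050d050208060f070e000a0b0f0a0a0c0f0a010c0c0302090807010e)
 (.cons 2 (nat_lit 0x1032313131323210022101323101302311212033333012030131002222121331)
 (.cons 1 (nat_lit 0x4114511140101411404111144111115015511414145414051451151441101411)
 (.cons 2 (nat_lit 0x2200002000202220000220220022220020002222000002002202202022202022)
 (.cons 4 (nat_lit 0xa00000c0e04080c00000e0808020a04080808000a040c0e0a080600040002)
 (.cons 8 (nat_lit 0xe8001000dc002c002600940000000e009800ea006000b400d80002005000c0)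
 (.cons 16 (nat_lit 0x8c600000552800006e4e000063ce00003548000042de000043100000e048)
 (.cons 32 (nat_lit 0x5432ea70000000008e4dd38e00000000318fe258000000000f28efae)
 (.cons 64 (nat_lit 0xf1f6451b7824fe80000000000000000056314a1e5e3a0220)
 (.cons 128 (nat_lit 0xe2c808f2bbcd84fa92958b78f85de80c)
 .nil)))))))))))))))
noncomputable def a209 : Net := (.cons 128 (nat_lit 0xffff0000000000000000000000000000)
 (.cons 64 (nat_lit 0xff33ccff0033cc0000000000000000fff0000000000000)
 (.cons 32 (nat_lit 0xcccccccc00000000cccccccc0000000000000fff00000000f0000000)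
 (.cons 16 (nat_lit 0xffff000000000000ffff000000000000f0f00000ff0f0000f0ff0000fff0)
 (.cons 8 (nat_lit 0xc3000f000f00c3003c00f000f0003c00f000ff00ff000f0000000000000000)
 (.cons 4 (nat_lit 0xf000f000f000f000f000f000f000f0000000f000f00000f000f0f000f0f0000)
 (.cons 2 (nat_lit 0x3333000033330000333300003333000010001130223122110000330000330000)
 (.cons 1 (nat_lit 0x15001150440144410000000000000000)
 (.cons 2 (nat_lit 0x20002200220222220000000000000000)
 (.cons 8 (nat_lit 0xf000f000f000f000f000f000f000f00000000000f000f00000000000000000)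
 (.cons 16 (nat_lit 0xcccc0000cccc0000cccc0000cccc0000ff0000000f00000000f00000f000)
 (.cons 32 (nat_lit 0xcccccccc00000000cccccccc000000000f00f00000000000f0000000)
 (.cons 64 (nat_lit 0xf0f0f0f0f0f0f0f00000000000000000fff0000000000000)
 (.cons 128 (nat_lit 0xffff0000000000000000000000000000)
 .nil))))))))))))))
noncomputable def a210 : Net := (.cons 128 (nat_lit 0xfffc0000000000000000000000000000)
 (.cons 64 (nat_lit 0xfff0fff0000ffff00000000000000000fff0000000000000)
 (.cons 32 (nat_lit 0xff0f00f000000000ff0f00f000000000f0f0ff000000000f0000000)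
 (.cons 16 (nat_lit 0xf0000000f000000f0ff0000f0ff0000f00f0000ff000000ff0f0000fff0)
 (.cons 8 (nat_lit 0x3c003c00c300c3003c003c00c300c300f000ff000000ff000f00f000ff0000)
 (.cons 4 (nat_lit 0xf0f00000f0f00000f0f00000f0f0f000f0f0f00000f0000000000000000)
 (.cons 2 (nat_lit 0x3300330033003300330033003300330000022200202022020000000000000000)
 (.cons 1 (nat_lit 0x44400404044040000000000000000)
 (.cons 2 (nat_lit 0x22200202022020000000000000000)
 (.cons 8 (nat_lit 0xcc00cc00cc00cc00cc00cc00cc00cc0000000000f000f00000000000000000)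
 (.cons 16 (nat_lit 0xf0f00000f0f00000f0f00000f0f00000f0000000ff0000000f000000f000)
 (.cons 32 (nat_lit 0xcccccccc00000000cccccccc000000000f0f0f0000000000f0000000)
 (.cons 64 (nat_lit 0xf0f0f0f0f0f0f0f00000000000000000fff0000000000000)
 (.cons 128 (nat_lit 0xfffc0000000000000000000000000000)
 .nil))))))))))))))
noncomputable def a211 : Net := (.cons 128 (nat_lit 0xffff0000000000000000000000000000)
 (.cons 64 (nat_lit 0xcc00cc0033ffcc000000000000000000fff0000000000000)
 (.cons 32 (nat_lit 0xcc3333cc00000000cc3333cc0000000000f0ff0f00000000f0000000)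
 (.cons 16 (nat_lit 0xff330000ff33000000cc000000cc00000ff000000ff000000f000000fff0)
 (.cons 8 (nat_lit 0x3c003c00c300c3003c003c00c300c3000000ff00ff00f0000f00f0000f00f0)
 (.cons 4 (nat_lit 0xf000f000f000f000f000f000f000f000f000f0f000f0f000f00000f000f0f00)
 (.cons 2 (nat_lit 0x3333000033330000333300003333000033202233111231110303300333030300)
 (.cons 1 (nat_lit 0x5101450141151110000000000000000)
 (.cons 2 (nat_lit 0x202200222202220000000000000000)
 (.cons 8 (nat_lit 0xf000f000f000f000f000f000f000f000000000000000000000000000f000f0)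
 (.cons 16 (nat_lit 0xcccc0000cccc0000cccc0000cccc00000f0000000ff000000f000000f000)
 (.cons 32 (nat_lit 0xf0f0f0f000000000f0f0f0f000000000f0f0f00000000000f0000000)
 (.cons 64 (nat_lit 0xcccccccccccccccc0000000000000000fff0000000000000)
 (.cons 128 (nat_lit 0xffff0000000000000000000000000000)
 .nil))))))))))))))
noncomputable def a212 : Net := (.cons 128 (nat_lit 0xffff0000000000000000000000000000)
 (.cons 64 (nat_lit 0x33333c3c3c3ccccc0000000000000000fff0000000000000)
 (.cons 32 (nat_lit 0xf0f00f0f00000000f0f00f0f00000000ff0ff0f000000000f0000000)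
 (.cons 16 (nat_lit 0xf0f0000f0f000000f0f0000f0f00000f00f0000f0000000000f00000f00)
 (.cons 8 (nat_lit 0xc300c300330033003c003c00cc00cc00ff0000000000ff00f0000f000f00f0)
 (.cons 4 (nat_lit 0xf0f000000000f0f0f0f000000000f0f000f000f0f000000000f0f00000f0f00)
 (.cons 2 (nat_lit 0x330300300330033300303303300330010013022211031210030030000330000)
 (.cons 1 (nat_lit 0x40010014411004410000000000000000)
 (.cons 2 (nat_lit 0x20020022222002220000000000000000)
 (.cons 8 (nat_lit 0xcc00cc00cc00cc00cc00cc00cc00cc0000000000f0000000f000f000000000)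
 (.cons 16 (nat_lit 0xf0f00000f0f00000f0f00000f0f00000f000000000f00000f00000000f00)
 (.cons 32 (nat_lit 0xf0f0000000000f0000000)
 (.cons 64 (nat_lit 0xff00ff00ff00ff000000000000000000fff0000000000000)
 (.cons 128 (nat_lit 0xffff0000000000000000000000000000)
 .nil))))))))))))))
noncomputable def a213 : Net := (.cons 128 (nat_lit 0xffff0000000000000000000000000000)
 (.cons 64 (nat_lit 0xff00ff0000ffff000000000000000000ff00000000000000)
 (.cons 32 (nat_lit 0xffffffff000000000000000000000000ff0000000000000000000000)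
 (.cons 16 (nat_lit 0xff000000ff00000000ff000000ff0000f0000000ffff00000f000000f000)
 (.cons 8 (nat_lit 0xff0000000000ff00ff0000000000ff0000000000ff00ff000f00f000ff0000)
 (.cons 4 (nat_lit 0xf00000f000000000000000000000000)
 (.cons 2 (nat_lit 0x30001111003300330003300003300000)
 (.cons 1 (nat_lit 0x50001111000000000000000000000000)
 (.cons 2 (nat_lit 0x2222000000000000000000000000)
 (.cons 16 (nat_lit 0xf0000000000000000f000000f000)
 (.cons 32 (nat_lit 0xff00ff0000000000ff00ff0000000000ff0000000000000000000000)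
 (.cons 64 (nat_lit 0xffff000000000000000000000000ff00000000000000)
 (.cons 128 (nat_lit 0xffff0000000000000000000000000000)
 .nil)))))))))))))
noncomputable def a214 : Net := (.cons 128 (nat_lit 0xffff0000000000000000000000000000)
 (.cons 64 (nat_lit 0xff00ff00ff0000ff00000000000000000000000000000000)
 (.cons 32 (nat_lit 0xffff00000000ffff000000000000f00000000000000000000000)
 (.cons 16 (nat_lit 0xff000000ff000000ff000000ff0000f000000000000000fff00000f000)
 (.cons 8 (nat_lit 0xff000000ff000000ff000000ff0000000000000000000000ff000000ff0000)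
 (.cons 4 (nat_lit 0xf0f000f0f0f0f0f0f000f0f0000)
 (.cons 2 (nat_lit 0x10003030010330033300300000330000)
 (.cons 1 (nat_lit 0x40000550010000000000000000000000)
 (.cons 2 (nat_lit 0x20000000020000000000000000000000)
 (.cons 16 (nat_lit 0xff000000ff000000ff000000ff000000f000000000000000fff00000f000)
 (.cons 32 (nat_lit 0xf00000000000000000000000)
 (.cons 64 (nat_lit 0xffff0000000000000000000000000000000000000000)
 (.cons 128 (nat_lit 0xffff0000000000000000000000000000)
 .nil)))))))))))))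
noncomputable def a215 : Net := (.cons 128 (nat_lit 0xffff0000000000000000000000000000)
 (.cons 64 (nat_lit 0xf0fc3c3f0f0c3c30000000000000000fff0000000000000)
 (.cons 32 (nat_lit 0x333333330000000033333333000000000f000f0000000000f0000000)
 (.cons 16 (nat_lit 0xffff0000ffff0000ffff0000ffff0000f0f0000000f00000f00f00000ff0)
 (.cons 8 (nat_lit 0xff00ff00ff00ff00ff00ff00ff00ff00f000ff000000000000000000000000)
 (.cons 4 (nat_lit 0xc0c0f0f0c0c0f0f0303000003030000000000000f0f0f000000000000000000)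
 (.cons 2 (nat_lit 0x333333330000000033333333000013000111112211220000033000033000)
 (.cons 1 (nat_lit 0x15000144414414440000000000000000)
 (.cons 2 (nat_lit 0x20000222222222220000000000000000)
 (.cons 16 (nat_lit 0xf00000000000000000)
 (.cons 32 (nat_lit 0xcccccccc00000000cccccccc000000000f000f0000000000f0000000)
 (.cons 64 (nat_lit 0xf0f0f0f0f0f0f0f00000000000000000fff0000000000000)
 (.cons 128 (nat_lit 0xffff0000000000000000000000000000)
 .nil)))))))))))))
noncomputable def a216 : Net := (.cons 128 (nat_lit 0xffff0000000000000000000000000000)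
 (.cons 64 (nat_lit 0xff00ff0000ffff000000000000000000ff00000000000000)
 (.cons 32 (nat_lit 0xffffffff000000000000000000000000ff0000000000000000000000)
 (.cons 16 (nat_lit 0xff000000ff00000000ff000000ff0000f0000000ffff00000f000000f000)
 (.cons 8 (nat_lit 0xff0000000000ff00ff0000000000ff0000000000ff00ff000f00f000ff0000)
 (.cons 4 (nat_lit 0xf00000f000000000000000000000000)
 (.cons 2 (nat_lit 0x30001111003300330003300003300000)
 (.cons 1 (nat_lit 0x50001111000000000000000000000000)
 (.cons 2 (nat_lit 0x2222000000000000000000000000)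
 (.cons 16 (nat_lit 0xf0000000000000000f000000f000)
 (.cons 32 (nat_lit 0xff00ff0000000000ff00ff0000000000ff0000000000000000000000)
 (.cons 64 (nat_lit 0xffff000000000000000000000000ff00000000000000)
 (.cons 128 (nat_lit 0xffff0000000000000000000000000000)
 .nil)))))))))))))
noncomputable def a217 : Net := (.cons 128 (nat_lit 0xffff0000000000000000000000000000)
 (.cons 64 (nat_lit 0xff00ff00ffff0000000000000000000000000000000000)
 (.cons 32 (nat_lit 0xffff0000000000000000ffff00000000f00000000000000000000000)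
 (.cons 16 (nat_lit 0xff000000ff000000ff000000ff0000f000000000000000fff00000f000)
 (.cons 8 (nat_lit 0xff000000ff000000ff000000ff000000000000000000ff000000ff0000)
 (.cons 4 (nat_lit 0xf0f000f0f0f0f0f0f000f0f0000)
 (.cons 2 (nat_lit 0x10000303013003300033030033000000)
 (.cons 1 (nat_lit 0x10005005040000000000000000000000)
 (.cons 2 (nat_lit 0x20000000020000000000000000000000)
 (.cons 16 (nat_lit 0xff000000ff000000ff000000ff000000f000000000000000fff00000f000)
 (.cons 32 (nat_lit 0xf00000000000000000000000)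
 (.cons 64 (nat_lit 0xffff0000000000000000000000000000000000000000)
 (.cons 128 (nat_lit 0xffff0000000000000000000000000000)
 .nil)))))))))))))
noncomputable def a218 : Net := (.cons 128 (nat_lit 0xffff0000000000000000000000000000)
 (.cons 64 (nat_lit 0xf0f0f0f0ffff0000000000000000f0f0000000000000)
 (.cons 32 (nat_lit 0xf0ff0f0000000000f0ff0f0000000000f000ff000000000f0000000)
 (.cons 16 (nat_lit 0xf0f00000f0f00000f0f00000f0f00000f0000000f0f00000f00000000f00)
 (.cons 8 (nat_lit 0xcc00cc00cc00cc00cc00cc00cc00cc00f00000000000ff000000ff000f00f0)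
 (.cons 4 (nat_lit 0xf0f00000f0f00000f0f00000f0f0f000f0f000f0f0f0000000000000000)
 (.cons 2 (nat_lit 0x3300330033003300330033003300330000302233203333333203000000300300)
 (.cons 1 (nat_lit 0x504400400000000400000000000000)
 (.cons 2 (nat_lit 0x2200200000000200000000000000)
 (.cons 8 (nat_lit 0xcc00cc00cc00cc00cc00cc00cc00cc00f00000000000000000000000000000)
 (.cons 16 (nat_lit 0xf0f00000f0f00000f0f00000f0f00000f0000000f0f00000f00000000f00)
 (.cons 32 (nat_lit 0xf000ff000000000f0000000)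
 (.cons 64 (nat_lit 0xf0f0000000000000)
 (.cons 128 (nat_lit 0xffff0000000000000000000000000000)
 .nil))))))))))))))
noncomputable def a219 : Net := (.cons 128 (nat_lit 0xffff0000000000000000000000000000)
 (.cons 64 (nat_lit 0xffff0000ffffffff0000000000000000ff00000000000000)
 (.cons 32 (nat_lit 0xffff0000000000000000ffff00000000ff00000000000000f0000000)
 (.cons 16 (nat_lit 0xf0000000ffff0000f00f00000000)
 (.cons 8 (nat_lit 0xff0000000000f000f000f000f0)
 (.cons 4 (nat_lit 0x303030303030303030303030303030300000f0f000f000f000f000f0f000f00)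
 (.cons 2 (nat_lit 0x3030303030303030303030303030303010000303003000301033000003003000)
 (.cons 1 (nat_lit 0x10000000550000554000000000000000)
 (.cons 2 (nat_lit 0x20000000000000002000000000000000)
 (.cons 4 (nat_lit 0xc0c0c0c0c0c0c0c0c0c0c0c0c0c0c0c00000000000000000000000000000000)
 (.cons 8 (nat_lit 0xf000f000f000f0)
 (.cons 16 (nat_lit 0xf000000000000000000000000000)
 (.cons 32 (nat_lit 0xff00000000000000f0000000)
 (.cons 64 (nat_lit 0xffff000000000000000000000000ff00000000000000)
 (.cons 128 (nat_lit 0xffff0000000000000000000000000000)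
 .nil)))))))))))))))
noncomputable def a220 : Net := (.cons 128 (nat_lit 0xffff0000000000000000000000000000)
 (.cons 64 (nat_lit 0x3c3c3333c3c333330000000000000000fff0000000000000)
 (.cons 32 (nat_lit 0xf0f0f0f000000000f0f0f0f00000000000000f000000000f0000000)
 (.cons 16 (nat_lit 0xff00000f0f00000000000000ff0)
 (.cons 8 (nat_lit 0xff00f0000000f000f000f000f0)
 (.cons 4 (nat_lit 0xf0f000000000f0f0f0f000000000f0f0f00000000000f0f000f000f0f000f00)
 (.cons 2 (nat_lit 0x3030333303033333030300003030000012101112201112220030003030003000)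
 (.cons 1 (nat_lit 0x44404444401114410000000000000000)
 (.cons 2 (nat_lit 0x22202222202222220000000000000000)
 (.cons 8 (nat_lit 0xf000f000f000f0)
 (.cons 16 (nat_lit 0xff00000f0f00000000000000000)
 (.cons 32 (nat_lit 0xf0f0f0f000000000f0f0f0f000000000000000f000000000f0000000)
 (.cons 64 (nat_lit 0xcccccccccccccccc0000000000000000fff0000000000000)
 (.cons 128 (nat_lit 0xffff0000000000000000000000000000)
 .nil))))))))))))))
noncomputable def a221 : Net := (.cons 128 (nat_lit 0xffff0000000000000000000000000000)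
 (.cons 64 (nat_lit 0x3c3c0f0fc3c30f0f0000000000000000fff0000000000000)
 (.cons 32 (nat_lit 0x333333330000000033333333000000000f000f0000000000f0000000)
 (.cons 16 (nat_lit 0xf0f0000000f00000f00f00000ff0)
 (.cons 8 (nat_lit 0xf000ff000000000000000000000000)
 (.cons 4 (nat_lit 0xc0c00000c0c000003030f0f03030f0f000000000f0f0f000000000000000000)
 (.cons 2 (nat_lit 0x3333000000003333333300000000333320003211121121110003300003300000)
 (.cons 1 (nat_lit 0x40005411141141110000000000000000)
 (.cons 2 (nat_lit 0x20000222222222220000000000000000)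
 (.cons 16 (nat_lit 0xf00000000000000000)
 (.cons 32 (nat_lit 0xcccccccc00000000cccccccc000000000f000f0000000000f0000000)
 (.cons 64 (nat_lit 0xf0f0f0f0f0f0f0f00000000000000000fff0000000000000)
 (.cons 128 (nat_lit 0xffff0000000000000000000000000000)
 .nil)))))))))))))
noncomputable def a222 : Net := (.cons 128 (nat_lit 0xffff0000000000000000000000000000)
 (.cons 64 (nat_lit 0xffff0000ffffffff0000000000000000ff00000000000000)
 (.cons 32 (nat_lit 0xffff00000000ffff000000000000ff00000000000000f0000000)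
 (.cons 16 (nat_lit 0xf0000000ffff0000f00f00000000)
 (.cons 8 (nat_lit 0xff0000000000f000f000f000f0)
 (.cons 4 (nat_lit 0x303030303030303030303030303030300000f0f000f000f000f000f0f000f00)
 (.cons 2 (nat_lit 0x303030303030303030303030303030310003030000300031000003330000300)
 (.cons 1 (nat_lit 0x40000000005555001000000000000000)
 (.cons 2 (nat_lit 0x20000000000000002000000000000000)
 (.cons 4 (nat_lit 0xc0c0c0c0c0c0c0c0c0c0c0c0c0c0c0c00000000000000000000000000000000)
 (.cons 8 (nat_lit 0xf000f000f000f0)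
 (.cons 16 (nat_lit 0xf000000000000000000000000000)
 (.cons 32 (nat_lit 0xff00000000000000f0000000)
 (.cons 64 (nat_lit 0xffff000000000000000000000000ff00000000000000)
 (.cons 128 (nat_lit 0xffff0000000000000000000000000000)
 .nil)))))))))))))))
noncomputable def a223 : Net := (.cons 128 (nat_lit 0x9ad05b4592dc46fd9ca1526e02a4bce5)
 (.cons 64 (nat_lit 0xb62cbac452135bfe0000000000000000f5962837b0cd7dcb)
 (.cons 32 (nat_lit 0x946b6a710000000083aa1f6e0000000015b7e3af0000000087b6b246)
 (.cons 16 (nat_lit 0x69ca000013d8000099b100007dc700009a2c0000b1cb0000b71700006422)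
 (.cons 8 (nat_lit 0xbc00d600ce00e6001100f20037003b00020064007500d30046003b003e00f0)
 (.cons 4 (nat_lit 0x60904000a0c0b0009030e0701020c0e0603010c02040603040e0e0200060a03)
 (.cons 2 (nat_lit 0x2020300201201000021222110110000132201121102101211230220101013001)
 (.cons 1 (nat_lit 0x1501000144440504005141140441100404100001401040040444100404144404)
 (.cons 2 (nat_lit 0x2020000000220020220000002000002200000000200200202002002)
 (.cons 4 (nat_lit 0x800000202040c000002040a0400000c0a02000c0e04080a06000a060000040e)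
 (.cons 8 (nat_lit 0x640070008e004c009000600060009c00b000b40094001000a000b0007000d6)
 (.cons 16 (nat_lit 0xe76a0000e7c40000d8b20000b38200003e02000055b80000d59000007b4a)
 (.cons 32 (nat_lit 0xbca3eaa00000000018ab119e00000000f4236fe400000000c7f9fee8)
 (.cons 64 (nat_lit 0x24fc847a827973a00000000000000000949ee2581dc55da0)
 (.cons 128 (nat_lit 0x9ad0c7f1933dd191c3fa81e06c252532)
 .nil)))))))))))))))
noncomputable def a224 : Net := (.cons 128 (nat_lit 0xfffc0000000000000000000000000000)
 (.cons 64 (nat_lit 0xffccffcc0033ffcc0000000000000000fff0000000000000)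
 (.cons 32 (nat_lit 0x33cccc330000000033cccc3300000000f0fff0f000000000f0000000)
 (.cons 16 (nat_lit 0xcc000000cc0000ff330000ff3300000ff00000ff000000ffff0000fff0)
 (.cons 8 (nat_lit 0xf0000f00f0000f00f0000f00f0000f000f00ff00f0000000ff000000ff0000)
 (.cons 4 (nat_lit 0xf000f000f000f000f000f000f000f00000f0f0f000000000f000000000f0000)
 (.cons 2 (nat_lit 0x3030030303033030303003030303303022222220200000220000000000000000)
 (.cons 1 (nat_lit 0x44444440400000440000000000000000)
 (.cons 2 (nat_lit 0x22222220200000220000000000000000)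
 (.cons 8 (nat_lit 0xf000f000f000f000f000f000f000f0000000000000000000f0000000f00000)
 (.cons 16 (nat_lit 0xf0f00000f0f00000f0f00000f0f0000000000000000000000ff00000f000)
 (.cons 32 (nat_lit 0xcccccccc00000000cccccccc0000000000ffff0000000000f0000000)
 (.cons 64 (nat_lit 0xf0f0f0f0f0f0f0f00000000000000000fff0000000000000)
 (.cons 128 (nat_lit 0xfffc0000000000000000000000000000)
 .nil))))))))))))))
noncomputable def a225 : Net := (.cons 128 (nat_lit 0xfffc0000000000000000000000000000)
 (.cons 64 (nat_lit 0xf0f0f0f00f0ff0f00000000000000000fff0000000000000)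
 (.cons 32 (nat_lit 0xffffffff00000000f0f0f00000000000f0000000)
 (.cons 16 (nat_lit 0xf0f00000f0f000000f0f00000f0f0000ff000000f0000000fff00000f000)
 (.cons 8 (nat_lit 0xf0000f000f00f000f0000f000f00f00000000f000f00ff00ff00f000ff00f0)
 (.cons 4 (nat_lit 0x30c0c030c03030c030c0c030c03030c00000f0f0f0f00000000000f00000f00)
 (.cons 2 (nat_lit 0x3030303030303030303030303030303002200022200000020000000000000000)
 (.cons 1 (nat_lit 0x4400044400000040000000000000000)
 (.cons 2 (nat_lit 0x2200022200000020000000000000000)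
 (.cons 4 (nat_lit 0xc0c0c0c0c0c0c0c0c0c0c0c0c0c0c0c00000000000000000000000000000000)
 (.cons 8 (nat_lit 0xcc00cc00cc00cc00cc00cc00cc00cc0000000000000000000000f0000000f0)
 (.cons 16 (nat_lit 0xfff0000000f000000ff00000f0f0)
 (.cons 32 (nat_lit 0xff00ff0000000000ff00ff00000000000000000000000000f0000000)
 (.cons 64 (nat_lit 0xffff000000000000000000000000fff0000000000000)
 (.cons 128 (nat_lit 0xfffc0000000000000000000000000000)
 .nil)))))))))))))))
noncomputable def a226 : Net := (.cons 128 (nat_lit 0xf0f00000000000000000000000000000)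
 (.cons 64 (nat_lit 0xf0f0ffff0000f0f00000000000000000f0f0000000000000)
 (.cons 32 (nat_lit 0xf0f00f0f00000000f0f00f0f00000000ffff0ff00000000000000000)
 (.cons 16 (nat_lit 0xf0f0000ffff0000f0f00000ff000000ff0000000f0f00000f00)
 (.cons 8 (nat_lit 0xf0000f000000f0000f0000000f0000)
 (.cons 4 (nat_lit 0xf0f00000f0f00000f0f00000f0f000f00000f0000000000000000000000)
 (.cons 2 (nat_lit 0x22020200200020000000000000000000)
 (.cons 1 (nat_lit 0x44040400400040000000000000000000)
 (.cons 2 (nat_lit 0x22020200200020000000000000000000)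
 (.cons 8 (nat_lit 0xf000000000000000000000)
 (.cons 16 (nat_lit 0xf0f00000f0f00000f0f00000f0f00000f0f000000f0000000f0000000000)
 (.cons 32 (nat_lit 0xff0fff000000000000000000)
 (.cons 64 (nat_lit 0xf0f0f0f0f0f0f0f00000000000000000f0f0000000000000)
 (.cons 128 (nat_lit 0xf0f00000000000000000000000000000)
 .nil))))))))))))))
noncomputable def a227 : Net := (.cons 128 (nat_lit 0xfff00000000000000000000000000000)
 (.cons 64 (nat_lit 0xfff0000f000f000f00000000000000000f00000000000000)
 (.cons 32 (nat_lit 0xff0f00f000000000ff0f00f000000000f0f0f000000000000000000)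
 (.cons 16 (nat_lit 0xf0f00000f0f00000f0f00000f0f00000000000000f00000000000000ff00)
 (.cons 8 (nat_lit 0xf000f0000f000f00f000f0000f000f000f00ff00f0000f00f000ff00ff0000)
 (.cons 4 (nat_lit 0xf0f00000f0f00000f0f00000f0f00000f0f0f0000000000000000000000)
 (.cons 2 (nat_lit 0x2020000002020000000000000000000)
 (.cons 1 (nat_lit 0x4040000004040000000000000000000)
 (.cons 2 (nat_lit 0x2020000002020000000000000000000)
 (.cons 8 (nat_lit 0xf000000000000000000000)
 (.cons 16 (nat_lit 0xf0f00000f0f00000f0f00000f0f00000000000000f00000000000000ff00)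
 (.cons 32 (nat_lit 0xff00ff0000000000ff00ff00000000000f0f0f000000000000000000)
 (.cons 64 (nat_lit 0xf00000000000000)
 (.cons 128 (nat_lit 0xfff00000000000000000000000000000)
 .nil))))))))))))))
noncomputable def a228 : Net := (.cons 128 (nat_lit 0xfcfc0000000000000000000000000000)
 (.cons 64 (nat_lit 0x3c3cf0f0c3c3f0f00000000000000000fff0000000000000)
 (.cons 32 (nat_lit 0xcccccccc00000000cccccccc000000000f000f0000000000f0000000)
 (.cons 16 (nat_lit 0xf0f0000000f00000f00f00000ff0)
 (.cons 8 (nat_lit 0xf000ff000000000000000000000000)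
 (.cons 4 (nat_lit 0xc0c0f0f0c0c0f0f0303000003030000000000000f0f0f000000000000000000)
 (.cons 2 (nat_lit 0x333333330000000033333333000020000222222222220000000000000000)
 (.cons 1 (nat_lit 0x40000444444444440000000000000000)
 (.cons 2 (nat_lit 0x20000222222222220000000000000000)
 (.cons 16 (nat_lit 0xf00000000000000000)
 (.cons 32 (nat_lit 0xcccccccc00000000cccccccc000000000f000f0000000000f0000000)
 (.cons 64 (nat_lit 0xf0f0f0f0f0f0f0f00000000000000000fff0000000000000)
 (.cons 128 (nat_lit 0xfcfc0000000000000000000000000000)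
 .nil)))))))))))))
noncomputable def a229 : Net := (.cons 128 (nat_lit 0x7f912902e762297bcf2e7362d4057a7e)
 (.cons 64 (nat_lit 0xde1b190e12fd46200000000000000000a82b0f2c500e6d55)
 (.cons 32 (nat_lit 0x860031f0000000096a6ad57000000001da5e0b6000000003d681ace)
 (.cons 16 (nat_lit 0xb3d90000669400002a0c0000c5dc00006a870000b1540000d01200008635)
 (.cons 8 (nat_lit 0xcf00a7001a00a60017009900dd008c00820084003d00e800b40038003800b4)
 (.cons 4 (nat_lit 0x102080a030b0f080e010f08040b07050a08030e0a0504080706040e06030d0e)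
 (.cons 2 (nat_lit 0x212330332011332120321133030022313020310030202203020033012013300)
 (.cons 1 (nat_lit 0x1114501011101414144544540411014010440410510440414410014441500414)
 (.cons 2 (nat_lit 0x2200002000000002002022020022002020020000020000002020020200000202)
 (.cons 4 (nat_lit 0x20c020c0402040000040a0a0e0a0800000c0a0604040008080004080806040c)
 (.cons 8 (nat_lit 0xcc001c0000005000ce000a00f000a4002800b0006600c20054003000f80062)
 (.cons 16 (nat_lit 0xa4ba00003312000002c800008b8c0000c788000039360000c1cc0000d75a)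
 (.cons 32 (nat_lit 0x1d7abda6000000008bd2b2c8000000003d830a8400000000a9963754)
 (.cons 64 (nat_lit 0xfb8a2ddca8ac4c8e0000000000000000a869a7c84ff7928c)
 (.cons 128 (nat_lit 0x7f916cf24a6cf98cb8b00b15adb6545a)
 .nil)))))))))))))))
noncomputable def a230 : Net := (.cons 128 (nat_lit 0x3a9ba42b47217131e2052bb8990bc2a5)
 (.cons 64 (nat_lit 0xacbeb9b33b6bdab000000000000000007b8b2170b3c3a74)
 (.cons 32 (nat_lit 0xa5c8fc9800000000c6eaae330000000063fd9e6900000000820b6f2a)
 (.cons 16 (nat_lit 0xd802000080f500006ba2000052e60000d1970000bc140000bc1100008137)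
 (.cons 8 (nat_lit 0xee0051008c00fc003300ed004000f500b20081001c00a100930085001e00af)
 (.cons 4 (nat_lit 0xc010b070a060600090e0e0f0e030d0107080c0d060c070107010b06070a0a0e)
 (.cons 2 (nat_lit 0x2331333030232323111333131320322321322331332230030123030102233330)
 (.cons 1 (nat_lit 0x1444054104105145414110015511501110014140111451410515144114141541)
 (.cons 2 (nat_lit 0x2200000202000020020000020000000020000000022000020020200222200002)
 (.cons 4 (nat_lit 0x4000a04020604000000000804000c0400040600080008040604000402020804)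
 (.cons 8 (nat_lit 0x2c00e4003400d000ba00680002005a00300000001000f400c6002200aa000a)
 (.cons 16 (nat_lit 0xf1500000bab8000023ee0000f0ec000077e20000a1200000e91a00001412)
 (.cons 32 (nat_lit 0xad800cda00000000bddc21c200000000a741900200000000664d5256)
 (.cons 64 (nat_lit 0x3a410480a34f3f60000000000000000007d8a11ef59a3faa)
 (.cons 128 (nat_lit 0x3a9bd31aa71146e8f7160fae212e51e0)
 .nil)))))))))))))))
noncomputable def a231 : Net := (.cons 128 (nat_lit 0xffff0000000000000000000000000000)
 (.cons 64 (nat_lit 0x33333c3c3c3ccccc0000000000000000fff0000000000000)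
 (.cons 32 (nat_lit 0xf0f00f0f00000000f0f00f0f00000000ff0ff0f000000000f0000000)
 (.cons 16 (nat_lit 0xf0f0000f0f000000f0f0000f0f00000f00f0000f0000000000f00000f00)
 (.cons 8 (nat_lit 0xc300c300330033003c003c00cc00cc00ff0000000000ff00f0000f000f00f0)
 (.cons 4 (nat_lit 0xf0f000000000f0f0f0f000000000f0f000f000f0f000000000f0f00000f0f00)
 (.cons 2 (nat_lit 0x330300300330033300303303300330010013022211031210030030000330000)
 (.cons 1 (nat_lit 0x40010014411004410000000000000000)
 (.cons 2 (nat_lit 0x20020022222002220000000000000000)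
 (.cons 8 (nat_lit 0xcc00cc00cc00cc00cc00cc00cc00cc0000000000f0000000f000f000000000)
 (.cons 16 (nat_lit 0xf0f00000f0f00000f0f00000f0f00000f000000000f00000f00000000f00)
 (.cons 32 (nat_lit 0xf0f0000000000f0000000)
 (.cons 64 (nat_lit 0xff00ff00ff00ff000000000000000000fff0000000000000)
 (.cons 128 (nat_lit 0xffff0000000000000000000000000000)
 .nil))))))))))))))
noncomputable def a232 : Net := (.cons 128 (nat_lit 0xff000000000000000000000000000000)
 (.cons 64 (nat_lit 0xff00ff0000ffff000000000000000000ff00000000000000)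
 (.cons 32 (nat_lit 0xffffffff00000000ff0000000000000000000000)
 (.cons 16 (nat_lit 0xff000000ff00000000ff000000ff0000f0000000ffff00000f000000f000)
 (.cons 8 (nat_lit 0xff00ff0000000000ff00ff00000000000000ff00ff000f00f000ff0000)
 (.cons 4 (nat_lit 0xf000f0f0f0f0f0f0f0f0f0f0f0f0f0f0f0f000f000000000000000000000000)
 (.cons 2 (nat_lit 0x3300333333333333333333333333333300332222000000000030000300003330)
 (.cons 1 (nat_lit 0x4444555555550050000000000000)
 (.cons 2 (nat_lit 0x2222000000000000000000000000)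
 (.cons 16 (nat_lit 0xf0000000000000000f000000f000)
 (.cons 32 (nat_lit 0xff00ff0000000000ff00ff0000000000ff0000000000000000000000)
 (.cons 64 (nat_lit 0xffff000000000000000000000000ff00000000000000)
 (.cons 128 (nat_lit 0xff000000000000000000000000000000)
 .nil)))))))))))))
noncomputable def a233 : Net := (.cons 128 (nat_lit 0xffff0000000000000000000000000000)
 (.cons 64 (nat_lit 0xff00ff0000ffff000000000000000000ff00000000000000)
 (.cons 32 (nat_lit 0xffffffff000000000000000000000000ff0000000000000000000000)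
 (.cons 16 (nat_lit 0xff000000ff00000000ff000000ff0000f0000000ffff00000f000000f000)
 (.cons 8 (nat_lit 0xff0000000000ff00ff0000000000ff0000000000ff00ff000f00f000ff0000)
 (.cons 4 (nat_lit 0xf00000f000000000000000000000000)
 (.cons 2 (nat_lit 0x30001111003300330003300003300000)
 (.cons 1 (nat_lit 0x50001111000000000000000000000000)
 (.cons 2 (nat_lit 0x2222000000000000000000000000)
 (.cons 16 (nat_lit 0xf0000000000000000f000000f000)
 (.cons 32 (nat_lit 0xff00ff0000000000ff00ff0000000000ff0000000000000000000000)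
 (.cons 64 (nat_lit 0xffff000000000000000000000000ff00000000000000)
 (.cons 128 (nat_lit 0xffff0000000000000000000000000000)
 .nil)))))))))))))
noncomputable def a234 : Net := (.cons 128 (nat_lit 0xffff0000000000000000000000000000)
 (.cons 64 (nat_lit 0xff0000ff00ffff000000000000000000ff00000000000000)
 (.cons 32 (nat_lit 0xffffffff00000000ffffffff00000000ff0000000000000000000000)
 (.cons 16 (nat_lit 0xffff000000000000ffff000000000000ff000000ffff000000f00000f000)
 (.cons 8 (nat_lit 0xff00ff00ff00ff0000000000000000000000ff00ff0000000000000000)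
 (.cons 4 (nat_lit 0xf000f000f0f0f0f000f0f000f0f0000)
 (.cons 2 (nat_lit 0x21001211030303030030300030300000)
 (.cons 1 (nat_lit 0x14004414000000000000000000000000)
 (.cons 2 (nat_lit 0x22002222000000000000000000000000)
 (.cons 16 (nat_lit 0xf00000f000)
 (.cons 32 (nat_lit 0xff0000000000000000000000)
 (.cons 64 (nat_lit 0xff00ff00ff00ff000000000000000000ff00000000000000)
 (.cons 128 (nat_lit 0xffff0000000000000000000000000000)
 .nil)))))))))))))
noncomputable def ws : List (List ℕ) :=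
  [W (nat_lit 0x641b06813058110500b02c0f024010440f),
  W (nat_lit 0x1a06c1a058110400b0700703c020280c),
  W (nat_lit 0x54d525495454554),
  W (nat_lit 0x152551545515455152),
  W (nat_lit 0x1555555755958),
  W (nat_lit 0x1585615555d56),
  W (nat_lit 0x55d55555585595655956),
  W (nat_lit 0x1595795b5755d5695a),
  W (nat_lit 0x57555555515455a),
  W (nat_lit 0x15f56556545555455f),
  W (nat_lit 0x1645916159162591625896358563589625916258d62),
  W (nat_lit 0x16258d6358964585635896459164589635856358964),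
  W (nat_lit 0x5a16559d6559d66),
  W (nat_lit 0x16559d6659968),
  W (nat_lit 0x15654d52),
  W (nat_lit 0x5615555d555615655956),
  W (nat_lit 0x15655958555555615555555),
  W (nat_lit 0x158555555615855956),
  W (nat_lit 0x55956559565615556156),
  W (nat_lit 0x55d5755557555585595655956),
  W (nat_lit 0x1565595655d55555575555556156),
  W (nat_lit 0x15556156),
  W (nat_lit 0x15755956559585555555558),
  W (nat_lit 0x1565595855557),
  W (nat_lit 0x15556156),
  W (nat_lit 0x1585615655d55),
  W (nat_lit 0x6057f60d8360180),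
  W (nat_lit 0x15556156559565615656155),
  W (nat_lit 0x1575555556156),
  W (nat_lit 0x1585595656155),
  W (nat_lit 0x555575595755958),
  W (nat_lit 0x18c6398a),
  W (nat_lit 0x555555615555d555615555555),
  W (nat_lit 0x15555555555585595655956),
  W (nat_lit 0x55557555575595855956),
  W (nat_lit 0x1555615656155),
  W (nat_lit 0x1555555855956),
  W (nat_lit 0x55d5766597),
  W (nat_lit 0x55d56561565615555555),
  W (nat_lit 0x15555d555615855558),
  W (nat_lit 0x58d62),
  W (nat_lit 0x16559d6559567),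
  W (nat_lit 0x1665a16659d66),
  W (nat_lit 0x59d6659d65),
  W (nat_lit 0x5a166599665a1655a168),
  W (nat_lit 0x5956559d65),
  W (nat_lit 0x5956859567),
  W (nat_lit 0x5a168599665a166),
  W (nat_lit 0x595675996759968),
  W (nat_lit 0x5a16659d66),
  W (nat_lit 0x168595675956759d675996759967),
  W (nat_lit 0x1685996659d65),
  W (nat_lit 0x1675996859568),
  W (nat_lit 0x1685a1655a1665a168),
  W (nat_lit 0x167599665a165),
  W (nat_lit 0x57d5b555595455954956),
  W (nat_lit 0x58164581605916058),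
  W (nat_lit 0x571685a15c57),
  W (nat_lit 0x1c1711c4),
  W (nat_lit 0x709c3705c1705c4709c2),
  W (nat_lit 0x709c370dc1),
  W (nat_lit 0x5956a58968),
  W (nat_lit 0x1695ad655a16159569),
  W (nat_lit 0x1cd72dcd735cc739cc),
  W (nat_lit 0x731ce739cc),
  W (nat_lit 0x1d1745cf745cf745cf749cf),
  W (nat_lit 0x745cf745d0749cf)]
noncomputable def ns : List Net := [CL.O8S.M.a0, CL.O8S.M.a1, CL.O8S.M.a2, CL.O8S.M.a3, CL.O8S.M.a4, CL.O8S.M.a5, CL.O8S.M.a6, CL.O8S.M.a7, CL.O8S.M.a8, CL.O8S.M.a9, CL.O8S.M.a10, CL.O8S.M.a11, CL.O8S.M.a12, CL.O8S.M.a13, CL.O8S.M.a14, CL.O8S.M.a15, CL.O8S.M.a16, CL.O8S.M.a17, CL.O8S.M.a18, CL.O8S.M.a19, CL.O8S.M.a20, CL.O8S.M.a21, CL.O8S.M.a22, CL.O8S.M.a23, CL.O8S.M.a24, CL.O8S.M.a25, CL.O8S.M.a26, CL.O8S.M.a27, CL.O8S.M.a28, CL.O8S.M.a29, CL.O8S.M.a30, CL.O8S.M.a31, CL.O8S.M.a32, CL.O8S.M.a33, CL.O8S.M.a34, CL.O8S.M.a35, CL.O8S.M.a36, CL.O8S.M.a37, CL.O8S.M.a38, CL.O8S.M.a39, CL.O8S.M.a40, CL.O8S.M.a41, CL.O8S.M.a42, CL.O8S.M.a43, CL.O8S.M.a44,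 CL.O8S.M.a45, CL.O8S.M.a46, CL.O8S.M.a47, CL.O8S.M.a48, CL.O8S.M.a49, CL.O8S.M.a50, CL.O8S.M.a51, CL.O8S.M.a52, CL.O8S.M.a53, CL.O8S.M.a54, CL.O8S.M.a55, CL.O8S.M.a56, CL.O8S.M.a57, CL.O8S.M.a58, CL.O8S.M.a59, CL.O8S.M.a60, CL.O8S.M.a61, CL.O8S.M.a62, CL.O8S.M.a63, CL.O8S.M.a64, CL.O8S.M.a65, CL.O8S.M.a66, CL.O8S.M.a67, CL.O8S.M.a68, CL.O8S.M.a69, CL.O8S.M.a70, CL.O8S.M.a71, CL.O8S.M.a72, CL.O8S.M.a73, CL.O8S.M.a74, CL.O8S.M.a75, CL.O8S.M.a76, CL.O8S.M.a77, CL.O8S.M.a78, CL.O8S.M.a79, CL.O8S.M.a80, CL.O8S.M.a81, CL.O8S.M.a82, CL.O8S.M.a83, CL.O8S.M.a84, CL.O8S.M.a85, CL.O8S.M.a86, CL.O8S.M.a87, CL.O8S.M.a88, CL.O8S.M.a89, CL.O8S.M.a90, CL.O8S.M.a91, CL.O8S.M.a92, CL.O8S.M.a93, CL.O8S.M.a94, CL.O8S.M.a95, CL.O8S.M.a96, CL.O8S.M.a97, CL.O8S.M.a98, CL.O8S.M.a99, CL.O8S.M.a100, CL.O8S.M.a101, CL.O8S.M.a102, CL.O8S.M.a103, CL.O8S.M.a104, CL.O8S.M.a105, CL.O8S.M.a106, CL.O8S.M.a107, CL.O8S.M.a108, CL.O8S.M.a109, CL.O8S.M.a110, CL.O8S.M.a111, CL.O8S.M.a112, CL.O8S.M.a113,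 CL.O8S.M.a114, CL.O8S.M.a115, CL.O8S.M.a116, CL.O8S.M.a117, CL.O8S.M.a118, CL.O8S.M.a119, CL.O8S.M.a120, CL.O8S.M.a121, CL.O8S.M.a122, CL.O8S.M.a123, CL.O8S.M.a124, CL.O8S.M.a125, CL.O8S.M.a126, CL.O8S.M.a127, CL.O8S.M.a128, CL.O8S.M.a129, CL.O8S.M.a130, CL.O8S.M.a131, CL.O8S.M.a132, CL.O8S.M.a133, CL.O8S.M.a134, CL.O8S.M.a135, CL.O8S.M.a136, CL.O8S.M.a137, CL.O8S.M.a138, CL.O8S.M.a139, CL.O8S.M.a140, CL.O8S.M.a141, CL.O8S.M.a142, CL.O8S.M.a143, CL.O8S.M.a144, CL.O8S.M.a145, CL.O8S.M.a146, CL.O8S.M.a147, CL.O8S.M.a148, CL.O8S.M.a149, CL.O8S.M.a150, CL.O8S.M.a151, CL.O8S.M.a152, CL.O8S.M.a153, CL.O8S.M.a154, CL.O8S.M.a155, CL.O8S.M.a156, CL.O8S.M.a157, CL.O8S.M.a158, CL.O8S.M.a159, CL.O8S.M.a160, CL.O8S.M.a161, CL.O8S.M.a162, CL.O8S.M.a163, CL.O8S.M.a164, CL.O8S.M.a165, CL.O8S.M.a166, CL.O8S.M.a167, a168, a169, a170, a171, a172, a173, a174, a175, a176, a177, a178, a179, a180, a181, a182, a183, a184, a185, a186, a187, a188, a189, a190, a191, a192, a193, a194, a195,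 a196, a197, a198, a199, a200, a201, a202, a203, a204, a205, a206, a207, a208, a209, a210, a211, a212, a213, a214, a215, a216, a217, a218, a219, a220, a221, a222, a223, a224, a225, a226, a227, a228, a229, a230, a231, a232, a233, a234]
noncomputable def D : List (ℕ × List ℕ) := app CL.O8S.M.D (mkDefs ws 168)
noncomputable def chk : List (List ℕ × List ℕ) → Bool := CL.O8S.M.P.relsB ns
noncomputable def zt0 : List ℕ :=
  []
noncomputable def zcj1 : List (List ℕ) :=
  []
noncomputable def zus4 : List (List ℕ) :=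
  [[344],
  [345],
  [346],
  [348],
  [349],
  W (nat_lit 0x56559),
  W (nat_lit 0x5655d)]
noncomputable def zF5 : List (List (ℕ × List ℕ)) :=
  [[(1, []),
   (6, []),
   (0, []),
   (5, [350]),
   (3, [350]),
   (7, []),
   (2, []),
   (4, [])],
  [(3, []),
   (5, [350]),
   (4, [350]),
   (0, []),
   (2, [350]),
   (1, [350]),
   (7, [350]),
   (6, [350])],
  [(4, []),
   (7, []),
   (3, [350]),
   (1, [350]),
   (6, []),
   (0, []),
   (5, []),
   (2, [])]]
noncomputable def zus8 : List (List ℕ) :=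
  [[340],
  [341],
  [342],
  W (nat_lit 0x55555),
  W (nat_lit 0x55956),
  W (nat_lit 0x55559),
  W (nat_lit 0x5555a),
  W (nat_lit 0x5555e),
  W (nat_lit 0x5595d),
  W (nat_lit 0x5595a),
  W (nat_lit 0x15557955)]
noncomputable def zF9 : List (List (ℕ × List ℕ)) :=
  [[(1, []),
   (4, []),
   (0, []),
   (6, [350]),
   (8, [349]),
   (2, []),
   (10, [345]),
   (3, W (nat_lit 0x57d5e)),
   (11, []),
   (5, [349]),
   (7, W (nat_lit 0x57d5b)),
   (9, W (nat_lit 0x56559))],
  [(3, []),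
   (1, [346]),
   (2, W (nat_lit 0x57d59)),
   (0, []),
   (6, W (nat_lit 0x57d5a)),
   (7, W (nat_lit 0x57d5a)),
   (4, W (nat_lit 0x57d5a)),
   (5, W (nat_lit 0x57d5a)),
   (8, W (nat_lit 0x57d59)),
   (9, [346]),
   (11, W (nat_lit 0x57d5a)),
   (10, W (nat_lit 0x57d5a))]]
noncomputable def zrs12 : List (ℕ × List ℕ) :=
  [(74, W (nat_lit 0x16d5596e5b956)),
  (234, W (nat_lit 0x16d5555e5b555)),
  (225, W (nat_lit 0x16d5596e55d6e)),
  (4, [365]),
  (166, W (nat_lit 0x16e5556d)),
  (34, [364]),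
  (153, W (nat_lit 0x5b56d55d6d5556e)),
  (49, W (nat_lit 0x16e555555b957)),
  (89, W (nat_lit 0x16d5b556)),
  (19, W (nat_lit 0x16d55d6d55d6d)),
  (2, W (nat_lit 0x16e5555e5556e)),
  (3, W (nat_lit 0x16d559565b5565596d)),
  (1, W (nat_lit 0x16d5555e5556d))]
noncomputable def C_w0_1_v0 : Lev :=
  ⟨74, 48, sg (W (nat_lit 0x5555755555555575555555d5555d55)), [[366], [368]], 180, 2⟩
noncomputable def C_w0_1_v1 : Lev :=
  ⟨64, 4, sg (W (nat_lit 0x5c56f)), [], 182, 0⟩
noncomputable def C_w0_1_vs2 : List Lev :=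
  []
noncomputable def C_w0_1_vs1 : List Lev :=
  C_w0_1_v1 :: C_w0_1_vs2
noncomputable def C_w0_1_vs : List Lev :=
  C_w0_1_v0 :: C_w0_1_vs1
noncomputable def zcj14 : List (List ℕ) :=
  [[346],
  W (nat_lit 0x5695557955)]
noncomputable def C_w0_2_v0 : Lev :=
  ⟨234, 32, sg (W (nat_lit 0x555555555555d555555755555)), [[370], [372]], 182, 2⟩
noncomputable def C_w0_2_v1 : Lev :=
  ⟨56, 6, sg (W (nat_lit 0x1735d573)), [], 184, 0⟩
noncomputable def C_w0_2_vs2 : List Lev :=
  []
noncomputable def C_w0_2_vs1 : List Lev :=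
  C_w0_2_v1 :: C_w0_2_vs2
noncomputable def C_w0_2_vs : List Lev :=
  C_w0_2_v0 :: C_w0_2_vs1
noncomputable def zcj18 : List (List ℕ) :=
  [[346],
  W (nat_lit 0x5555a)]
noncomputable def C_w0_3_v0 : Lev :=
  ⟨225, 32, sg (W (nat_lit 0x5555555555555575555555d5555555)), [[374], [376]], 184, 2⟩
noncomputable def C_w0_3_v1 : Lev :=
  ⟨56, 6, sg (W (nat_lit 0x1775e577)), [], 186, 0⟩
noncomputable def C_w0_3_vs2 : List Lev :=
  []
noncomputable def C_w0_3_vs1 : List Lev :=
  C_w0_3_v1 :: C_w0_3_vs2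
noncomputable def C_w0_3_vs : List Lev :=
  C_w0_3_v0 :: C_w0_3_vs1
noncomputable def zcj22 : List (List ℕ) :=
  [W (nat_lit 0x1595595d),
  W (nat_lit 0x15f565595595d)]
noncomputable def C_v0 : Lev :=
  ⟨0, 240, sg (W (nat_lit 0x5455154d5154d5154d5154d5154d5154d51)), [[340], [342]], 167, 2⟩
noncomputable def C_v1 : Lev :=
  ⟨4, 12, sg (W (nat_lit 0x55555555555555755555)), [[344], [346], [348]], 169, 3⟩
noncomputable def C_v2 : Lev :=
  ⟨12, 8, sg (W (nat_lit 0x5655956d59)), [[350]], 172, 1⟩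
noncomputable def C_v3 : Lev :=
  ⟨20, 2, sg [350], [], 173, 0⟩
noncomputable def C_vs4 : List Lev :=
  []
noncomputable def C_vs3 : List Lev :=
  C_v3 :: C_vs4
noncomputable def C_vs2 : List Lev :=
  C_v2 :: C_vs3
noncomputable def C_vs1 : List Lev :=
  C_v1 :: C_vs2
noncomputable def C_vs : List Lev :=
  C_v0 :: C_vs1
noncomputable def zcj26 : List (List ℕ) :=
  [[349],
  [350],
  [345]]
noncomputable def C_w0_5_v0 : Lev :=
  ⟨166, 32, sg (W (nat_lit 0x5555555555555575555555d55)), [[378], [380]], 186, 2⟩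
noncomputable def C_w0_5_v1 : Lev :=
  ⟨56, 6, sg (W (nat_lit 0x17b5f57b)), [], 188, 0⟩
noncomputable def C_w0_5_vs2 : List Lev :=
  []
noncomputable def C_w0_5_vs1 : List Lev :=
  C_w0_5_v1 :: C_w0_5_vs2
noncomputable def C_w0_5_vs : List Lev :=
  C_w0_5_v0 :: C_w0_5_vs1
noncomputable def zcj30 : List (List ℕ) :=
  [[346],
  W (nat_lit 0x15f565595555e)]
noncomputable def C_w0_6_v0 : Lev :=
  ⟨34, 12, sg (W (nat_lit 0x55555555555555755555)), [[382], [384], [386]], 188, 3⟩
noncomputable def C_w0_6_v1 : Lev :=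
  ⟨12, 8, sg (W (nat_lit 0x1836057f)), [[388]], 191, 1⟩
noncomputable def C_w0_6_v2 : Lev :=
  ⟨20, 2, sg [388], [], 192, 0⟩
noncomputable def C_w0_6_vs3 : List Lev :=
  []
noncomputable def C_w0_6_vs2 : List Lev :=
  C_w0_6_v2 :: C_w0_6_vs3
noncomputable def C_w0_6_vs1 : List Lev :=
  C_w0_6_v1 :: C_w0_6_vs2
noncomputable def C_w0_6_vs : List Lev :=
  C_w0_6_v0 :: C_w0_6_vs1
noncomputable def zcj34 : List (List ℕ) :=
  [W (nat_lit 0x5655d),
  [350],
  W (nat_lit 0x57d5a)]
noncomputable def C_w0_7_v0 : Lev :=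
  ⟨153, 32, sg (W (nat_lit 0x555555555555d555555755555)), [[343], [390]], 192, 1⟩
noncomputable def C_w0_7_v1 : Lev :=
  ⟨56, 6, sg (W (nat_lit 0x15861d58)), [], 193, 0⟩
noncomputable def C_w0_7_vs2 : List Lev :=
  []
noncomputable def C_w0_7_vs1 : List Lev :=
  C_w0_7_v1 :: C_w0_7_vs2
noncomputable def C_w0_7_vs : List Lev :=
  C_w0_7_v0 :: C_w0_7_vs1
noncomputable def zcj38 : List (List ℕ) :=
  [W (nat_lit 0x15f565595555e),
  W (nat_lit 0x57d5a)]
noncomputable def C_w0_8_v0 : Lev :=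
  ⟨49, 12, sg (W (nat_lit 0x155555555555555d55)), [[392], [394], [396]], 193, 3⟩
noncomputable def C_w0_8_v1 : Lev :=
  ⟨4, 8, sg (W (nat_lit 0x6258962d89)), [[398]], 196, 1⟩
noncomputable def C_w0_8_v2 : Lev :=
  ⟨12, 2, sg [398], [], 197, 0⟩
noncomputable def C_w0_8_vs3 : List Lev :=
  []
noncomputable def C_w0_8_vs2 : List Lev :=
  C_w0_8_v2 :: C_w0_8_vs3
noncomputable def C_w0_8_vs1 : List Lev :=
  C_w0_8_v1 :: C_w0_8_vs2
noncomputable def C_w0_8_vs : List Lev :=
  C_w0_8_v0 :: C_w0_8_vs1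
noncomputable def zcj42 : List (List ℕ) :=
  [[344],
  [349],
  W (nat_lit 0x57d5d)]
noncomputable def C_w0_9_v0 : Lev :=
  ⟨89, 12, sg (W (nat_lit 0x555555555555d5555555)), [[400], [402], [404]], 197, 3⟩
noncomputable def C_w0_9_v1 : Lev :=
  ⟨4, 8, sg (W (nat_lit 0x64d9165593)), [[400]], 200, 0⟩
noncomputable def C_w0_9_v2 : Lev :=
  ⟨20, 2, sg [400], [], 200, 0⟩
noncomputable def C_w0_9_vs3 : List Lev :=
  []
noncomputable def C_w0_9_vs2 : List Lev :=
  C_w0_9_v2 :: C_w0_9_vs3
noncomputable def C_w0_9_vs1 : List Lev :=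
  C_w0_9_v1 :: C_w0_9_vs2
noncomputable def C_w0_9_vs : List Lev :=
  C_w0_9_v0 :: C_w0_9_vs1
noncomputable def zcj46 : List (List ℕ) :=
  [[350],
  W (nat_lit 0x57d5a),
  W (nat_lit 0x57d5d)]
noncomputable def C_w0_10_v0 : Lev :=
  ⟨19, 12, sg (W (nat_lit 0x555555555555d5555555)), [[342], [406], [408]], 200, 2⟩
noncomputable def C_w0_10_v1 : Lev :=
  ⟨4, 8, sg (W (nat_lit 0x65d9765d57)), [[410]], 202, 1⟩
noncomputable def C_w0_10_v2 : Lev :=
  ⟨20, 2, sg [410], [], 203, 0⟩
noncomputable def C_w0_10_vs3 : List Lev :=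
  []
noncomputable def C_w0_10_vs2 : List Lev :=
  C_w0_10_v2 :: C_w0_10_vs3
noncomputable def C_w0_10_vs1 : List Lev :=
  C_w0_10_v1 :: C_w0_10_vs2
noncomputable def C_w0_10_vs : List Lev :=
  C_w0_10_v0 :: C_w0_10_vs1
noncomputable def zcj50 : List (List ℕ) :=
  [W (nat_lit 0x15f5755557955),
  W (nat_lit 0x15e55956),
  W (nat_lit 0x15f5655d55559)]
noncomputable def C_w0_11_v0 : Lev :=
  ⟨2, 1, sg [], [[340], [342]], 203, 0⟩
noncomputable def C_w0_11_v1 : Lev :=
  ⟨56, 48, sg (W (nat_lit 0x555555555555d55555575555555d55)), [[412], [414]], 203, 2⟩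
noncomputable def C_w0_11_v2 : Lev :=
  ⟨64, 4, sg (W (nat_lit 0x67d9d)), [], 205, 0⟩
noncomputable def C_w0_11_vs3 : List Lev :=
  []
noncomputable def C_w0_11_vs2 : List Lev :=
  C_w0_11_v2 :: C_w0_11_vs3
noncomputable def C_w0_11_vs1 : List Lev :=
  C_w0_11_v1 :: C_w0_11_vs2
noncomputable def C_w0_11_vs : List Lev :=
  C_w0_11_v0 :: C_w0_11_vs1
noncomputable def zcj54 : List (List ℕ) :=
  [W (nat_lit 0x15d5555e),
  W (nat_lit 0x15f5655d55559)]
noncomputable def C_w0_12_v0 : Lev :=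
  ⟨3, 1, sg [], [[340], [342]], 205, 0⟩
noncomputable def C_w0_12_v1 : Lev :=
  ⟨56, 48, sg (W (nat_lit 0x555555555555d55555575555555d55)), [[412], [414]], 203, 2⟩
noncomputable def C_w0_12_v2 : Lev :=
  ⟨64, 4, sg (W (nat_lit 0x67d9d)), [], 205, 0⟩
noncomputable def C_w0_12_vs3 : List Lev :=
  []
noncomputable def C_w0_12_vs2 : List Lev :=
  C_w0_12_v2 :: C_w0_12_vs3
noncomputable def C_w0_12_vs1 : List Lev :=
  C_w0_12_v1 :: C_w0_12_vs2
noncomputable def C_w0_12_vs : List Lev :=
  C_w0_12_v0 :: C_w0_12_vs1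
noncomputable def zcj58 : List (List ℕ) :=
  [[340],
  W (nat_lit 0x15b5555a)]
noncomputable def C_w0_13_v0 : Lev :=
  ⟨1, 1, sg [], [[340], [342]], 205, 0⟩
noncomputable def C_w0_13_v1 : Lev :=
  ⟨56, 48, sg (W (nat_lit 0x555555555555d55555575555555d55)), [[412], [414]], 203, 2⟩
noncomputable def C_w0_13_v2 : Lev :=
  ⟨64, 4, sg (W (nat_lit 0x67d9d)), [], 205, 0⟩
noncomputable def C_w0_13_vs3 : List Lev :=
  []
noncomputable def C_w0_13_vs2 : List Lev :=
  C_w0_13_v2 :: C_w0_13_vs3
noncomputable def C_w0_13_vs1 : List Lev :=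
  C_w0_13_v1 :: C_w0_13_vs2
noncomputable def C_w0_13_vs : List Lev :=
  C_w0_13_v0 :: C_w0_13_vs1
noncomputable def zcj62 : List (List ℕ) :=
  [W (nat_lit 0x15d5555e),
  W (nat_lit 0x15f5655d55559)]
noncomputable def zB65 : List BG :=
  [⟨[364], [([344], [349]), ([346], [350]), ([348], [345])],
  [([⟨[], [], 6, []⟩], []),
   ([⟨[], [350], 2, W (nat_lit 0x15b5555e)⟩,
    ⟨[340], W (nat_lit 0x5595f), 5, W (nat_lit 0x57d56)⟩,
    ⟨[341], W (nat_lit 0x56957), 3, W (nat_lit 0x1595555e)⟩,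
    ⟨[342], [344], 9, W (nat_lit 0x57d5e5595a)⟩,
    ⟨W (nat_lit 0x55555), W (nat_lit 0x55959), 7, W (nat_lit 0x15f5555a)⟩,
    ⟨W (nat_lit 0x55557), W (nat_lit 0x15555d59), 1, W (nat_lit 0x5655955956)⟩], W (nat_lit 0x80300801)),
   ([⟨[], [346], 10, W (nat_lit 0x57d5a5595a)⟩,
    ⟨[340], W (nat_lit 0x5555b), 2, W (nat_lit 0x57d5e)⟩,
    ⟨[341], [340], 1, [344]⟩,
    ⟨W (nat_lit 0x55555), [340], 7, W (nat_lit 0x15f5655d)⟩], W (nat_lit 0x40100c01)),
   ([⟨[], W (nat_lit 0x56556), 5, W (nat_lit 0x57d56)⟩,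
    ⟨[340], W (nat_lit 0x56957), 1, W (nat_lit 0x57556)⟩,
    ⟨W (nat_lit 0x55557), W (nat_lit 0x15555555), 3, W (nat_lit 0x15f5655d5595d)⟩,
    ⟨W (nat_lit 0x55956), [340], 4, W (nat_lit 0x15b5595d)⟩], W (nat_lit 0x40100c01)),
   ([⟨[], [], 0, []⟩,
    ⟨[340], [], 5, []⟩,
    ⟨W (nat_lit 0x55555), W (nat_lit 0x55956), 6, W (nat_lit 0x15e55555)⟩,
    ⟨W (nat_lit 0x55956), W (nat_lit 0x55956), 4, W (nat_lit 0x5655d55555)⟩,
    ⟨W (nat_lit 0x15557955), [341], 9, W (nat_lit 0x55555)⟩], W (nat_lit 0x40100801)),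
   ([⟨[], W (nat_lit 0x5595e), 1, W (nat_lit 0x5695557955)⟩,
    ⟨[340], W (nat_lit 0x1555555a), 2, W (nat_lit 0x15d55555)⟩,
    ⟨[341], W (nat_lit 0x5555a), 6, W (nat_lit 0x57956)⟩,
    ⟨W (nat_lit 0x55555), W (nat_lit 0x1555555b), 5, W (nat_lit 0x57d5e)⟩], W (nat_lit 0x40100c01)),
   ([⟨[], [340], 9, []⟩,
    ⟨[340], W (nat_lit 0x5595a), 2, []⟩,
    ⟨W (nat_lit 0x55555), W (nat_lit 0x55555), 6, W (nat_lit 0x15a55555)⟩,
    ⟨W (nat_lit 0x55956), W (nat_lit 0x56957), 10, W (nat_lit 0x56d56)⟩,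
    ⟨W (nat_lit 0x15557955), [], 13, []⟩], W (nat_lit 0x40100801)),
   ([⟨[], [346], 1, W (nat_lit 0x56d57)⟩,
    ⟨[340], [346], 3, W (nat_lit 0x57d56)⟩,
    ⟨[341], [346], 8, W (nat_lit 0x15f56555)⟩,
    ⟨W (nat_lit 0x55555), W (nat_lit 0x56957), 7, W (nat_lit 0x57d5a5595d)⟩], W (nat_lit 0x40100c01)),
   ([⟨[], [340], 3, W (nat_lit 0x15957555)⟩,
    ⟨[342], W (nat_lit 0x55555), 4, []⟩,
    ⟨W (nat_lit 0x55557), W (nat_lit 0x56957), 9, W (nat_lit 0x15f5655955555)⟩,
    ⟨W (nat_lit 0x55957), [], 11, W (nat_lit 0x15955956)⟩,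
    ⟨W (nat_lit 0x56555), W (nat_lit 0x56555), 8, W (nat_lit 0x15955555)⟩], W (nat_lit 0x40100801)),
   ([⟨[], W (nat_lit 0x55d5f), 1, W (nat_lit 0x57d57)⟩,
    ⟨[340], [], 4, W (nat_lit 0x56559)⟩,
    ⟨[341], W (nat_lit 0x55957), 8, [344]⟩,
    ⟨W (nat_lit 0x56957), W (nat_lit 0x57955), 10, W (nat_lit 0x15f57955)⟩,
    ⟨W (nat_lit 0x57955), W (nat_lit 0x15557955), 6, W (nat_lit 0x15d55555)⟩], W (nat_lit 0x40100801)),
   ([⟨[], W (nat_lit 0x5655d), 7, W (nat_lit 0x57d5d55956)⟩,
    ⟨[340], [340], 10, W (nat_lit 0x15a5595a)⟩,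
    ⟨[341], W (nat_lit 0x57955), 9, W (nat_lit 0x5555a)⟩,
    ⟨W (nat_lit 0x56957), [342], 8, W (nat_lit 0x57d5d55559)⟩,
    ⟨W (nat_lit 0x57955), [], 12, W (nat_lit 0x15f56557)⟩], W (nat_lit 0x40100801)),
   ([⟨[], W (nat_lit 0x15557955), 4, []⟩], []),
   ([⟨[], W (nat_lit 0x55557), 8, W (nat_lit 0x1595755557955)⟩], []),
   ([⟨[], [341], 10, W (nat_lit 0x5655d5595d)⟩], [])]⟩]
noncomputable def zE66 : List (ℕ × List ℕ) :=
  [(336, W (nat_lit 0x57d555796d5596e5b956)),
  (338, W (nat_lit 0x57d59575565756d5555e5b555))]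
noncomputable def zus71 : List (List ℕ) :=
  [[360],
  [361],
  [362],
  [363],
  W (nat_lit 0x5a569),
  W (nat_lit 0x5a56b),
  W (nat_lit 0x5a56c)]
noncomputable def zF72 : List (List (ℕ × List ℕ)) :=
  [[(1, []),
   (5, []),
   (0, []),
   (7, []),
   (6, []),
   (2, []),
   (3, []),
   (4, [])],
  [(3, []),
   (6, []),
   (7, []),
   (5, []),
   (0, []),
   (4, []),
   (2, []),
   (1, [])]]
noncomputable def zus75 : List (List ℕ) :=
  [[356],
  [357],
  [358],
  [359],
  W (nat_lit 0x59567),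
  W (nat_lit 0x59568),
  W (nat_lit 0x59569),
  W (nat_lit 0x59d67),
  W (nat_lit 0x5956a),
  W (nat_lit 0x59d6c),
  W (nat_lit 0x59d69)]
noncomputable def zF76 : List (List (ℕ × List ℕ)) :=
  [[(1, []),
   (2, []),
   (0, []),
   (7, []),
   (9, []),
   (3, [362]),
   (4, [363]),
   (5, [363]),
   (10, [361]),
   (6, [362]),
   (11, W (nat_lit 0x5a56c)),
   (8, [362])],
  [(3, []),
   (5, []),
   (2, [360]),
   (8, []),
   (0, []),
   (10, [360]),
   (1, []),
   (7, W (nat_lit 0x5a56b)),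
   (4, []),
   (9, W (nat_lit 0x5a56c)),
   (6, [361]),
   (11, [360])]]
noncomputable def zrs79 : List (ℕ × List ℕ) :=
  [(223, W (nat_lit 0x689655a5a2)),
  (154, W (nat_lit 0x6856768566)),
  (161, W (nat_lit 0x1a1595a25a1a1)),
  (132, W (nat_lit 0x1a1599a2)),
  (9, [417]),
  (64, W (nat_lit 0x1a159da268966)),
  (29, [416]),
  (1, W (nat_lit 0x6856759da1)),
  (88, W (nat_lit 0x685a159d6c)),
  (40, W (nat_lit 0x1a25956768565)),
  (4, W (nat_lit 0x685655a1a2)),
  (2, W (nat_lit 0x6896759da2)),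
  (3, W (nat_lit 0x685a159d67685a1))]
noncomputable def Y_w0_1_v0 : Lev :=
  ⟨223, 32, sg (W (nat_lit 0x59d6559d6559d6559d65)), [[418]], 206, 1⟩
noncomputable def Y_w0_1_v1 : Lev :=
  ⟨4, 3, sg (W (nat_lit 0x68da3)), [], 207, 0⟩
noncomputable def Y_w0_1_vs2 : List Lev :=
  []
noncomputable def Y_w0_1_vs1 : List Lev :=
  Y_w0_1_v1 :: Y_w0_1_vs2
noncomputable def Y_w0_1_vs : List Lev :=
  Y_w0_1_v0 :: Y_w0_1_vs1
noncomputable def zcj81 : List (List ℕ) :=
  [W (nat_lit 0x16a59d6c)]
noncomputable def Y_w0_2_v0 : Lev :=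
  ⟨154, 32, sg (W (nat_lit 0x16559d6559d6559d6559d65)), [[420]], 207, 1⟩
noncomputable def Y_w0_2_v1 : Lev :=
  ⟨4, 3, sg (W (nat_lit 0x695a5)), [], 208, 0⟩
noncomputable def Y_w0_2_vs2 : List Lev :=
  []
noncomputable def Y_w0_2_vs1 : List Lev :=
  Y_w0_2_v1 :: Y_w0_2_vs2
noncomputable def Y_w0_2_vs : List Lev :=
  Y_w0_2_v0 :: Y_w0_2_vs1
noncomputable def zcj85 : List (List ℕ) :=
  [W (nat_lit 0x16a59569)]
noncomputable def Y_w0_3_v0 : Lev :=
  ⟨161, 32, sg (W (nat_lit 0x59d6559d6559d6559d65)), [[422]], 208, 1⟩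
noncomputable def Y_w0_3_v1 : Lev :=
  ⟨4, 3, sg (W (nat_lit 0x69da7)), [], 209, 0⟩
noncomputable def Y_w0_3_vs2 : List Lev :=
  []
noncomputable def Y_w0_3_vs1 : List Lev :=
  Y_w0_3_v1 :: Y_w0_3_vs2
noncomputable def Y_w0_3_vs : List Lev :=
  Y_w0_3_v0 :: Y_w0_3_vs1
noncomputable def zcj89 : List (List ℕ) :=
  [W (nat_lit 0x5a56959d69)]
noncomputable def Y_w0_4_v0 : Lev :=
  ⟨132, 32, sg (W (nat_lit 0x59d6559d6559d6559d6559d65)), [[424]], 209, 1⟩
noncomputable def Y_w0_4_v1 : Lev :=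
  ⟨4, 3, sg (W (nat_lit 0x6a5a9)), [], 210, 0⟩
noncomputable def Y_w0_4_vs2 : List Lev :=
  []
noncomputable def Y_w0_4_vs1 : List Lev :=
  Y_w0_4_v1 :: Y_w0_4_vs2
noncomputable def Y_w0_4_vs : List Lev :=
  Y_w0_4_v0 :: Y_w0_4_vs1
noncomputable def zcj93 : List (List ℕ) :=
  [[356]]
noncomputable def Y_w0_5_v0 : Lev :=
  ⟨9, 12, sg (W (nat_lit 0x16559d6559d6759565)), [[426], [428]], 210, 2⟩
noncomputable def Y_w0_5_v1 : Lev :=
  ⟨12, 8, sg (W (nat_lit 0x6adab6b5ab)), [], 212, 0⟩
noncomputable def Y_w0_5_vs2 : List Lev :=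
  []
noncomputable def Y_w0_5_vs1 : List Lev :=
  Y_w0_5_v1 :: Y_w0_5_vs2
noncomputable def Y_w0_5_vs : List Lev :=
  Y_w0_5_v0 :: Y_w0_5_vs1
noncomputable def zcj97 : List (List ℕ) :=
  [[363],
  [360]]
noncomputable def Y_w0_6_v0 : Lev :=
  ⟨64, 48, sg (W (nat_lit 0x5956559d6559d6559d6559d65)), [[430]], 212, 1⟩
noncomputable def Y_w0_6_v1 : Lev :=
  ⟨4, 2, sg [430], [], 213, 0⟩
noncomputable def Y_w0_6_vs2 : List Lev :=
  []
noncomputable def Y_w0_6_vs1 : List Lev :=
  Y_w0_6_v1 :: Y_w0_6_vs2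
noncomputable def Y_w0_6_vs : List Lev :=
  Y_w0_6_v0 :: Y_w0_6_vs1
noncomputable def zcj101 : List (List ℕ) :=
  [W (nat_lit 0x5a56c59d67)]
noncomputable def Y_w0_7_v0 : Lev :=
  ⟨29, 12, sg (W (nat_lit 0x16559d6559d6759565)), [[432], [434]], 213, 2⟩
noncomputable def Y_w0_7_v1 : Lev :=
  ⟨12, 8, sg (W (nat_lit 0x6c5b16cdb1)), [], 215, 0⟩
noncomputable def Y_w0_7_vs2 : List Lev :=
  []
noncomputable def Y_w0_7_vs1 : List Lev :=
  Y_w0_7_v1 :: Y_w0_7_vs2
noncomputable def Y_w0_7_vs : List Lev :=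
  Y_w0_7_v0 :: Y_w0_7_vs1
noncomputable def zcj105 : List (List ℕ) :=
  [[363],
  [361]]
noncomputable def Y_w0_8_v0 : Lev :=
  ⟨1, 1, sg [], [[356], [358]], 215, 0⟩
noncomputable def Y_w0_8_v1 : Lev :=
  ⟨56, 48, sg (W (nat_lit 0x1675956559d6559d6559d65)), [[436]], 215, 1⟩
noncomputable def Y_w0_8_v2 : Lev :=
  ⟨4, 2, sg [436], [], 216, 0⟩
noncomputable def Y_w0_8_vs3 : List Lev :=
  []
noncomputable def Y_w0_8_vs2 : List Lev :=
  Y_w0_8_v2 :: Y_w0_8_vs3
noncomputable def Y_w0_8_vs1 : List Lev :=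
  Y_w0_8_v1 :: Y_w0_8_vs2
noncomputable def Y_w0_8_vs : List Lev :=
  Y_w0_8_v0 :: Y_w0_8_vs1
noncomputable def zcj109 : List (List ℕ) :=
  [[357],
  W (nat_lit 0x16b59569)]
noncomputable def Y_w0_9_v0 : Lev :=
  ⟨88, 12, sg (W (nat_lit 0x5956759d6559d65)), [[438], [440]], 216, 2⟩
noncomputable def Y_w0_9_v1 : Lev :=
  ⟨4, 8, sg (W (nat_lit 0x6ddb76e5b7)), [], 218, 0⟩
noncomputable def Y_w0_9_vs2 : List Lev :=
  []
noncomputable def Y_w0_9_vs1 : List Lev :=
  Y_w0_9_v1 :: Y_w0_9_vs2
noncomputable def Y_w0_9_vs : List Lev :=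
  Y_w0_9_v0 :: Y_w0_9_vs1
noncomputable def zcj113 : List (List ℕ) :=
  [[362],
  W (nat_lit 0x5a56b)]
noncomputable def Y_w0_10_v0 : Lev :=
  ⟨40, 12, sg (W (nat_lit 0x5956759d6559d65)), [[442], [444]], 218, 2⟩
noncomputable def Y_w0_10_v1 : Lev :=
  ⟨4, 8, sg (W (nat_lit 0x6edbb6f5bb)), [], 220, 0⟩
noncomputable def Y_w0_10_vs2 : List Lev :=
  []
noncomputable def Y_w0_10_vs1 : List Lev :=
  Y_w0_10_v1 :: Y_w0_10_vs2
noncomputable def Y_w0_10_vs : List Lev :=
  Y_w0_10_v0 :: Y_w0_10_vs1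
noncomputable def zcj117 : List (List ℕ) :=
  [[361],
  W (nat_lit 0x5a56c)]
noncomputable def Y_v0 : Lev :=
  ⟨0, 240, sg (W (nat_lit 0x16158d6158d6158d6158d6158d6158d6158d61)), [[356], [358]], 175, 2⟩
noncomputable def Y_v1 : Lev :=
  ⟨4, 12, sg (W (nat_lit 0x16559d6559d6759565)), [[360], [362]], 177, 2⟩
noncomputable def Y_v2 : Lev :=
  ⟨12, 8, sg (W (nat_lit 0x5a5695ad69)), [], 179, 0⟩
noncomputable def Y_v3 : Lev :=
  ⟨20, 1, sg [], [], 179, 0⟩
noncomputable def Y_vs4 : List Lev :=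
  []
noncomputable def Y_vs3 : List Lev :=
  Y_v3 :: Y_vs4
noncomputable def Y_vs2 : List Lev :=
  Y_v2 :: Y_vs3
noncomputable def Y_vs1 : List Lev :=
  Y_v1 :: Y_vs2
noncomputable def Y_vs : List Lev :=
  Y_v0 :: Y_vs1
noncomputable def zcj121 : List (List ℕ) :=
  [[361],
  W (nat_lit 0x5a56b)]
noncomputable def Y_w0_12_v0 : Lev :=
  ⟨2, 1, sg [], [[356], [358]], 220, 0⟩
noncomputable def Y_w0_12_v1 : Lev :=
  ⟨56, 48, sg (W (nat_lit 0x1675956559d6559d6559d65)), [[436]], 215, 1⟩
noncomputable def Y_w0_12_v2 : Lev :=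
  ⟨4, 2, sg [436], [], 216, 0⟩
noncomputable def Y_w0_12_vs3 : List Lev :=
  []
noncomputable def Y_w0_12_vs2 : List Lev :=
  Y_w0_12_v2 :: Y_w0_12_vs3
noncomputable def Y_w0_12_vs1 : List Lev :=
  Y_w0_12_v1 :: Y_w0_12_vs2
noncomputable def Y_w0_12_vs : List Lev :=
  Y_w0_12_v0 :: Y_w0_12_vs1
noncomputable def zcj125 : List (List ℕ) :=
  [[357],
  W (nat_lit 0x16b59569)]
noncomputable def Y_w0_13_v0 : Lev :=
  ⟨3, 1, sg [], [[356], [358]], 220, 0⟩
noncomputable def Y_w0_13_v1 : Lev :=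
  ⟨56, 48, sg (W (nat_lit 0x1675956559d6559d6559d65)), [[436]], 215, 1⟩
noncomputable def Y_w0_13_v2 : Lev :=
  ⟨4, 2, sg [436], [], 216, 0⟩
noncomputable def Y_w0_13_vs3 : List Lev :=
  []
noncomputable def Y_w0_13_vs2 : List Lev :=
  Y_w0_13_v2 :: Y_w0_13_vs3
noncomputable def Y_w0_13_vs1 : List Lev :=
  Y_w0_13_v1 :: Y_w0_13_vs2
noncomputable def Y_w0_13_vs : List Lev :=
  Y_w0_13_v0 :: Y_w0_13_vs1
noncomputable def zcj129 : List (List ℕ) :=
  [W (nat_lit 0x1695a565),
  [358]]
noncomputable def zB132 : List BG :=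
  [⟨[416], [([426], [363]), ([428], [360])],
  [([⟨[], [], 7, []⟩], []),
   ([⟨[], W (nat_lit 0x59569), 5, []⟩,
    ⟨[356], W (nat_lit 0x5956a), 3, W (nat_lit 0x1695a567)⟩,
    ⟨[357], W (nat_lit 0x1655b167), 2, W (nat_lit 0x5b166)⟩,
    ⟨[359], W (nat_lit 0x1665b165), 6, W (nat_lit 0x5a967)⟩], W (nat_lit 0x40100801)),
   ([⟨[], W (nat_lit 0x59d69), 4, W (nat_lit 0x5a56c59568)⟩,
    ⟨[356], W (nat_lit 0x59567), 6, W (nat_lit 0x5a56c59d67)⟩,
    ⟨[359], W (nat_lit 0x59569), 11, W (nat_lit 0x5a968)⟩,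
    ⟨W (nat_lit 0x59967), W (nat_lit 0x5996b), 1, W (nat_lit 0x16c59d69)⟩], W (nat_lit 0x40100801)),
   ([⟨[], W (nat_lit 0x5a16c), 4, W (nat_lit 0x16a59d69)⟩,
    ⟨[356], W (nat_lit 0x59968), 2, W (nat_lit 0x16a59567)⟩,
    ⟨[357], W (nat_lit 0x16659d6c), 6, W (nat_lit 0x1695ad68)⟩,
    ⟨W (nat_lit 0x59567), [362], 10, W (nat_lit 0x16a59569)⟩], W (nat_lit 0x40100801)),
   ([⟨[], [357], 7, []⟩,
    ⟨[356], [361], 6, W (nat_lit 0x1695b166)⟩,
    ⟨[358], W (nat_lit 0x5ad68), 1, W (nat_lit 0x5a56959567)⟩,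
    ⟨[359], [362], 3, W (nat_lit 0x16a59d69)⟩], W (nat_lit 0x40100801)),
   ([⟨[], [], 0, []⟩,
    ⟨[356], W (nat_lit 0x59d67), 4, W (nat_lit 0x59d67)⟩,
    ⟨W (nat_lit 0x59567), [357], 10, []⟩,
    ⟨W (nat_lit 0x59568), W (nat_lit 0x59d67), 11, W (nat_lit 0x16959d67)⟩,
    ⟨W (nat_lit 0x59d67), [358], 9, W (nat_lit 0x5a56959567)⟩], W (nat_lit 0x40100801)),
   ([⟨[], [], 1, W (nat_lit 0x5a56c)⟩,
    ⟨[356], [363], 4, [360]⟩,
    ⟨[357], W (nat_lit 0x59969), 6, W (nat_lit 0x5a56c59568)⟩,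
    ⟨[358], [363], 9, W (nat_lit 0x59569)⟩,
    ⟨W (nat_lit 0x59568), W (nat_lit 0x5b165), 3, W (nat_lit 0x5a56b59567)⟩,
    ⟨W (nat_lit 0x59967), [359], 2, W (nat_lit 0x59569)⟩], W (nat_lit 0x40100801)),
   ([⟨[], W (nat_lit 0x5ad68), 9, []⟩,
    ⟨[356], W (nat_lit 0x5956a), 2, [362]⟩,
    ⟨W (nat_lit 0x59567), W (nat_lit 0x5ad68), 10, [363]⟩,
    ⟨W (nat_lit 0x59568), W (nat_lit 0x59567), 5, W (nat_lit 0x16a59567)⟩,
    ⟨W (nat_lit 0x59d67), [], 8, []⟩], W (nat_lit 0x40100801)),
   ([⟨[], W (nat_lit 0x59567), 11, W (nat_lit 0x16c59567)⟩], []),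
   ([⟨[], [358], 6, W (nat_lit 0x1695ad67)⟩,
    ⟨[357], W (nat_lit 0x59568), 11, W (nat_lit 0x5a56b59568)⟩,
    ⟨[358], [359], 10, W (nat_lit 0x16c59d67)⟩,
    ⟨[359], W (nat_lit 0x59d67), 7, W (nat_lit 0x16b59567)⟩,
    ⟨W (nat_lit 0x5ad68), [], 5, W (nat_lit 0x5a569)⟩], W (nat_lit 0x40100801)),
   ([⟨[], W (nat_lit 0x16659d6a), 1, W (nat_lit 0x5a967)⟩,
    ⟨[357], [], 11, W (nat_lit 0x16a59568)⟩,
    ⟨[358], [357], 9, W (nat_lit 0x5a56b59568)⟩,
    ⟨[359], [], 12, W (nat_lit 0x59567)⟩,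
    ⟨W (nat_lit 0x5ad68), W (nat_lit 0x59567), 7, W (nat_lit 0x5a56959d67)⟩], W (nat_lit 0x40100801)),
   ([⟨[], W (nat_lit 0x59568), 7, []⟩,
    ⟨[356], W (nat_lit 0x59967), 3, W (nat_lit 0x5a56c)⟩,
    ⟨W (nat_lit 0x59567), [359], 9, W (nat_lit 0x16c59d67)⟩,
    ⟨W (nat_lit 0x59568), [], 13, W (nat_lit 0x59567)⟩,
    ⟨W (nat_lit 0x59d67), W (nat_lit 0x59568), 5, W (nat_lit 0x5a56b)⟩], W (nat_lit 0x40100801)),
   ([⟨[], W (nat_lit 0x59d67), 5, []⟩], []),
   ([⟨[], [358], 10, W (nat_lit 0x16c59567)⟩], [])]⟩]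
noncomputable def zE133 : List (ℕ × List ℕ) :=
  [(352, W (nat_lit 0x5a568689655a5a2)),
  (354, W (nat_lit 0x1695a56759da1595a25a1a1))]
noncomputable def ce_F : List (List ℕ × ℕ × ℕ) :=
  []
noncomputable def ceG_v0 : Lev :=
  ⟨0, 240, sg (W (nat_lit 0x10040100c010040100c0100403004030040100c0100c01)), [[6], [8]], 0, 2⟩
noncomputable def ceG_v1 : Lev :=
  ⟨1, 126, sg (W (nat_lit 0x701c070240701c0901c07024070240701c0901c0901c07)), [[86], [88]], 40, 2⟩
noncomputable def ceG_v2 : Lev :=
  ⟨112, 32, sg (W (nat_lit 0x15c571645715c5915c5716457)), [[448], [450]], 221, 2⟩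
noncomputable def ceG_v3 : Lev :=
  ⟨154, 20, sg (W (nat_lit 0x1c3705c3705c170dc1)), [[452], [454], [456]], 223, 3⟩
noncomputable def ceG_v4 : Lev :=
  ⟨57, 6, sg (W (nat_lit 0x1c7725c7)), [[452]], 226, 0⟩
noncomputable def ceG_v5 : Lev :=
  ⟨8, 3, sg (W (nat_lit 0x715c5)), [], 226, 0⟩
noncomputable def ceG_vs6 : List Lev :=
  []
noncomputable def ceG_vs5 : List Lev :=
  ceG_v5 :: ceG_vs6
noncomputable def ceG_vs4 : List Lev :=
  ceG_v4 :: ceG_vs5
noncomputable def ceG_vs3 : List Lev :=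
  ceG_v3 :: ceG_vs4
noncomputable def ceG_vs2 : List Lev :=
  ceG_v2 :: ceG_vs3
noncomputable def ceG_vs1 : List Lev :=
  ceG_v1 :: ceG_vs2
noncomputable def ceG_vs : List Lev :=
  ceG_v0 :: ceG_vs1
noncomputable def ce_x : List (ℕ × List ℕ) :=
  [((nat_lit 0), [(nat_lit 0xffffffffffffffffffffffffffffffffffffffffffffffffffffffffffff)]),
  ((nat_lit 0), []),
  ((nat_lit 0), [(nat_lit 0x411414411441411414414114411414410000000000000000000000000000)]),
  ((nat_lit 0), []),
  ((nat_lit 0), [(nat_lit 0x600000060600000000000000)]),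
  ((nat_lit 0), [(nat_lit 0x40000000)])]
noncomputable def ce_G : Gl :=
  ⟨CL.O8S.M.P, ns, (app D []), (diag [[242]]), [], [], memM (app D []) [[336], [338]], true⟩
noncomputable def ce_s : St :=
  ⟨(mkS CL.O8S.M.P.n ceG_vs ce_x), [[0], [2]], [], mapL Prod.snd ce_F, memM (app D []) [[336], [338]], []⟩
noncomputable def zt141 : ST :=
  (.orb 0 (.br 0 [[446], W (nat_lit 0x15e5555e5455156552)] (W (nat_lit 0x40100c0100c0100c0100c0100c0100c01)) [(0, [])] (.cons (.img [1] 0 (.br 0 [] [] [(1, [])] (.cons (.orb 0 (.br 0 [W (nat_lit 0x56d55), W (nat_lit 0x15f5655d)] (W (nat_lit 0x3004030040100c01004030040100401)) [(112, [])] (.cons (.img [1] 0 (.br 0 [] [] [(154, [])] (.cons (.orb 0 (.br 0 [W (nat_lit 0x15f5655d), W (nat_lit 0x565595555a)] (W (nat_lit 0x100c01)) [(57, [])] (.cons (.orb 0 (.img [0] 0 (.br 0 [] [] [(8, [])] (.cons .fnd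
 .nil))))
 .nil)))
 .nil)))
 .nil)))
 .nil)))
 .nil)))
noncomputable def zcj145 : List (List (List ℕ)) :=
  [[W (nat_lit 0x599615b161), W (nat_lit 0x16c5a16459d6b)],
  [W (nat_lit 0x1695a5675a5615a162), W (nat_lit 0x5a569595635ad65)]]
noncomputable def zts153 : List (List ℕ) :=
  [W (nat_lit 0x1d374dcf745cf731d1),
  W (nat_lit 0x73dd473dcb739d1)]

theorem zb2 : bnd (pcB D [] 2 zt0 zcj1) (leB (app D []) [[350]] ([350] :: [])) = true := by decide +kernel
theorem zr3 : chk (pcR [] [350] 2 zt0 zcj1) = true := by decide +kernel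
theorem zb6 : schB D [[344], [346], [348]] [[350]] zus4 zF5 8 = true := by decide +kernel
theorem zr7 : chk (schR [[344], [346], [348]] zus4 zF5) = true := by decide +kernel
theorem zb10 : schB D [[340], [342]] [[344], [346], [348]] zus8 zF9 12 = true := by decide +kernel
theorem zr11 : chk (schR [[340], [342]] zus8 zF9) = true := by decide +kernel
theorem zc13 : CL.O8S.M.P.chainB ns D C_w0_1_vs [[340], [342]] = true := by decide +kernel
theorem zb15 : wdB D [[340], [342]] C_w0_1_v0.nx zcj14 = true := by decide +kernel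
theorem zr16 : chk (wdR C_w0_1_v0.nx (W (nat_lit 0x16d5596e5b956)) zcj14) = true := by decide +kernel
theorem zc17 : CL.O8S.M.P.chainB ns D C_w0_2_vs [[340], [342]] = true := by decide +kernel
theorem zb19 : wdB D [[340], [342]] C_w0_2_v0.nx zcj18 = true := by decide +kernel
theorem zr20 : chk (wdR C_w0_2_v0.nx (W (nat_lit 0x16d5555e5b555)) zcj18) = true := by decide +kernel
theorem zc21 : CL.O8S.M.P.chainB ns D C_w0_3_vs [[340], [342]] = true := by decide +kernel
theorem zb23 : wdB D [[340], [342]] C_w0_3_v0.nx zcj22 = true := by decide +kernel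
theorem zr24 : chk (wdR C_w0_3_v0.nx (W (nat_lit 0x16d5596e55d6e)) zcj22) = true := by decide +kernel
theorem zc25 : CL.O8S.M.P.chainB ns D C_vs [[336], [338]] = true := by decide +kernel
theorem zb27 : wdB D [[340], [342]] C_v1.nx zcj26 = true := by decide +kernel
theorem zr28 : chk (wdR C_v1.nx [365] zcj26) = true := by decide +kernel
theorem zc29 : CL.O8S.M.P.chainB ns D C_w0_5_vs [[340], [342]] = true := by decide +kernel
theorem zb31 : wdB D [[340], [342]] C_w0_5_v0.nx zcj30 = true := by decide +kernel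
theorem zr32 : chk (wdR C_w0_5_v0.nx (W (nat_lit 0x16e5556d)) zcj30) = true := by decide +kernel
theorem zc33 : CL.O8S.M.P.chainB ns D C_w0_6_vs [[340], [342]] = true := by decide +kernel
theorem zb35 : wdB D [[340], [342]] C_w0_6_v0.nx zcj34 = true := by decide +kernel
theorem zr36 : chk (wdR C_w0_6_v0.nx [364] zcj34) = true := by decide +kernel
theorem zc37 : CL.O8S.M.P.chainB ns D C_w0_7_vs [[340], [342]] = true := by decide +kernel
theorem zb39 : wdB D [[340], [342]] C_w0_7_v0.nx zcj38 = true := by decide +kernel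
theorem zr40 : chk (wdR C_w0_7_v0.nx (W (nat_lit 0x5b56d55d6d5556e)) zcj38) = true := by decide +kernel
theorem zc41 : CL.O8S.M.P.chainB ns D C_w0_8_vs [[340], [342]] = true := by decide +kernel
theorem zb43 : wdB D [[340], [342]] C_w0_8_v0.nx zcj42 = true := by decide +kernel
theorem zr44 : chk (wdR C_w0_8_v0.nx (W (nat_lit 0x16e555555b957)) zcj42) = true := by decide +kernel
theorem zc45 : CL.O8S.M.P.chainB ns D C_w0_9_vs [[340], [342]] = true := by decide +kernel
theorem zb47 : wdB D [[340], [342]] C_w0_9_v0.nx zcj46 = true := by decide +kernel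
theorem zr48 : chk (wdR C_w0_9_v0.nx (W (nat_lit 0x16d5b556)) zcj46) = true := by decide +kernel
theorem zc49 : CL.O8S.M.P.chainB ns D C_w0_10_vs [[340], [342]] = true := by decide +kernel
theorem zb51 : wdB D [[340], [342]] C_w0_10_v0.nx zcj50 = true := by decide +kernel
theorem zr52 : chk (wdR C_w0_10_v0.nx (W (nat_lit 0x16d55d6d55d6d)) zcj50) = true := by decide +kernel
theorem zc53 : CL.O8S.M.P.chainB ns D C_w0_11_vs [[340], [342]] = true := by decide +kernel
theorem zb55 : wdB D [[340], [342]] C_w0_11_v0.nx zcj54 = true := by decide +kernel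
theorem zr56 : chk (wdR C_w0_11_v0.nx (W (nat_lit 0x16e5555e5556e)) zcj54) = true := by decide +kernel
theorem zc57 : CL.O8S.M.P.chainB ns D C_w0_12_vs [[340], [342]] = true := by decide +kernel
theorem zb59 : wdB D [[340], [342]] C_w0_12_v0.nx zcj58 = true := by decide +kernel
theorem zr60 : chk (wdR C_w0_12_v0.nx (W (nat_lit 0x16d559565b5565596d)) zcj58) = true := by decide +kernel
theorem zc61 : CL.O8S.M.P.chainB ns D C_w0_13_vs [[340], [342]] = true := by decide +kernel
theorem zb63 : wdB D [[340], [342]] C_w0_13_v0.nx zcj62 = true := by decide +kernel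
theorem zr64 : chk (wdR C_w0_13_v0.nx (W (nat_lit 0x16d5555e5556d)) zcj62) = true := by decide +kernel
theorem zb67 : bB CL.O8S.M.P.n CL.O8S.M.P.N ns (app D zE66) [[336], [338]] [[340], [342]] 0 zrs12 zB65 = true := by decide +kernel
theorem zb68 : CL.O8S.M.P.invSz ns [[336], [338]] 0 (orbM CL.O8S.M.P.N ns C_v0) 240 = true := by decide +kernel
theorem zr69 : chk (bR 0 zrs12 zB65) = true := by decide +kernel
theorem zr70 : chk (defRels zE66) = true := by decide +kernel
theorem zb73 : schB D [[360], [362]] [] zus71 zF72 8 = true := by decide +kernel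
theorem zr74 : chk (schR [[360], [362]] zus71 zF72) = true := by decide +kernel
theorem zb77 : schB D [[356], [358]] [[360], [362]] zus75 zF76 12 = true := by decide +kernel
theorem zr78 : chk (schR [[356], [358]] zus75 zF76) = true := by decide +kernel
theorem zc80 : CL.O8S.M.P.chainB ns D Y_w0_1_vs [[356], [358]] = true := by decide +kernel
theorem zb82 : wdB D [[356], [358]] Y_w0_1_v0.nx zcj81 = true := by decide +kernel
theorem zr83 : chk (wdR Y_w0_1_v0.nx (W (nat_lit 0x689655a5a2)) zcj81) = true := by decide +kernel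
theorem zc84 : CL.O8S.M.P.chainB ns D Y_w0_2_vs [[356], [358]] = true := by decide +kernel
theorem zb86 : wdB D [[356], [358]] Y_w0_2_v0.nx zcj85 = true := by decide +kernel
theorem zr87 : chk (wdR Y_w0_2_v0.nx (W (nat_lit 0x6856768566)) zcj85) = true := by decide +kernel
theorem zc88 : CL.O8S.M.P.chainB ns D Y_w0_3_vs [[356], [358]] = true := by decide +kernel
theorem zb90 : wdB D [[356], [358]] Y_w0_3_v0.nx zcj89 = true := by decide +kernel
theorem zr91 : chk (wdR Y_w0_3_v0.nx (W (nat_lit 0x1a1595a25a1a1)) zcj89) = true := by decide +kernel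
theorem zc92 : CL.O8S.M.P.chainB ns D Y_w0_4_vs [[356], [358]] = true := by decide +kernel
theorem zb94 : wdB D [[356], [358]] Y_w0_4_v0.nx zcj93 = true := by decide +kernel
theorem zr95 : chk (wdR Y_w0_4_v0.nx (W (nat_lit 0x1a1599a2)) zcj93) = true := by decide +kernel
theorem zc96 : CL.O8S.M.P.chainB ns D Y_w0_5_vs [[356], [358]] = true := by decide +kernel
theorem zb98 : wdB D [[356], [358]] Y_w0_5_v0.nx zcj97 = true := by decide +kernel
theorem zr99 : chk (wdR Y_w0_5_v0.nx [417] zcj97) = true := by decide +kernel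
theorem zc100 : CL.O8S.M.P.chainB ns D Y_w0_6_vs [[356], [358]] = true := by decide +kernel
theorem zb102 : wdB D [[356], [358]] Y_w0_6_v0.nx zcj101 = true := by decide +kernel
theorem zr103 : chk (wdR Y_w0_6_v0.nx (W (nat_lit 0x1a159da268966)) zcj101) = true := by decide +kernel
theorem zc104 : CL.O8S.M.P.chainB ns D Y_w0_7_vs [[356], [358]] = true := by decide +kernel
theorem zb106 : wdB D [[356], [358]] Y_w0_7_v0.nx zcj105 = true := by decide +kernel
theorem zr107 : chk (wdR Y_w0_7_v0.nx [416] zcj105) = true := by decide +kernel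
theorem zc108 : CL.O8S.M.P.chainB ns D Y_w0_8_vs [[356], [358]] = true := by decide +kernel
theorem zb110 : wdB D [[356], [358]] Y_w0_8_v0.nx zcj109 = true := by decide +kernel
theorem zr111 : chk (wdR Y_w0_8_v0.nx (W (nat_lit 0x6856759da1)) zcj109) = true := by decide +kernel
theorem zc112 : CL.O8S.M.P.chainB ns D Y_w0_9_vs [[356], [358]] = true := by decide +kernel
theorem zb114 : wdB D [[356], [358]] Y_w0_9_v0.nx zcj113 = true := by decide +kernel
theorem zr115 : chk (wdR Y_w0_9_v0.nx (W (nat_lit 0x685a159d6c)) zcj113) = true := by decide +kernel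
theorem zc116 : CL.O8S.M.P.chainB ns D Y_w0_10_vs [[356], [358]] = true := by decide +kernel
theorem zb118 : wdB D [[356], [358]] Y_w0_10_v0.nx zcj117 = true := by decide +kernel
theorem zr119 : chk (wdR Y_w0_10_v0.nx (W (nat_lit 0x1a25956768565)) zcj117) = true := by decide +kernel
theorem zc120 : CL.O8S.M.P.chainB ns D Y_vs [[352], [354]] = true := by decide +kernel
theorem zb122 : wdB D [[356], [358]] Y_v1.nx zcj121 = true := by decide +kernel
theorem zr123 : chk (wdR Y_v1.nx (W (nat_lit 0x685655a1a2)) zcj121) = true := by decide +kernel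
theorem zc124 : CL.O8S.M.P.chainB ns D Y_w0_12_vs [[356], [358]] = true := by decide +kernel
theorem zb126 : wdB D [[356], [358]] Y_w0_12_v0.nx zcj125 = true := by decide +kernel
theorem zr127 : chk (wdR Y_w0_12_v0.nx (W (nat_lit 0x6896759da2)) zcj125) = true := by decide +kernel
theorem zc128 : CL.O8S.M.P.chainB ns D Y_w0_13_vs [[356], [358]] = true := by decide +kernel
theorem zb130 : wdB D [[356], [358]] Y_w0_13_v0.nx zcj129 = true := by decide +kernel
theorem zr131 : chk (wdR Y_w0_13_v0.nx (W (nat_lit 0x685a159d67685a1)) zcj129) = true := by decide +kernel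
theorem zb134 : bB CL.O8S.M.P.n CL.O8S.M.P.N ns (app D zE133) [[352], [354]] [[356], [358]] 0 zrs79 zB132 = true := by decide +kernel
theorem zb135 : CL.O8S.M.P.invSz ns [[352], [354]] 0 (orbM CL.O8S.M.P.N ns Y_v0) 240 = true := by decide +kernel
theorem zr136 : chk (bR 0 zrs79 zB132) = true := by decide +kernel
theorem zr137 : chk (defRels zE133) = true := by decide +kernel
theorem zf138 : CL.O8S.M.P.fixXB ns (diag [[242]]) ce_F = true := by decide +kernel
theorem zc139 : CL.O8S.M.P.chainB ns D ceG_vs [[0], [2]] = true := by decide +kernel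
theorem zs140 : ssB CL.O8S.M.P.N ns D (mkS CL.O8S.M.P.n ceG_vs ce_x) [[0], [2]] = true := by decide +kernel
theorem zs142 : ce_G.chk zt141 ce_s none = true := by decide +kernel
theorem zr143 : chk (comR [[336], [338]] (mapL Prod.snd (diag [[242]]))) = true := by decide +kernel
theorem zm144 : leB D [[336], [338]] [[0], [2]] = true := by decide +kernel
theorem zm146 : nrmB D [[336], [338]] [[352], [354]] zcj145 = true := by decide +kernel
theorem zr147 : chk (nrmR [[336], [338]] [[352], [354]] zcj145) = true := by decide +kernel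
theorem zm148 : leB D [[352], [354]] [[336], [338]] = true := by decide +kernel
theorem zr149 : chk (zp [] (powWs 3 [[352], [354]]) []) = true := by decide +kernel
theorem zm150 : leB D [[352], [354]] [[336], [338]] = true := by decide +kernel
theorem zr151 : chk (zp [] (powWs 8 [[458], [460]]) []) = true := by decide +kernel
theorem zm152 : leB D [[458], [460]] [[352], [354]] = true := by decide +kernel
theorem zm154 : leB D zts153 [[458], [460]] = true := by decide +kernel
theorem zr155 : chk (zp [] [[352], [354]] zts153) = true := by decide +kernel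
theorem ze156 : extB CL.O8S.M.ns ns 168 ws CL.O8S.M.D = true := by decide +kernel
theorem zn157 : CL.O8S.M.P.netsB ns (mkDefs ws 168) = true := by decide +kernel

variable {G X : Type*} [Group G] [MulAction G X] {e : ℕ → X} {gs : List G}

theorem len {k} (c : Ctx CL.O8S.M.P e gs CL.O8S.M.ns CL.O8S.M.D k) : gs.length = 168 := c.len ze156

theorem ctx0 {k} (c : Ctx CL.O8S.M.P e gs CL.O8S.M.ns CL.O8S.M.D k) : Ctx CL.O8S.M.P e (ext gs ws) ns D chk0 :=
  c.ext rfl ze156 zn157

theorem ctx {k} (c : Ctx CL.O8S.M.P e gs CL.O8S.M.ns CL.O8S.M.D k) {H : Subgroup G} (hF : Faithful e CL.O8S.M.P.n H) (hH : ∀ g ∈ gs, g ∈ H) :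
    Ctx CL.O8S.M.P e (ext gs ws) ns D chk :=
  (ctx0 c).withB hF (mem_of_mem_ext hH _)

theorem C_u3 (c : Ctx CL.O8S.M.P e gs ns D chk) :
    UB (subW gs [[350]]) 2 :=
  (c.pc_step (UB.nil gs) (Rels.nil _)
    (c.rels _ zr3) zb2).le (by decide)

theorem C_u2 (c : Ctx CL.O8S.M.P e gs ns D chk) :
    UB (subW gs [[344], [346], [348]]) 16 :=
  (c.sch_step (C_u3 c)
    (c.rels _ zr7) zb6).le (by decide)

theorem C_u1 (c : Ctx CL.O8S.M.P e gs ns D chk) :
    UB (subW gs [[340], [342]]) 192 :=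
  (c.sch_step (C_u2 c)
    (c.rels _ zr11) zb10).le (by decide)

theorem C_w0_1_c : CL.O8S.M.P.chainB ns D C_w0_1_vs [[340], [342]] = true :=
  zc13

theorem C_w0_1_o : prodL C_w0_1_vs 1 = 192 := by decide +kernel

theorem C_w0_2_c : CL.O8S.M.P.chainB ns D C_w0_2_vs [[340], [342]] = true :=
  zc17

theorem C_w0_2_o : prodL C_w0_2_vs 1 = 192 := by decide +kernel

theorem C_w0_3_c : CL.O8S.M.P.chainB ns D C_w0_3_vs [[340], [342]] = true :=
  zc21

theorem C_w0_3_o : prodL C_w0_3_vs 1 = 192 := by decide +kernel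

theorem C_c : CL.O8S.M.P.chainB ns D C_vs [[336], [338]] = true :=
  zc25

theorem C_o : prodL C_vs 1 = 46080 := by decide +kernel

theorem C_w0_5_c : CL.O8S.M.P.chainB ns D C_w0_5_vs [[340], [342]] = true :=
  zc29

theorem C_w0_5_o : prodL C_w0_5_vs 1 = 192 := by decide +kernel

theorem C_w0_6_c : CL.O8S.M.P.chainB ns D C_w0_6_vs [[340], [342]] = true :=
  zc33

theorem C_w0_6_o : prodL C_w0_6_vs 1 = 192 := by decide +kernel

theorem C_w0_7_c : CL.O8S.M.P.chainB ns D C_w0_7_vs [[340], [342]] = true :=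
  zc37

theorem C_w0_7_o : prodL C_w0_7_vs 1 = 192 := by decide +kernel

theorem C_w0_8_c : CL.O8S.M.P.chainB ns D C_w0_8_vs [[340], [342]] = true :=
  zc41

theorem C_w0_8_o : prodL C_w0_8_vs 1 = 192 := by decide +kernel

theorem C_w0_9_c : CL.O8S.M.P.chainB ns D C_w0_9_vs [[340], [342]] = true :=
  zc45

theorem C_w0_9_o : prodL C_w0_9_vs 1 = 192 := by decide +kernel

theorem C_w0_10_c : CL.O8S.M.P.chainB ns D C_w0_10_vs [[340], [342]] = true :=
  zc49

theorem C_w0_10_o : prodL C_w0_10_vs 1 = 192 := by decide +kernel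

theorem C_w0_11_c : CL.O8S.M.P.chainB ns D C_w0_11_vs [[340], [342]] = true :=
  zc53

theorem C_w0_11_o : prodL C_w0_11_vs 1 = 192 := by decide +kernel

theorem C_w0_12_c : CL.O8S.M.P.chainB ns D C_w0_12_vs [[340], [342]] = true :=
  zc57

theorem C_w0_12_o : prodL C_w0_12_vs 1 = 192 := by decide +kernel

theorem C_w0_13_c : CL.O8S.M.P.chainB ns D C_w0_13_vs [[340], [342]] = true :=
  zc61

theorem C_w0_13_o : prodL C_w0_13_vs 1 = 192 := by decide +kernel

theorem C_u0w (c : Ctx CL.O8S.M.P e gs ns D chk) :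
    AllWd e gs [[340], [342]] zrs12 :=
  ⟨c.wd (v := C_w0_1_v0) (vs := C_w0_1_vs1) (C_u1 c) C_w0_1_c C_w0_1_o
      (c.rels _ zr16) zb15,
    ⟨c.wd (v := C_w0_2_v0) (vs := C_w0_2_vs1) (C_u1 c) C_w0_2_c C_w0_2_o
      (c.rels _ zr20) zb19,
    ⟨c.wd (v := C_w0_3_v0) (vs := C_w0_3_vs1) (C_u1 c) C_w0_3_c C_w0_3_o
      (c.rels _ zr24) zb23,
    ⟨c.wd (v := C_v1) (vs := C_vs2) (C_u1 c) (Par.chainB_tail C_c) (by decide +kernel)
      (c.rels _ zr28) zb27,
    ⟨c.wd (v := C_w0_5_v0) (vs := C_w0_5_vs1) (C_u1 c) C_w0_5_c C_w0_5_o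
      (c.rels _ zr32) zb31,
    ⟨c.wd (v := C_w0_6_v0) (vs := C_w0_6_vs1) (C_u1 c) C_w0_6_c C_w0_6_o
      (c.rels _ zr36) zb35,
    ⟨c.wd (v := C_w0_7_v0) (vs := C_w0_7_vs1) (C_u1 c) C_w0_7_c C_w0_7_o
      (c.rels _ zr40) zb39,
    ⟨c.wd (v := C_w0_8_v0) (vs := C_w0_8_vs1) (C_u1 c) C_w0_8_c C_w0_8_o
      (c.rels _ zr44) zb43,
    ⟨c.wd (v := C_w0_9_v0) (vs := C_w0_9_vs1) (C_u1 c) C_w0_9_c C_w0_9_o
      (c.rels _ zr48) zb47,
    ⟨c.wd (v := C_w0_10_v0) (vs := C_w0_10_vs1) (C_u1 c) C_w0_10_c C_w0_10_o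
      (c.rels _ zr52) zb51,
    ⟨c.wd (v := C_w0_11_v0) (vs := C_w0_11_vs1) (C_u1 c) C_w0_11_c C_w0_11_o
      (c.rels _ zr56) zb55,
    ⟨c.wd (v := C_w0_12_v0) (vs := C_w0_12_vs1) (C_u1 c) C_w0_12_c C_w0_12_o
      (c.rels _ zr60) zb59,
    ⟨c.wd (v := C_w0_13_v0) (vs := C_w0_13_vs1) (C_u1 c) C_w0_13_c C_w0_13_o
      (c.rels _ zr64) zb63,
    trivial⟩⟩⟩⟩⟩⟩⟩⟩⟩⟩⟩⟩⟩

theorem C_u0 (c : Ctx CL.O8S.M.P e gs ns D chk) :
    UB (subW gs [[336], [338]]) 46080 :=
  (c.b_step (C_u1 c) (C_u0w c) (c.rels _ zr70)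
    (c.rels _ zr69) zb67 zb68).le (by decide)

theorem C_ub (c : Ctx CL.O8S.M.P e gs ns D chk) :
    UB (subW gs [[336], [338]]) 46080 :=
  (C_u0 c)

theorem C_ex (c : Ctx CL.O8S.M.P e gs ns D chk) :
    Exact e CL.O8S.M.P.n CL.O8S.M.P.N gs ns 1 C_vs [[336], [338]] :=
  c.exact C_c C_o (C_ub c)

theorem C_card (c : Ctx CL.O8S.M.P e gs ns D chk) :
    Nat.card (subW gs [[336], [338]]) = 46080 :=
  (C_ex c).card.trans C_o

theorem Y_u3 (c : Ctx CL.O8S.M.P e gs ns D chk) :
    UB (subW gs []) 1 :=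
  (UB.nil gs)

theorem Y_u2 (c : Ctx CL.O8S.M.P e gs ns D chk) :
    UB (subW gs [[360], [362]]) 8 :=
  (c.sch_step (Y_u3 c)
    (c.rels _ zr74) zb73).le (by decide)

theorem Y_u1 (c : Ctx CL.O8S.M.P e gs ns D chk) :
    UB (subW gs [[356], [358]]) 96 :=
  (c.sch_step (Y_u2 c)
    (c.rels _ zr78) zb77).le (by decide)

theorem Y_w0_1_c : CL.O8S.M.P.chainB ns D Y_w0_1_vs [[356], [358]] = true :=
  zc80

theorem Y_w0_1_o : prodL Y_w0_1_vs 1 = 96 := by decide +kernel

theorem Y_w0_2_c : CL.O8S.M.P.chainB ns D Y_w0_2_vs [[356], [358]] = true :=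
  zc84

theorem Y_w0_2_o : prodL Y_w0_2_vs 1 = 96 := by decide +kernel

theorem Y_w0_3_c : CL.O8S.M.P.chainB ns D Y_w0_3_vs [[356], [358]] = true :=
  zc88

theorem Y_w0_3_o : prodL Y_w0_3_vs 1 = 96 := by decide +kernel

theorem Y_w0_4_c : CL.O8S.M.P.chainB ns D Y_w0_4_vs [[356], [358]] = true :=
  zc92

theorem Y_w0_4_o : prodL Y_w0_4_vs 1 = 96 := by decide +kernel

theorem Y_w0_5_c : CL.O8S.M.P.chainB ns D Y_w0_5_vs [[356], [358]] = true :=
  zc96

theorem Y_w0_5_o : prodL Y_w0_5_vs 1 = 96 := by decide +kernel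

theorem Y_w0_6_c : CL.O8S.M.P.chainB ns D Y_w0_6_vs [[356], [358]] = true :=
  zc100

theorem Y_w0_6_o : prodL Y_w0_6_vs 1 = 96 := by decide +kernel

theorem Y_w0_7_c : CL.O8S.M.P.chainB ns D Y_w0_7_vs [[356], [358]] = true :=
  zc104

theorem Y_w0_7_o : prodL Y_w0_7_vs 1 = 96 := by decide +kernel

theorem Y_w0_8_c : CL.O8S.M.P.chainB ns D Y_w0_8_vs [[356], [358]] = true :=
  zc108

theorem Y_w0_8_o : prodL Y_w0_8_vs 1 = 96 := by decide +kernel

theorem Y_w0_9_c : CL.O8S.M.P.chainB ns D Y_w0_9_vs [[356], [358]] = true :=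
  zc112

theorem Y_w0_9_o : prodL Y_w0_9_vs 1 = 96 := by decide +kernel

theorem Y_w0_10_c : CL.O8S.M.P.chainB ns D Y_w0_10_vs [[356], [358]] = true :=
  zc116

theorem Y_w0_10_o : prodL Y_w0_10_vs 1 = 96 := by decide +kernel

theorem Y_c : CL.O8S.M.P.chainB ns D Y_vs [[352], [354]] = true :=
  zc120

theorem Y_o : prodL Y_vs 1 = 23040 := by decide +kernel

theorem Y_w0_12_c : CL.O8S.M.P.chainB ns D Y_w0_12_vs [[356], [358]] = true :=
  zc124

theorem Y_w0_12_o : prodL Y_w0_12_vs 1 = 96 := by decide +kernel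

theorem Y_w0_13_c : CL.O8S.M.P.chainB ns D Y_w0_13_vs [[356], [358]] = true :=
  zc128

theorem Y_w0_13_o : prodL Y_w0_13_vs 1 = 96 := by decide +kernel

theorem Y_u0w (c : Ctx CL.O8S.M.P e gs ns D chk) :
    AllWd e gs [[356], [358]] zrs79 :=
  ⟨c.wd (v := Y_w0_1_v0) (vs := Y_w0_1_vs1) (Y_u1 c) Y_w0_1_c Y_w0_1_o
      (c.rels _ zr83) zb82,
    ⟨c.wd (v := Y_w0_2_v0) (vs := Y_w0_2_vs1) (Y_u1 c) Y_w0_2_c Y_w0_2_o
      (c.rels _ zr87) zb86,
    ⟨c.wd (v := Y_w0_3_v0) (vs := Y_w0_3_vs1) (Y_u1 c) Y_w0_3_c Y_w0_3_o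
      (c.rels _ zr91) zb90,
    ⟨c.wd (v := Y_w0_4_v0) (vs := Y_w0_4_vs1) (Y_u1 c) Y_w0_4_c Y_w0_4_o
      (c.rels _ zr95) zb94,
    ⟨c.wd (v := Y_w0_5_v0) (vs := Y_w0_5_vs1) (Y_u1 c) Y_w0_5_c Y_w0_5_o
      (c.rels _ zr99) zb98,
    ⟨c.wd (v := Y_w0_6_v0) (vs := Y_w0_6_vs1) (Y_u1 c) Y_w0_6_c Y_w0_6_o
      (c.rels _ zr103) zb102,
    ⟨c.wd (v := Y_w0_7_v0) (vs := Y_w0_7_vs1) (Y_u1 c) Y_w0_7_c Y_w0_7_o
      (c.rels _ zr107) zb106,
    ⟨c.wd (v := Y_w0_8_v0) (vs := Y_w0_8_vs1) (Y_u1 c) Y_w0_8_c Y_w0_8_o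
      (c.rels _ zr111) zb110,
    ⟨c.wd (v := Y_w0_9_v0) (vs := Y_w0_9_vs1) (Y_u1 c) Y_w0_9_c Y_w0_9_o
      (c.rels _ zr115) zb114,
    ⟨c.wd (v := Y_w0_10_v0) (vs := Y_w0_10_vs1) (Y_u1 c) Y_w0_10_c Y_w0_10_o
      (c.rels _ zr119) zb118,
    ⟨c.wd (v := Y_v1) (vs := Y_vs2) (Y_u1 c) (Par.chainB_tail Y_c) (by decide +kernel)
      (c.rels _ zr123) zb122,
    ⟨c.wd (v := Y_w0_12_v0) (vs := Y_w0_12_vs1) (Y_u1 c) Y_w0_12_c Y_w0_12_o
      (c.rels _ zr127) zb126,
    ⟨c.wd (v := Y_w0_13_v0) (vs := Y_w0_13_vs1) (Y_u1 c) Y_w0_13_c Y_w0_13_o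
      (c.rels _ zr131) zb130,
    trivial⟩⟩⟩⟩⟩⟩⟩⟩⟩⟩⟩⟩⟩

theorem Y_u0 (c : Ctx CL.O8S.M.P e gs ns D chk) :
    UB (subW gs [[352], [354]]) 23040 :=
  (c.b_step (Y_u1 c) (Y_u0w c) (c.rels _ zr137)
    (c.rels _ zr136) zb134 zb135).le (by decide)

theorem Y_ub (c : Ctx CL.O8S.M.P e gs ns D chk) :
    UB (subW gs [[352], [354]]) 23040 :=
  (Y_u0 c)

theorem Y_ex (c : Ctx CL.O8S.M.P e gs ns D chk) :
    Exact e CL.O8S.M.P.n CL.O8S.M.P.N gs ns 1 Y_vs [[352], [354]] :=
  c.exact Y_c Y_o (Y_ub c)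

theorem Y_card (c : Ctx CL.O8S.M.P e gs ns D chk) :
    Nat.card (subW gs [[352], [354]]) = 23040 :=
  (Y_ex c).card.trans Y_o

theorem ceG_c : CL.O8S.M.P.chainB ns D ceG_vs [[0], [2]] = true :=
  zc139

theorem ceG_o : prodL ceG_vs 1 = 348364800 := by decide +kernel

theorem ce (c : Ctx CL.O8S.M.P e gs ns D chk) [Finite G] (hU : UB (subW gs [[0], [2]]) 348364800) :
    (subW gs [[0], [2]]) ⊓ Subgroup.centralizer (subW gs [[242]] : Set G) = (subW gs [[336], [338]]) :=
  c.cent (lx := [[242]]) (Rels.nil _) (c.sOk (c.exact ceG_c ceG_o hU) zs140) (fun _ h => by cases h)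
    (c.fixX zf138) (c.rels _ zr143) zm144 zs142

theorem nY (c : Ctx CL.O8S.M.P e gs ns D chk) [Finite G] :
    (subW gs [[336], [338]]) ≤ Subgroup.normalizer (subW gs [[352], [354]] : Set G) :=
  have hfin : Finite (subW gs [[352], [354]]) := inferInstance
  (c.le_normalizer (cj := zcj145) hfin (c.rels _ zr147) zm146)

theorem hC (c : Ctx CL.O8S.M.P e gs ns D chk) [Finite G] (hU : UB (subW gs [[0], [2]]) 348364800) :
    (subW gs [[0], [2]]) ⊓ C1 (wordG gs [242]) = (subW gs [[336], [338]]) :=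
  c1_of (ce c hU)

theorem y1 (c : Ctx CL.O8S.M.P e gs ns D chk) [Finite G] :
    Yo (subW gs [[336], [338]]) ≤ (subW gs [[352], [354]]) :=
  Yo_le_c (c.le zm148) (nY c) (C_card c) (Y_card c) 1 (by norm_num)

theorem y2 (c : Ctx CL.O8S.M.P e gs ns D chk) :
    (subW gs [[352], [354]]) ≤ Yo (subW gs [[336], [338]]) :=
  le_Yo (c.le zm150) (c.rels _ zr149)

theorem dw (c : Ctx CL.O8S.M.P e gs ns D chk) [Finite G] (hU : UB (subW gs [[0], [2]]) 348364800) :
    DW (subW gs [[0], [2]]) (wordG gs [242]) = (subW gs [[352], [354]]) :=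
  DW_eq1 (hC c hU) (y1 c) (y2 c) (c.le_of_rels (ws := [[352], [354]]) (l := [[458], [460]]) (c.rels _ zr155) zm154)
    (le_Dt (c.le zm152) (c.rels _ zr151))

theorem fx (c : Ctx CL.O8S.M.P e gs ns D chk) [Finite G] (hU : UB (subW gs [[0], [2]]) 348364800) :
    FC (subW gs [[0], [2]]) (wordG gs [236]) (wordG gs [242]) :=
  ⟨by rw [dw c hU]; exact Y_card c, by rw [dw c hU]; exact (by exact mem_w c (W (nat_lit 0x5a967585655b161)) (by decide +kernel) (by decide +kernel))⟩

theorem res : FC (subW M.gs1 [[0], [2]]) (wordG M.gs1 [236]) (wordG M.gs1 [242]) := by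
  have s := fun l => subW_ext (len M.c1) ws (l := l)
  have t := fun w => wordG_ext (len M.c1) ws (w := w)
  have h := fx (ctx M.c1 (faithful_eF _) fun _ _ => trivial) (by rw [s [[0], [2]] (by decide +kernel)]; exact M.N_ub M.c1)
  rwa [s [[0], [2]] (by decide +kernel), t [236] (by decide +kernel), t [242] (by decide +kernel)] at h


end CL.O8S.MC
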